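import Cfsg.Agent.Compute.M22Outer
import Cfsg.Agent.S2062

/-!
# The stabiliser of a pair of points in M24 is the automorphism group of M22
-/

set_option autoImplicit false

namespace Cfsg.Agent.J4Type

open Cfsg Cfsg.Agent.Compute
open scoped Pointwise

/-- The stabiliser of an unordered pair of points in M24. -/
def duadStab (a b : GolayPt) : Subgroup (Equiv.Perm GolayPt) :=
  M24 ⊓ MulAction.stabilizer (Equiv.Perm GolayPt) ({a, b} : Finset GolayPt)

theorem mem_duadStab {a b : GolayPt} {g : Equiv.Perm GolayPt} :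
    g ∈ duadStab a b ↔ g ∈ M24 ∧ (g a = a ∧ g b = b ∨ g a = b ∧ g b = a) := by
  show g ∈ M24 ∧ g • ({a, b} : Finset GolayPt) = {a, b} ↔ _
  rw [Finset.smul_finset_insert, Finset.smul_finset_singleton]
  refine and_congr Iff.rfl ⟨fun h => ?_, fun h => ?_⟩
  · have ha : g a ∈ ({a, b} : Finset GolayPt) := h ▸ Finset.mem_insert_self _ _
    have hb : g b ∈ ({a, b} : Finset GolayPt) :=
      h ▸ Finset.mem_insert_of_mem (Finset.mem_singleton_self _)
    simp only [Finset.mem_insert, Finset.mem_singleton] at ha hb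
    rcases ha with ha | ha <;> rcases hb with hb | hb
    · obtain rfl := g.injective (ha.trans hb.symm)
      exact Or.inl ⟨ha, ha⟩
    · exact Or.inl ⟨ha, hb⟩
    · exact Or.inr ⟨ha, hb⟩
    · obtain rfl := g.injective (ha.trans hb.symm)
      exact Or.inl ⟨ha, ha⟩
  · rcases h with ⟨ha, hb⟩ | ⟨ha, hb⟩
    · simp [Equiv.Perm.smul_def, ha, hb]
    · simp [Equiv.Perm.smul_def, ha, hb, Finset.pair_comm]

theorem m22_le_duadStab : Spor.M22 ≤ duadStab none (some 0) := fun x hx =>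
  mem_duadStab.2 ⟨hx.1.1, Or.inl ⟨hx.1.2, hx.2⟩⟩

theorem conj_mem_m22 {g x : Equiv.Perm GolayPt} (hg : g ∈ duadStab none (some 0)) (hx : x ∈ Spor.M22) :
    g * x * g⁻¹ ∈ Spor.M22 := by
  obtain ⟨hm, h⟩ := mem_duadStab.1 hg
  have h0 : x none = none := hx.1.2
  have h1 : x (some 0) = some 0 := hx.2
  refine ⟨⟨M24.mul_mem (M24.mul_mem hm hx.1.1) (M24.inv_mem hm), MulAction.mem_stabilizer_iff.2 ?_⟩,
    MulAction.mem_stabilizer_iff.2 ?_⟩
  all_goals
    rw [Equiv.Perm.smul_def, Equiv.Perm.mul_apply, Equiv.Perm.mul_apply]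
    rcases h with ⟨ha, hb⟩ | ⟨ha, hb⟩
  · rw [show g⁻¹ none = none from Equiv.Perm.inv_eq_iff_eq.2 ha.symm, h0, ha]
  · rw [show g⁻¹ none = some 0 from Equiv.Perm.inv_eq_iff_eq.2 hb.symm, h1, hb]
  · rw [show g⁻¹ (some 0) = some 0 from Equiv.Perm.inv_eq_iff_eq.2 hb.symm, h1, hb]
  · rw [show g⁻¹ (some 0) = none from Equiv.Perm.inv_eq_iff_eq.2 ha.symm, h0, ha]

/-- An element of the stabiliser acts on M22 by conjugation. -/
def pairAct (g : ↥(duadStab none (some 0))) : MulAut ↥Spor.M22 where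
  toFun x := ⟨(g : Equiv.Perm GolayPt) * x * (g : Equiv.Perm GolayPt)⁻¹, conj_mem_m22 g.2 x.2⟩
  invFun x := ⟨((g⁻¹ : ↥(duadStab none (some 0))) : Equiv.Perm GolayPt) * x *
    ((g⁻¹ : ↥(duadStab none (some 0))) : Equiv.Perm GolayPt)⁻¹, conj_mem_m22 (g⁻¹).2 x.2⟩
  left_inv x := Subtype.ext (by simp [mul_assoc])
  right_inv x := Subtype.ext (by simp [mul_assoc])
  map_mul' x y := Subtype.ext (by simp [mul_assoc])

theorem pairAct_apply (g : ↥(duadStab none (some 0))) (x : ↥Spor.M22) :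
    (pairAct g x : Equiv.Perm GolayPt) = g * x * (g : Equiv.Perm GolayPt)⁻¹ := rfl

theorem m22_center : Subgroup.center ↥Spor.M22 = ⊥ := by
  have := Compute.isSimpleGroup_m22
  rcases (inferInstance : (Subgroup.center ↥Spor.M22).Normal).eq_bot_or_eq_top with h | h
  · exact h
  · exfalso
    have hc : ∀ x y : ↥Spor.M22, x * y = y * x := fun x y =>
      (Subgroup.mem_center_iff.1 (h ▸ Subgroup.mem_top y) x)
    let _ : CommGroup ↥Spor.M22 := { (inferInstance : Group ↥Spor.M22) with mul_comm := hc }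
    have hp : (Nat.card ↥Spor.M22).Prime := IsSimpleGroup.prime_card
    rw [Compute.card_m22] at hp
    norm_num at hp

theorem card_mulAut_m22 : Nat.card (MulAut ↥Spor.M22) = 887040 := by
  have h := Subgroup.card_eq_card_quotient_mul_card_subgroup (Inn ↥Spor.M22)
  have hi : Nat.card ↥(Inn ↥Spor.M22) = 443520 := by
    rw [← Compute.card_m22]
    refine (Nat.card_congr (MonoidHom.ofInjective ?_).toEquiv).symm
    refine (injective_iff_map_eq_one _).2 fun x hx => ?_
    have : x ∈ Subgroup.center ↥Spor.M22 := Subgroup.mem_center_iff.2 fun y => by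
      have e : x * y * x⁻¹ = y := by
        rw [← MulAut.conj_apply, hx]
        rfl
      exact (mul_inv_eq_iff_eq_mul.1 e).symm
    rwa [m22_center, Subgroup.mem_bot] at this
  rw [show Nat.card (MulAut ↥Spor.M22 ⧸ Inn ↥Spor.M22) = 2 from S2062.result, hi] at h
  exact h

theorem pairAct_eq_one {g : ↥(duadStab none (some 0))} (h : pairAct g = 1) : g = 1 := by
  have hc : ∀ x ∈ Spor.M22, (g : Equiv.Perm GolayPt) * x * (g : Equiv.Perm GolayPt)⁻¹ = x :=
    fun x hx => congrArg (fun f : MulAut ↥Spor.M22 => ((f ⟨x, hx⟩ : ↥Spor.M22) : Equiv.Perm GolayPt)) h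
  obtain ⟨hm, hh⟩ := mem_duadStab.1 g.2
  rcases hh with ⟨ha, hb⟩ | ⟨ha, hb⟩
  · have hg : (g : Equiv.Perm GolayPt) ∈ Spor.M22 :=
      ⟨⟨hm, MulAction.mem_stabilizer_iff.2 ha⟩, MulAction.mem_stabilizer_iff.2 hb⟩
    have : (⟨g, hg⟩ : ↥Spor.M22) ∈ Subgroup.center ↥Spor.M22 :=
      Subgroup.mem_center_iff.2 fun y => Subtype.ext (mul_inv_eq_iff_eq_mul.1 (hc y y.2)).symm
    rw [m22_center, Subgroup.mem_bot] at this
    exact Subtype.ext (congrArg (fun y : ↥Spor.M22 => (y : Equiv.Perm GolayPt)) this)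
  · exact absurd ⟨1, one_mem _, fun x hx => by rw [hc x hx]; simp⟩
      (m22_conj_not_inner hm ha hb)

/-- The conjugation action as a homomorphism. -/
def pairHom : ↥(duadStab none (some 0)) →* MulAut ↥Spor.M22 where
  toFun := pairAct
  map_one' := MulEquiv.ext fun x => Subtype.ext (by simp [pairAct_apply])
  map_mul' g h := MulEquiv.ext fun x => Subtype.ext (by
    simp [pairAct_apply, MulAut.mul_apply, mul_assoc])

theorem duad_equiv_base : Nonempty (↥(duadStab none (some 0)) ≃* MulAut ↥Spor.M22) := by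
  have : Finite (MulAut ↥Spor.M22) :=
    Finite.of_injective (fun f => (f : ↥Spor.M22 → ↥Spor.M22)) DFunLike.coe_injective
  exact ⟨MulEquiv.ofBijective pairHom ((Nat.bijective_iff_injective_and_card _).2
    ⟨(injective_iff_map_eq_one _).2 fun g hg => pairAct_eq_one hg,
      card_stab_pairRoot.trans card_mulAut_m22.symm⟩)⟩

/-- **The stabiliser of any pair of points in M24 is the automorphism group of M22.** -/
theorem duad_equiv {a b : GolayPt} (hab : a ≠ b) :
    Nonempty (↥(duadStab a b) ≃* MulAut ↥Spor.M22) := by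
  obtain ⟨g, hg, e⟩ := m24_tupleTrans2 [a, b] (by simp [hab]) (fun p _ => Set.mem_univ p) rfl
  simp only [List.map_cons, List.map_nil, List.cons.injEq, and_true, rep24_pt23, rep24_pt0] at e
  obtain ⟨rfl, rfl⟩ := e
  obtain ⟨f⟩ := duad_equiv_base
  have hinv : ∀ p, g⁻¹ (g p) = p := fun p => g.symm_apply_apply p
  have hmap : (duadStab none (some 0)).map (MulAut.conj g).toMonoidHom =
      duadStab (g none) (g (some 0)) := by
    ext x
    rw [Subgroup.mem_map]
    constructor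
    · rintro ⟨y, hy, rfl⟩
      obtain ⟨hm, hh⟩ := mem_duadStab.1 hy
      refine mem_duadStab.2 ⟨M24.mul_mem (M24.mul_mem hg hm) (M24.inv_mem hg), ?_⟩
      simp only [MulEquiv.toMonoidHom_eq_coe, MonoidHom.coe_coe, MulAut.conj_apply, Equiv.Perm.mul_apply,
        hinv]
      rcases hh with ⟨ha, hb⟩ | ⟨ha, hb⟩
      · exact Or.inl ⟨by rw [ha], by rw [hb]⟩
      · exact Or.inr ⟨by rw [ha], by rw [hb]⟩
    · intro hx
      obtain ⟨hm, hh⟩ := mem_duadStab.1 hx
      refine ⟨g⁻¹ * x * g, mem_duadStab.2 ⟨M24.mul_mem (M24.mul_mem (M24.inv_mem hg) hm) hg, ?_⟩, ?_⟩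
      · simp only [Equiv.Perm.mul_apply]
        rcases hh with ⟨ha, hb⟩ | ⟨ha, hb⟩
        · exact Or.inl ⟨by rw [ha, hinv], by rw [hb, hinv]⟩
        · exact Or.inr ⟨by rw [ha, hinv], by rw [hb, hinv]⟩
      · simp only [MulEquiv.toMonoidHom_eq_coe, MonoidHom.coe_coe, MulAut.conj_apply]
        group
  exact ⟨((MulEquiv.subgroupCongr hmap.symm).trans
    (Subgroup.equivMapOfInjective _ (MulAut.conj g).toMonoidHom (MulAut.conj g).injective).symm).trans f⟩

end Cfsg.Agent.J4Type
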