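import Cfsg.Agent.J4Type.LinFacts
import Cfsg.Agent.LargeExtra.SingularSubgroup

/-!
# The dictionary between `E N_H(P)` and the action on `E / ⟨z⟩`
-/

set_option autoImplicit false

open Cfsg Subgroup

namespace Cfsg.Agent.J4Type

open LargeExtra (oc oc_conj_mem oc_le)

variable {G : Type*} [Group G] [Finite G] {z : G} {P : Subgroup G} {V : Type*} [AddCommGroup V]
  {π : ↥(oc z) →* Multiplicative V} {ρ : ↥(mSub z P) →* Equiv.Perm V} {q : V → ZMod 2}

/-- The vector of an element of `E`. -/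
noncomputable def vec (π : ↥(oc z) →* Multiplicative V) (e : G) : V :=
  open scoped Classical in
  if h : e ∈ oc z then Multiplicative.toAdd (π ⟨e, h⟩) else 0

/-- The permutation of an element of `M`. -/
noncomputable def act (ρ : ↥(mSub z P) →* Equiv.Perm V) (m : G) : Equiv.Perm V :=
  open scoped Classical in
  if h : m ∈ mSub z P then ρ ⟨m, h⟩ else 1

theorem act_of_mem {m : G} (h : m ∈ mSub z P) : act ρ m = ρ ⟨m, h⟩ := dif_pos h

theorem act_mul {m n : G} (hm : m ∈ mSub z P) (hn : n ∈ mSub z P) :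
    act ρ (m * n) = act ρ m * act ρ n := by
  rw [act_of_mem hm, act_of_mem hn, act_of_mem (mul_mem hm hn), ← map_mul]; rfl

theorem act_inv {m : G} (hm : m ∈ mSub z P) : act ρ m⁻¹ = (act ρ m)⁻¹ := by
  rw [act_of_mem hm, act_of_mem (inv_mem hm), ← map_inv]; rfl

theorem act_one : act ρ (1 : G) = 1 := by rw [act_of_mem (one_mem _)]; exact map_one ρ

theorem vec_of_mem {e : G} (h : e ∈ oc z) :
    vec π e = Multiplicative.toAdd (π ⟨e, h⟩) := dif_pos h

theorem vec_mul {e f : G} (he : e ∈ oc z) (hf : f ∈ oc z) :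
    vec π (e * f) = vec π e + vec π f := by
  rw [vec_of_mem he, vec_of_mem hf, vec_of_mem (mul_mem he hf)]
  exact congrArg Multiplicative.toAdd (π.map_mul ⟨e, he⟩ ⟨f, hf⟩)

theorem vec_one : vec π (1 : G) = 0 := by
  rw [vec_of_mem (one_mem _)]; exact congrArg Multiplicative.toAdd π.map_one

namespace ActData

variable (D : ActData z P π ρ q)
include D

theorem zz : z * z = 1 := D.set'.sq_one

theorem zinv : z⁻¹ = z := inv_eq_of_mul_eq_one_right D.zz

theorem z_ne : z ≠ 1 := D.set'.ne_one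

theorem z_mem : z ∈ oc z := LargeExtra.mem_oc_self D.set'.ord

theorem mem_zp {x : G} : x ∈ zpowers z ↔ x = 1 ∨ x = z := by
  constructor
  · rintro ⟨k, rfl⟩
    rcases Int.even_or_odd' k with ⟨j, rfl | rfl⟩
    · left; show z ^ (2 * j) = 1; rw [zpow_mul, zpow_two, D.zz, one_zpow]
    · right; show z ^ (2 * j + 1) = z
      rw [zpow_add_one, zpow_mul, zpow_two, D.zz, one_zpow, one_mul]
  · rintro (rfl | rfl)
    · exact one_mem _
    · exact mem_zpowers _

theorem neg_self (v : V) : -v = v := neg_eq_of_add_eq_zero_left (D.two v)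

theorem vec_inv {e : G} (he : e ∈ oc z) : vec π e⁻¹ = vec π e := by
  have := vec_mul (π := π) (inv_mem he) he
  rw [inv_mul_cancel, vec_one] at this
  rw [← D.neg_self (vec π e)]
  exact eq_neg_of_add_eq_zero_left this.symm

theorem vec_eq_zero {e : G} (he : e ∈ oc z) : vec π e = 0 ↔ e = 1 ∨ e = z := by
  rw [vec_of_mem he, toAdd_eq_zero, D.ker, D.mem_zp]

theorem vec_z : vec π z = 0 := (D.vec_eq_zero D.z_mem).2 (Or.inr rfl)

theorem vec_eq {e f : G} (he : e ∈ oc z) (hf : f ∈ oc z) (h : vec π e = vec π f) :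
    e = f ∨ e = f * z := by
  have h0 : vec π (f⁻¹ * e) = 0 := by rw [vec_mul (inv_mem hf) he, D.vec_inv hf, h, D.two]
  rcases (D.vec_eq_zero (mul_mem (inv_mem hf) he)).1 h0 with h1 | h1
  · exact Or.inl (eq_of_inv_mul_eq_one h1).symm
  · exact Or.inr (inv_mul_eq_iff_eq_mul.1 h1)

theorem exists_vec (v : V) : ∃ e ∈ oc z, vec π e = v := by
  obtain ⟨e, he⟩ := D.surj (Multiplicative.ofAdd v)
  exact ⟨e, e.2, by rw [vec_of_mem e.2, Subtype.coe_eta, he]; rfl⟩

theorem sq_eq_one {e : G} (he : e ∈ oc z) : e * e = 1 ↔ q (vec π e) = 0 := by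
  rw [vec_of_mem he]
  refine ⟨fun h => ?_, (D.square ⟨e, he⟩).1⟩
  by_contra hq
  exact D.z_ne (((D.square ⟨e, he⟩).2 hq).symm.trans h)

theorem mSub_le {m : G} (hm : m ∈ mSub z P) : m ∈ centralizer ({z} : Set G) := hm.1

theorem comm_z {m : G} (hm : m ∈ centralizer ({z} : Set G)) : Commute m z :=
  mem_centralizer_singleton_iff.1 hm

theorem conj_mem {m e : G} (hm : m ∈ centralizer ({z} : Set G)) (he : e ∈ oc z) :
    m * e * m⁻¹ ∈ oc z :=
  oc_conj_mem hm he

theorem vec_conj {m e : G} (hm : m ∈ mSub z P) (he : e ∈ oc z) :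
    vec π (m * e * m⁻¹) = act ρ m (vec π e) := by
  have hce : m * e * m⁻¹ ∈ oc z := conj_mem D hm.1 he
  rw [vec_of_mem hce, vec_of_mem he, act_of_mem hm]
  exact D.conj ⟨m, hm⟩ ⟨e, he⟩ ⟨_, hce⟩ rfl

theorem act_add {m : G} (hm : m ∈ mSub z P) (v w : V) :
    act ρ m (v + w) = act ρ m v + act ρ m w := by
  obtain ⟨e, he, rfl⟩ := D.exists_vec v
  obtain ⟨f, hf, rfl⟩ := D.exists_vec w
  rw [← vec_mul he hf, ← D.vec_conj hm (mul_mem he hf), ← D.vec_conj hm he, ← D.vec_conj hm hf,
    ← vec_mul (conj_mem D hm.1 he) (conj_mem D hm.1 hf)]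
  congr 1
  group

theorem act_zero {m : G} (hm : m ∈ mSub z P) : act ρ m 0 = 0 := by
  rw [← vec_one (π := π), ← D.vec_conj hm (one_mem _), mul_one, mul_inv_cancel]

theorem act_eq_one {m : G} (hm : m ∈ mSub z P) : act ρ m = 1 ↔ m = 1 ∨ m = z := by
  rw [act_of_mem hm, D.faithful, D.mem_zp]

theorem comm_cases {e f : G} (he : e ∈ oc z) (hf : f ∈ oc z) :
    e * f * e⁻¹ = f ∨ e * f * e⁻¹ = f * z := by
  rcases D.set'.commutator_cases he hf with h | h
  · exact Or.inl (mul_inv_eq_one.1 h)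
  · right
    rw [mul_inv_eq_iff_eq_mul] at h
    exact h.trans (D.comm_z (oc_le z hf)).eq.symm

theorem polar_eq {e f : G} (he : e ∈ oc z) (hf : f ∈ oc z) :
    polar2 q (vec π e) (vec π f) = 0 ↔ Commute e f := by
  have hz : ∀ {x : G}, x ∈ oc z → Commute x z := fun hx => D.comm_z (oc_le z hx)
  have hsq : ∀ {x : G}, x ∈ oc z → (q (vec π x) = 0 ∧ x * x = 1) ∨ (q (vec π x) = 1 ∧ x * x = z) := by
    intro x hx
    rcases (show ∀ a : ZMod 2, a = 0 ∨ a = 1 by decide) (q (vec π x)) with h | h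
    · exact Or.inl ⟨h, (D.sq_eq_one hx).2 h⟩
    · refine Or.inr ⟨h, ?_⟩
      rw [vec_of_mem hx] at h
      exact (D.square ⟨x, hx⟩).2 (by rw [h]; decide)
  have key : ∀ a : G, Commute e f → a = e * f → a * a = e * e * (f * f) := by
    rintro a hc rfl; exact hc.symm.mul_mul_mul_comm e f
  have key' : e * f * e⁻¹ = f * z → (e * f) * (e * f) = e * e * (f * f) * z := by
    intro h
    have hef : e * f = f * z * e := mul_inv_eq_iff_eq_mul.1 h
    have hfe : f * e = e * f * z := by
      rw [hef, mul_assoc (f * z), (hz he).eq, ← mul_assoc (f * z), mul_assoc f z z, D.zz, mul_one]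
    calc e * f * (e * f) = e * (f * e) * f := by simp only [mul_assoc]
      _ = e * (e * f * z) * f := by rw [hfe]
      _ = e * e * (f * (z * f)) := by simp only [mul_assoc]
      _ = e * e * (f * f) * z := by rw [(hz hf).symm.eq]; simp only [mul_assoc]
  have hzne : ¬ z = 1 := D.z_ne
  have hzne' : ¬ (1 : G) = z := fun h => hzne h.symm
  have hp := hsq (mul_mem he hf)
  rw [vec_mul he hf] at hp
  rw [polar2]
  rcases D.comm_cases he hf with h | h
  · have hc : Commute e f := mul_inv_eq_iff_eq_mul.1 h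
    have hk := key _ hc rfl
    simp only [hc, iff_true]
    rcases hsq he with ⟨a1, a2⟩ | ⟨a1, a2⟩ <;> rcases hsq hf with ⟨b1, b2⟩ | ⟨b1, b2⟩ <;>
      rcases hp with ⟨c1, c2⟩ | ⟨c1, c2⟩ <;> rw [a1, b1, c1] <;>
      rw [a2, b2, c2] at hk <;>
      first
        | decide
        | (exfalso; simp only [one_mul, mul_one, D.zz] at hk; first | exact hzne hk | exact hzne' hk)
  · have hc : ¬ Commute e f := fun hc => by
      rw [hc.eq, mul_inv_cancel_right, left_eq_mul] at h; exact hzne h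
    have hk := key' h
    simp only [hc, iff_false]
    rcases hsq he with ⟨a1, a2⟩ | ⟨a1, a2⟩ <;> rcases hsq hf with ⟨b1, b2⟩ | ⟨b1, b2⟩ <;>
      rcases hp with ⟨c1, c2⟩ | ⟨c1, c2⟩ <;> rw [a1, b1, c1] <;>
      rw [a2, b2, c2] at hk <;>
      first
        | decide
        | (exfalso; simp only [one_mul, mul_one, D.zz] at hk; first | exact hzne hk | exact hzne' hk)

/-- `P` has no non-trivial fixed point on `V`. -/
theorem fpf {p w : G} (hp : p ∈ P) (hp1 : p ≠ 1) (hw : w ∈ oc z)
    (hfix : act ρ p (vec π w) = vec π w) : vec π w = 0 := by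
  obtain ⟨-, -, -, -, ⟨N, -, hN, -, -, -, hPN⟩, hcard, hfixed, -, -⟩ := D.hJ
  have := Fact.mk Nat.prime_three
  have hpH : p ∈ centralizer ({z} : Set G) := hN (hPN hp)
  have hpM : p ∈ mSub z P := ⟨hpH, le_normalizer hp⟩
  have hgen : zpowers p = P := eq_of_le_of_card_ge (zpowers_le.2 hp) (by
    rw [Nat.card_zpowers, hcard, orderOf_eq_prime (p := 3) ?_ hp1]
    have := congrArg Subtype.val (pow_card_eq_one' (x := (⟨p, hp⟩ : P)))
    rwa [hcard] at this)
  have hp3 : p * p * p = 1 := by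
    have := congrArg Subtype.val (pow_card_eq_one' (x := (⟨p, hp⟩ : P)))
    rw [hcard] at this
    simpa [pow_succ, mul_assoc] using this
  have hc : Commute p w := by
    rcases D.vec_eq (conj_mem D hpH hw) hw (by rw [D.vec_conj hpM hw, hfix]) with h | h
    · exact mul_inv_eq_iff_eq_mul.1 h
    · exfalso
      have hzc : p * z * p⁻¹ = z := mul_inv_eq_iff_eq_mul.2 (D.comm_z hpH).eq
      have h2 : p * (p * w * p⁻¹) * p⁻¹ = w := by
        rw [h, show p * (w * z) * p⁻¹ = p * w * p⁻¹ * (p * z * p⁻¹) by group, h, hzc, mul_assoc,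
          D.zz, mul_one]
      have h3 : w = w * z := by
        calc w = (p * p * p) * w * (p * p * p)⁻¹ := by simp [hp3]
          _ = p * (p * (p * w * p⁻¹) * p⁻¹) * p⁻¹ := by group
          _ = w * z := by rw [h2, h]
      exact D.z_ne (left_eq_mul.1 h3)
  have hwP : w ∈ centralizer (P : Set G) := mem_centralizer_iff.2 fun y hy => by
    rw [← hgen] at hy
    obtain ⟨k, rfl⟩ := hy
    exact (hc.zpow_left k).eq
  exact (D.vec_eq_zero hw).2 (D.mem_zp.1 (hfixed.le ⟨hw, hwP⟩))

/-- An element of `N_H(P)` fixing the vector of `e` commutes with `e`, if it centralises `P` or `e` is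
an involution. -/
theorem commute_of_fix {m e : G} (hm : m ∈ mSub z P) (he : e ∈ oc z)
    (hfix : act ρ m (vec π e) = vec π e) (hor : m ∈ cSub z P ∨ e * e = 1) : Commute m e := by
  obtain ⟨-, -, -, -, ⟨N, -, hN, -, -, -, hPN⟩, hcard, -, -, -⟩ := D.hJ
  have := Fact.mk Nat.prime_three
  obtain ⟨⟨p, hp⟩, hp'⟩ : ∃ p : P, p ≠ 1 := by
    haveI : Nontrivial P := Finite.one_lt_card_iff_nontrivial.1 (by omega)
    exact exists_ne 1
  have hp1 : p ≠ 1 := fun h => hp' (Subtype.ext h)
  have hpH : p ∈ centralizer ({z} : Set G) := hN (hPN hp)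
  have hpM : p ∈ mSub z P := ⟨hpH, le_normalizer hp⟩
  have hp3 : p * p * p = 1 := by
    have := congrArg Subtype.val (pow_card_eq_one' (x := (⟨p, hp⟩ : P)))
    rw [hcard] at this
    simpa [pow_succ, mul_assoc] using this
  set a := p * e * p⁻¹ with ha
  set b := p * a * p⁻¹ with hb
  have hae : a ∈ oc z := conj_mem D hpH he
  have hbe : b ∈ oc z := conj_mem D hpH hae
  have hpb : p * b * p⁻¹ = e := by
    calc p * b * p⁻¹ = (p * p * p) * e * (p * p * p)⁻¹ := by rw [hb, ha]; group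
      _ = e := by simp [hp3]
  have hπm : e * a * b ∈ oc z := mul_mem (mul_mem he hae) hbe
  have hπ : e * a * b = 1 ∨ e * a * b = z := by
    refine (D.vec_eq_zero hπm).1 (D.fpf hp hp1 hπm ?_)
    rw [← D.vec_conj hpM hπm, show p * (e * a * b) * p⁻¹ = a * b * (p * b * p⁻¹) by rw [hb, ha]; group,
      hpb, vec_mul (mul_mem hae hbe) he, vec_mul hae hbe, vec_mul (mul_mem he hae) hbe,
      vec_mul he hae]
    abel
  have hzc : ∀ {x : G}, x ∈ centralizer ({z} : Set G) → x * z * x⁻¹ = z := fun hx =>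
    mul_inv_eq_iff_eq_mul.2 (D.comm_z hx).eq
  have hmπ : m * (e * a * b) * m⁻¹ = e * a * b := by
    rcases hπ with h | h <;> rw [h]
    · group
    · exact hzc hm.1
  rcases D.vec_eq (conj_mem D hm.1 he) he (by rw [D.vec_conj hm he, hfix]) with h | h
  · exact mul_inv_eq_iff_eq_mul.1 h
  exfalso
  have zc : ∀ {x : G}, x ∈ oc z → z * x = x * z := fun hx => (D.comm_z (oc_le z hx)).eq.symm
  by_cases hmc : m ∈ cSub z P
  · have hmp : Commute m p := (mem_centralizer_iff.1 hmc.2 p hp).symm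
    have hca : m * a * m⁻¹ = a * z := by
      calc m * a * m⁻¹ = (m * p) * e * (m * p)⁻¹ := by rw [ha]; group
        _ = p * (m * e * m⁻¹) * p⁻¹ := by rw [hmp.eq]; group
        _ = p * e * p⁻¹ * (p * z * p⁻¹) := by rw [h]; group
        _ = a * z := by rw [hzc hpH, ha]
    have hcb : m * b * m⁻¹ = b * z := by
      calc m * b * m⁻¹ = (m * p) * a * (m * p)⁻¹ := by rw [hb]; group
        _ = p * (m * a * m⁻¹) * p⁻¹ := by rw [hmp.eq]; group
        _ = p * a * p⁻¹ * (p * z * p⁻¹) := by rw [hca]; group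
        _ = b * z := by rw [hzc hpH, hb]
    apply D.z_ne
    have h' := hmπ
    rw [show m * (e * a * b) * m⁻¹ = (m * e * m⁻¹) * (m * a * m⁻¹) * (m * b * m⁻¹) by group,
      h, hca, hcb] at h'
    rw [show e * z * (a * z) * (b * z) = e * (z * a) * (z * b) * z by group, zc hae, zc hbe,
      show e * (a * z) * (b * z) * z = e * a * (z * b) * (z * z) by group, zc hbe, D.zz, mul_one,
      ← mul_assoc] at h'
    exact mul_eq_left.1 h'
  · have he2 : e * e = 1 := hor.resolve_left hmc
    have ha2 : a * a = 1 := by rw [ha, show p * e * p⁻¹ * (p * e * p⁻¹) = p * (e * e) * p⁻¹ by group, he2]; group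
    have hb2 : b * b = 1 := by rw [hb, show p * a * p⁻¹ * (p * a * p⁻¹) = p * (a * a) * p⁻¹ by group, ha2]; group
    have hmp : m * p = p * p * m := by
      have h1 := mul_inv_eq_iff_eq_mul.1 (D.inverts m hm hmc p hp)
      rwa [show p⁻¹ = p * p from inv_eq_of_mul_eq_one_left hp3] at h1
    have hca : m * a * m⁻¹ = b * z := by
      calc m * a * m⁻¹ = (m * p) * e * (m * p)⁻¹ := by rw [ha]; group
        _ = p * p * (m * e * m⁻¹) * (p * p)⁻¹ := by rw [hmp]; group
        _ = p * (p * e * p⁻¹) * p⁻¹ * (p * (p * z * p⁻¹) * p⁻¹) := by rw [h]; group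
        _ = b * z := by rw [hzc hpH, hzc hpH, hb, ha]
    have hcb : m * b * m⁻¹ = a * z := by
      calc m * b * m⁻¹ = (m * p) * a * (m * p)⁻¹ := by rw [hb]; group
        _ = p * p * (m * a * m⁻¹) * (p * p)⁻¹ := by rw [hmp]; group
        _ = p * (p * b * p⁻¹) * p⁻¹ * (p * (p * z * p⁻¹) * p⁻¹) := by rw [hca]; group
        _ = a * z := by rw [hpb, hzc hpH, hzc hpH, ha]
    have hab : Commute a b := by
      rcases D.comm_cases hae hbe with hh | hh
      · exact mul_inv_eq_iff_eq_mul.1 hh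
      exfalso
      have hw : (a * b) * (a * b) = 1 := by
        have hab' : a * b = e * (e * a * b) := by
          rw [show e * (e * a * b) = e * e * (a * b) by group, he2, one_mul]
        rcases hπ with hh' | hh' <;> rw [hh'] at hab' <;> rw [hab']
        · rw [mul_one, he2]
        · rw [show e * z * (e * z) = e * (z * e) * z by group, zc he,
            show e * (e * z) * z = e * e * (z * z) by group, he2, D.zz, mul_one]
      apply D.z_ne
      rw [inv_eq_of_mul_eq_one_right ha2] at hh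
      calc z = (b * b) * z := by rw [hb2, one_mul]
        _ = b * (b * z) := mul_assoc _ _ _
        _ = b * (a * b * a) := by rw [hh]
        _ = a * (a * b * (a * b)) * a⁻¹ := by
          rw [inv_eq_of_mul_eq_one_right ha2]
          calc b * (a * b * a) = (a * a) * b * (a * b * a) := by rw [ha2, one_mul]
            _ = a * (a * b * (a * b)) * a := by simp only [mul_assoc]
        _ = 1 := by rw [hw]; group
    apply D.z_ne
    have h' := hmπ
    rw [show m * (e * a * b) * m⁻¹ = (m * e * m⁻¹) * (m * a * m⁻¹) * (m * b * m⁻¹) by group,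
      h, hca, hcb] at h'
    rw [show e * z * (b * z) * (a * z) = e * (z * b) * (z * a) * z by group, zc hbe, zc hae,
      show e * (b * z) * (a * z) * z = e * b * (z * a) * (z * z) by group, zc hae, D.zz, mul_one,
      ← mul_assoc, mul_assoc e b a, ← hab.eq, ← mul_assoc] at h'
    exact mul_eq_left.1 h'

end ActData

end Cfsg.Agent.J4Type
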