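import Cfsg.Agent.LargeExtra.Singular
import Cfsg.Prelude.Def_JankoFourType

/-!
# The interface of the fusion arguments in a group of Janko-four type

`LinFacts` collects what is needed about the action of `M = N_H(P)` on `V = E / ⟨z⟩`; it only speaks of
linear maps. `ActData` is the dictionary between the group and this action.
-/

set_option autoImplicit false

open Cfsg Subgroup

namespace Cfsg.Agent.J4Type

section Lin

variable {V : Type*} [AddCommGroup V]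

/-- The bilinear form of a quadratic form. -/
def polar2 (q : V → ZMod 2) (v w : V) : ZMod 2 := q (v + w) + q v + q w

/-- The vectors orthogonal to `v`, on which `Q` acts trivially modulo `⟨v⟩`. -/
def kernelSet (q : V → ZMod 2) (Q : Subgroup (Equiv.Perm V)) (v : V) : Set V :=
  {w | polar2 q v w = 0 ∧ ∀ γ ∈ Q, γ w + w = 0 ∨ γ w + w = v}

/-- The image of `γ - 1` on the perp of `v`, saturated by `v`. -/
def commSet (q : V → ZMod 2) (γ : Equiv.Perm V) (v : V) : Set V :=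
  {w | ∃ u, polar2 q v u = 0 ∧ (w = γ u + u ∨ w = γ u + u + v)}

/-- Facts about `Γ ≅ 3.M₂₂.2` and its subgroup `Γ₀ ≅ 3.M₂₂` on `V`; `v₀` spans a point of the short
orbit, `Q₀` is the normal elementary abelian subgroup of order 32 of its stabiliser. -/
structure LinFacts (Γ Γ₀ : Subgroup (Equiv.Perm V)) (q : V → ZMod 2) (v₀ f₀ : V)
    (Q₀ : Subgroup (Equiv.Perm V)) : Prop where
  le : Γ₀ ≤ Γ
  add : ∀ γ ∈ Γ, ∀ v w : V, γ (v + w) = γ v + γ w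
  perfect : ⁅Γ₀, Γ₀⁆ = Γ₀
  ne_zero : v₀ ≠ 0
  sing : q v₀ = 0
  partner : polar2 q v₀ f₀ = 1
  Q_le : Q₀ ≤ Γ
  Q_fix : ∀ γ ∈ Q₀, γ v₀ = v₀
  Q_card : Nat.card Q₀ = 32
  /-- A normal elementary abelian subgroup of order at least 32 of the stabiliser of a singular vector. -/
  stab : ∀ v : V, v ≠ 0 → q v = 0 → ∀ A : Subgroup (Equiv.Perm V), A ≤ Γ → (∀ a ∈ A, a v = v) →
    (∀ γ ∈ Γ, γ v = v → ∀ a ∈ A, γ * a * γ⁻¹ ∈ A) → (∀ a ∈ A, a * a = 1) → 32 ≤ Nat.card A →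
    ∃ γ ∈ Γ, γ v = v₀ ∧ ∀ a ∈ A, γ * a * γ⁻¹ ∈ Q₀
  kernel : (kernelSet q Q₀ v₀).ncard ≤ 64
  /-- Cocycles of `Q₀` with squares and commutators in `⟨v₀⟩` are two translates of the trivial one. -/
  sect : ∀ e : Equiv.Perm V → V, (∀ γ ∈ Q₀, polar2 q v₀ (e γ) = 0) →
    (∀ γ ∈ Q₀, γ (e γ) + e γ = 0 ∨ γ (e γ) + e γ = v₀) →
    (∀ γ ∈ Q₀, ∀ δ ∈ Q₀, e γ + γ (e δ) + e δ + δ (e γ) = 0 ∨
      e γ + γ (e δ) + e δ + δ (e γ) = v₀) →
    (∀ γ ∈ Q₀, ∀ δ ∈ Q₀, e (γ * δ) + e γ + γ (e δ) ∈ kernelSet q Q₀ v₀) →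
    ∃ f : V, (f = 0 ∨ f = f₀) ∧ ∀ γ ∈ Q₀, e γ + (γ f + f) ∈ kernelSet q Q₀ v₀
  /-- An element of order four modulo `Q₀` with a large centraliser in the split extension. -/
  witness : ∃ a ∈ Γ₀, a v₀ = v₀ ∧ a * a ∉ Q₀ ∧
    32 ≤ {x : V × Equiv.Perm V | x.1 ∈ kernelSet q Q₀ v₀ ∧ x.2 ∈ Q₀ ∧ a x.1 = x.1 ∧
      a * x.2 = x.2 * a}.ncard
  small : ∀ γ ∈ Γ, γ v₀ = v₀ → γ * γ ∉ Q₀ →
    {v : V | polar2 q v₀ v = 0 ∧ γ v = v}.ncard ≤ 16
  outerQ : ∀ γ ∈ Q₀, γ ∉ Γ₀ → 8 < (commSet q γ v₀).ncard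
  innerQ : ∀ γ ∈ Q₀, γ ∈ Γ₀ → γ ≠ 1 → 8 ≤ (commSet q γ v₀).ncard ∧
    ∀ k ∈ kernelSet q Q₀ v₀, (∀ v, polar2 q v₀ v = 0 → γ v = v → polar2 q k v = 0) →
      ∃ w, γ w + w = k
  /-- A second point of the short orbit in the perp of the first, moved to four places by `Q₀`. -/
  second : ∃ v₁, polar2 q v₀ v₁ = 0 ∧ v₁ ∉ kernelSet q Q₀ v₀ ∧ (∃ γ ∈ Γ, γ v₀ = v₁) ∧
    {w : V | ∃ γ ∈ Q₀, γ v₁ = w}.ncard ≤ 4
  /-- An element commuting with a non-central element of order three and inverted by an involution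
  modulo it lies in its group. -/
  cent : ∀ i ∈ Γ₀, ∀ x ∈ Γ₀, ∀ r ∈ Γ₀, i * i = 1 → i ≠ 1 → x * x * x = 1 →
    (∃ γ ∈ Γ₀, γ * x ≠ x * γ) → i * x = x * i → r * x = x * r → Odd (orderOf r) →
    i * r * i * r ∈ zpowers x → r ∈ zpowers x

end Lin

variable {G : Type*} [Group G]

/-- The normaliser of `P` in `C(z)`. -/
def mSub (z : G) (P : Subgroup G) : Subgroup G :=
  centralizer ({z} : Set G) ⊓ normalizer (P : Set G)

/-- The centraliser of `P` in `C(z)`. -/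
def cSub (z : G) (P : Subgroup G) : Subgroup G :=
  centralizer ({z} : Set G) ⊓ centralizer (P : Set G)

theorem cSub_le_mSub (z : G) (P : Subgroup G) : cSub z P ≤ mSub z P :=
  inf_le_inf_left _ (centralizer_le_normalizer _)

/-- The dictionary between `H = E N_H(P)` and the action of `N_H(P)` on `E / ⟨z⟩`. -/
structure ActData [Finite G] (z : G) (P : Subgroup G) {V : Type*} [AddCommGroup V]
    (π : ↥(LargeExtra.oc z) →* Multiplicative V) (ρ : ↥(mSub z P) →* Equiv.Perm V) (q : V → ZMod 2) :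
    Prop where
  hJ : IsOfJankoFourTypeWith z P
  set' : LargeExtra.Setting z
  two : ∀ v : V, v + v = 0
  surj : Function.Surjective π
  ker : ∀ e, π e = 1 ↔ (e : G) ∈ zpowers z
  square : ∀ e, (q (Multiplicative.toAdd (π e)) = 0 → (e : G) * e = 1) ∧
    (q (Multiplicative.toAdd (π e)) ≠ 0 → (e : G) * e = z)
  conj : ∀ (m : ↥(mSub z P)) (e e' : ↥(LargeExtra.oc z)), (e' : G) = m * e * (m : G)⁻¹ →
    Multiplicative.toAdd (π e') = ρ m (Multiplicative.toAdd (π e))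
  faithful : ∀ m, ρ m = 1 ↔ (m : G) ∈ zpowers z
  decomp : ∀ h ∈ centralizer ({z} : Set G), ∃ e ∈ LargeExtra.oc z, ∃ m ∈ mSub z P, h = e * m
  inf_eq : LargeExtra.oc z ⊓ mSub z P = zpowers z
  inverts : ∀ m ∈ mSub z P, m ∉ cSub z P → ∀ p ∈ P, m * p * m⁻¹ = p⁻¹
  /-- The centre of `Γ₀` is the image of `P`. -/
  central : ∀ c : ↥(mSub z P), (c : G) ∈ cSub z P →
    (∀ d : ↥(mSub z P), (d : G) ∈ cSub z P → ρ c * ρ d = ρ d * ρ c) →
    (c : G) ∈ P ⊔ zpowers z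
  /-- The quotient of `C_H(P)` by `P ⟨z⟩` is simple and has no normal subgroup of odd order. -/
  odd_le : ∀ O : Subgroup G, O ≤ cSub z P → Odd (Nat.card O) →
    cSub z P ≤ normalizer (O : Set G) → O ≤ P

/-- The image of `C_H(P)`. -/
def gammaZero {z : G} {P : Subgroup G} {V : Type*} [AddCommGroup V]
    (ρ : ↥(mSub z P) →* Equiv.Perm V) : Subgroup (Equiv.Perm V) :=
  ((cSub z P).subgroupOf (mSub z P)).map ρ

end Cfsg.Agent.J4Type
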