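import Cfsg.Agent.J4Type.Base
import Cfsg.Agent.J4Type.LinFacts

/-!
# The dictionary `ActData` in a group of Janko-four type
-/

set_option autoImplicit false

open Subgroup Cfsg

namespace Cfsg.Agent.J4Type.Base

universe u

variable {G : Type u} [Group G]

/-- The projection of `O₂(C z)` on `V`. -/
def piE (z : G) : ↥(LargeExtra.oc z) →* Multiplicative (V z) :=
  MonoidHom.mk' (fun e => Multiplicative.ofAdd (bar (z := z) e)) fun a b => congrArg Multiplicative.ofAdd (bar_mul (z := z) a b)

/-- Units of the endomorphisms, as permutations. -/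
def actPerm (z : G) : ↥(Hz z) →* Equiv.Perm (V z) where
  toFun h :=
    { toFun := fun v => act z h v
      invFun := fun v => act z h⁻¹ v
      left_inv := fun v => by
        show (act z h⁻¹ * act z h) v = v
        rw [← map_mul, inv_mul_cancel, map_one]; rfl
      right_inv := fun v => by
        show (act z h * act z h⁻¹) v = v
        rw [← map_mul, mul_inv_cancel, map_one]; rfl }
  map_one' := Equiv.ext fun v => by
    show act z 1 v = v
    rw [map_one]; rfl
  map_mul' a b := Equiv.ext fun v => by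
    show act z (a * b) v = act z a (act z b v)
    rw [map_mul]; rfl

/-- The action of `N_H(P)` on `V`. -/
def rhoM (z : G) (P : Subgroup G) : ↥(mSub z P) →* Equiv.Perm (V z) :=
  (actPerm z).comp (inclusion inf_le_left)

theorem rhoM_apply (z : G) (P : Subgroup G) (m : ↥(mSub z P)) (v : V z) :
    rhoM z P m v = act z ⟨m.1, m.2.1⟩ v := rfl

/-- On `C_H(P)` it is the action of `C_H(P) / ⟨z⟩`. -/
theorem rhoM_mk (z : G) (P : Subgroup G) (c : ↥(CP z P)) (v : V z) :
    rhoM z P ⟨c.1, cSub_le_mSub z P c.2⟩ v = rho z P (QuotientGroup.mk c) v := rfl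

/-- The quadratic form from squaring. -/
noncomputable def qf (z : G) (v : V z) : ZMod 2 :=
  letI := Classical.propDecidable (∃ e : ↥(Ez z), bar e = v ∧ e.1 * e.1 = z)
  if ∃ e : ↥(Ez z), bar e = v ∧ e.1 * e.1 = z then 1 else 0

variable {z : G} {P : Subgroup G} (hJ : IsOfJankoFourTypeWith z P)
include hJ

theorem mk_eq_one {c : ↥(CP z P)} {n : ℤ} (h : c.1 = z ^ n) :
    (QuotientGroup.mk c : Q z P) = 1 :=
  (QuotientGroup.eq_one_iff c).2 (mem_subgroupOf.2 (h ▸ zpow_mem (mem_zpowers z) n))

/-- The dictionary. -/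
theorem actData [Finite G] : ActData z P (piE z) (rhoM z P) (qf z) := by
  obtain ⟨π, p, C, hker⟩ := exists_cover_mem hJ
  have hS : IsSimpleGroup ↥Spor.M22 := C.simple
  have hnc : Nat.card ↥Spor.M22 = 443520 := Compute.card_m22
  have hrho : Function.Injective (rho z P) := rho_injective hJ
  refine ⟨hJ, ⟨hJ.1, hJ.2.1, ?_⟩, two_V hJ, ?_, ?_, ?_, ?_, ?_, fun h hh => mem_split hJ hh, ?_, ?_, ?_, ?_⟩
  · intro g hg
    exact hJ.2.2.2.1 ⟨mem_Hz.2 ((mem_centralizer_iff.1 hg) z (z_mem hJ)).symm, hg⟩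
  · intro v
    obtain ⟨e, he⟩ := bar_surjective z (Multiplicative.toAdd v)
    exact ⟨e, congrArg Multiplicative.ofAdd he⟩
  · intro e
    refine Iff.trans (bar_eq_zero hJ (a := e)) ⟨fun h => ?_, zpowers_cases hJ⟩
    rcases h with h | h <;> rw [h]
    · exact one_mem _
    · exact mem_zpowers z
  · intro e
    have hind : ∀ e' : ↥(Ez z), bar e' = bar (z := z) e → e'.1 * e'.1 = (e : G) * e := fun e' he' => by
      rcases (bar_eq hJ).1 he' with h | h
      · rw [h]
      · rw [h, show e'.1 * z * (e'.1 * z) = e'.1 * (z * e'.1) * z by group,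
          ← mem_Hz.1 (Ez_le z e'.2), ← mul_assoc, mul_assoc (e'.1 * e'.1), zz hJ, mul_one]
    show (qf z (bar (z := z) e) = 0 → _) ∧ (qf z (bar (z := z) e) ≠ 0 → _)
    unfold qf
    split_ifs with h
    · obtain ⟨e', he', hz⟩ := h
      exact ⟨fun h0 => absurd h0 (by decide), fun _ => (hind e' he').symm.trans hz⟩
    · refine ⟨fun _ => ?_, fun h0 => absurd rfl h0⟩
      rcases sq_cases hJ e.2 with h1 | h1
      · exact h1
      · exact absurd ⟨e, rfl, h1⟩ h
  · intro m e e' h
    show bar (z := z) e' = act z ⟨m.1, m.2.1⟩ (bar (z := z) e)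
    exact congrArg bar (Subtype.ext h)
  · intro m
    constructor
    · intro h
      have h1 : act z ⟨m.1, m.2.1⟩ = 1 := AddMonoidHom.ext fun v => Equiv.ext_iff.1 h v
      rcases Ez_inter_NP hJ (mem_Ez_of_act hJ m.2.1 h1) m.2.2 with h2 | h2 <;> rw [h2]
      · exact one_mem _
      · exact mem_zpowers z
    · intro h
      obtain ⟨n, hn⟩ := mem_zpowers_iff.1 h
      exact Equiv.ext fun v => by rw [rhoM_apply, act_zpow z ⟨m.1, m.2.1⟩ hn.symm]; rfl
  · ext x
    constructor
    · rintro ⟨h1, h2⟩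
      rcases Ez_inter_NP hJ h1 h2.2 with h | h <;> rw [h]
      · exact one_mem _
      · exact mem_zpowers z
    · intro hx
      exact ⟨zpowers_le.2 (z_mem hJ) hx, cSub_le_mSub z P (zpowers_le.2 (z_mem_CP hJ) hx)⟩
  · intro m hm hmc q hq
    obtain ⟨g, hg, ho, hP⟩ := exists_gen hJ
    have key : m * g * m⁻¹ = g⁻¹ := (conj_gen hJ hm hg ho hP).resolve_left fun e =>
      hmc ⟨hm.1, centralizer_of_gen hJ hP (mul_inv_eq_iff_eq_mul.1 e)⟩
    rw [hP, mem_zpowers_iff] at hq
    obtain ⟨k, rfl⟩ := hq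
    rw [show m * g ^ k * m⁻¹ = MulAut.conj m (g ^ k) from rfl, map_zpow, MulAut.conj_apply, key, inv_zpow]
  · intro c hc hcomm
    have hcen : ∀ x : ↥Spor.M22, π (QuotientGroup.mk ⟨c.1, hc⟩) * x = x * π (QuotientGroup.mk ⟨c.1, hc⟩) := by
      intro x
      obtain ⟨y, rfl⟩ := C.surj x
      obtain ⟨d, rfl⟩ := QuotientGroup.mk_surjective y
      rw [← map_mul, ← map_mul]
      refine congrArg π (hrho ?_)
      rw [map_mul, map_mul]
      exact AddMonoidHom.ext fun v => Equiv.ext_iff.1 (hcomm ⟨d.1, cSub_le_mSub z P d.2⟩ d.2) v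
    have h1 : π (QuotientGroup.mk ⟨c.1, hc⟩) ∈ center ↥Spor.M22 := mem_center_iff.2 fun g => (hcen g).symm
    rcases (inferInstance : (center ↥Spor.M22).Normal).eq_bot_or_eq_top with h | h
    · rw [h, mem_bot] at h1
      obtain ⟨e, he, q, hq, hcq⟩ := hker _ h1
      rw [show (c : G) = e * q from hcq]
      exact mul_mem (mem_sup_right he) (mem_sup_left hq)
    · exfalso
      letI : CommGroup ↥Spor.M22 :=
        { mul_comm := fun a b => (mem_center_iff.1 (h ▸ mem_top b) a) }
      have := IsSimpleGroup.prime_card (α := ↥Spor.M22)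
      rw [hnc] at this
      norm_num at this
  · intro O hO hodd hn
    let f : ↥(CP z P) →* ↥Spor.M22 := π.comp (QuotientGroup.mk' (Zc z P))
    have hf : Function.Surjective f := C.surj.comp (QuotientGroup.mk'_surjective _)
    haveI : (O.subgroupOf (CP z P)).Normal := normal_subgroupOf_of_le_normalizer hn
    have hodd' : Odd (Nat.card ↥(O.subgroupOf (CP z P))) := by
      rwa [show Nat.card ↥(O.subgroupOf (CP z P)) = Nat.card ↥O from
        Nat.card_congr (subgroupOfEquivOfLe hO).toEquiv]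
    rcases (Normal.map (inferInstance : (O.subgroupOf (CP z P)).Normal) f hf).eq_bot_or_eq_top with h | h
    · intro x hx
      have : f ⟨x, hO hx⟩ ∈ (O.subgroupOf (CP z P)).map f := mem_map_of_mem f (mem_subgroupOf.2 hx)
      rw [h, mem_bot] at this
      obtain ⟨e, he, q, hq, hxq⟩ := hker _ this
      have hxq' : x = e * q := hxq
      rcases zpowers_cases hJ he with he1 | he1
      · rw [hxq', he1, one_mul]; exact hq
      · exfalso
        have hx3 : x * x * x = z := by
          have hc : Commute z q := (mem_Hz.1 (P_le hJ hq)).symm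
          rw [hxq', he1]
          calc z * q * (z * q) * (z * q) = (z * q) ^ 3 := by simp [pow_succ]
            _ = z ^ 3 * q ^ 3 := hc.mul_pow 3
            _ = z := by
              rw [show q ^ 3 = q * q * q by simp [pow_succ], cube hJ hq, mul_one,
                show z ^ 3 = z * z * z by simp [pow_succ], zz hJ, one_mul]
        have h3 : z ∈ O := hx3 ▸ mul_mem (mul_mem hx hx) hx
        have := orderOf_dvd_natCard (⟨z, h3⟩ : ↥O)
        rw [← orderOf_submonoid, hJ.1] at this
        exact (Nat.not_even_iff_odd.2 hodd) (even_iff_two_dvd.2 this)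
    · exfalso
      have hd : Nat.card ↥((O.subgroupOf (CP z P)).map f) ∣ Nat.card ↥(O.subgroupOf (CP z P)) :=
        card_map_dvd _ f
      rw [h, card_top, hnc] at hd
      exact (Nat.not_even_iff_odd.2 hodd') (even_iff_two_dvd.2 ((by norm_num : 2 ∣ 443520).trans hd))

theorem exists_actData [Finite G] : ∃ (V : Type u) (_ : AddCommGroup V)
    (π : ↥(LargeExtra.oc z) →* Multiplicative V) (ρ : ↥(mSub z P) →* Equiv.Perm V) (q : V → ZMod 2),
    ActData z P π ρ q :=
  ⟨V z, inferInstance, piE z, rhoM z P, qf z, actData hJ⟩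

end Cfsg.Agent.J4Type.Base
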