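import Cfsg.Agent.J4Type.FusionFacts
import Cfsg.Agent.J4Type.Orbits.Fusion
import Cfsg.Agent.J4Type.Orbits.Bridge

/-!
# A second conjugate of `z` in `E` in a simple group of Janko-four type
-/

set_option autoImplicit false

open Subgroup Cfsg

namespace Cfsg.Agent.J4Type.Base

universe u

variable {G : Type u} [Group G] [Finite G] {z : G} {P : Subgroup G}

/-- `H / E` as a group of permutations of `V`. -/
def permBar (z : G) : KBar z →* Equiv.Perm (V z) :=
  QuotientGroup.lift (act z).ker (actPerm z) fun h hh => MonoidHom.mem_ker.2 (Equiv.ext fun v => by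
    show act z h v = v
    rw [MonoidHom.mem_ker.1 hh]; rfl)

theorem permBar_apply (k : KBar z) (v : V z) : permBar z k v = sBar z k v := by
  obtain ⟨h, rfl⟩ := QuotientGroup.mk_surjective k
  rfl

theorem permBar_injective : Function.Injective (permBar z) :=
  (injective_iff_map_eq_one _).2 fun k hk => by
    obtain ⟨h, rfl⟩ := QuotientGroup.mk_surjective k
    exact (QuotientGroup.eq_one_iff _).2 (MonoidHom.mem_ker.2
      (AddMonoidHom.ext fun v => Equiv.ext_iff.1 hk v))

theorem permBar_kmk (m : ↥(mSub z P)) : permBar z (kmk (m : G) m.2.1) = rhoM z P m := rfl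

variable (hJ : IsOfJankoFourTypeWith z P)
include hJ

theorem permBar_mem (k : KBar z) : permBar z k ∈ (rhoM z P).range := by
  obtain ⟨⟨h, hh⟩, rfl⟩ := QuotientGroup.mk_surjective k
  obtain ⟨e, he, n, hn, rfl⟩ := mem_split hJ hh
  refine MonoidHom.mem_range.2 ⟨⟨n, hn⟩, (permBar_kmk ⟨n, hn⟩).symm.trans (congrArg (permBar z) ?_)⟩
  show kmk n hn.1 = kmk (e * n) _
  rw [kmk_mul (Ez_le z he) hn.1, (kmk_eq_one hJ (Ez_le z he)).2 he, one_mul]

theorem permBar_mem_zero (k : KBar z) : permBar z k ∈ gammaZero (rhoM z P) ↔ k ∈ K0Bar z P := by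
  constructor
  · rintro ⟨m, hm, hmk⟩
    rw [← permBar_kmk] at hmk
    rw [← permBar_injective hmk]
    exact mem_map_of_mem _ (mem_subgroupOf.2 (mem_subgroupOf.1 hm) : (⟨m.1, m.2.1⟩ : ↥(Hz z)) ∈ _)
  · rintro ⟨⟨h, hh⟩, hc, rfl⟩
    exact ⟨⟨h, cSub_le_mSub z P (mem_subgroupOf.1 hc)⟩, mem_subgroupOf.2 (mem_subgroupOf.1 hc), rfl⟩

/-- The scalar is the image of an element of `P`. -/
theorem scalar_cases {q' : G} (hq : q' ∈ P) (hq1 : q' ≠ 1) {ω : Equiv.Perm (V z)}
    (L : LinFusion (rhoM z P).range (gammaZero (rhoM z P)) (qf z) ω) :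
    permBar z (kmk q' (P_le hJ hq)) = ω ∨ permBar z (kmk q' (P_le hJ hq)) = ω * ω := by
  haveI := finite_V hJ
  obtain ⟨c, hc, hcω⟩ := L.mem_scalar
  have hcs := (actData hJ).central c (mem_subgroupOf.1 hc) fun d hd => by
    have := L.scalar_comm _ ⟨d, mem_subgroupOf.2 hd, rfl⟩
    rw [hcω]; exact this.symm
  have hR : P ⊔ zpowers z ≤ (((P.subgroupOf (Hz z)).map (QuotientGroup.mk' (act z).ker)).comap
      (QuotientGroup.mk' (act z).ker)).map (Hz z).subtype := by
    refine sup_le (fun x hx => ⟨⟨x, P_le hJ hx⟩, mem_comap.2 (mem_map_of_mem _ ?_), rfl⟩)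
      (zpowers_le.2 ⟨⟨z, Ez_le z (z_mem hJ)⟩, mem_comap.2 ?_, rfl⟩)
    · exact mem_subgroupOf.2 hx
    · show kmk z _ ∈ _
      rw [(kmk_eq_one hJ _).2 (z_mem hJ)]
      exact one_mem _
  obtain ⟨⟨x, hx⟩, hx', hxe⟩ := hR hcs
  obtain ⟨⟨q, hqH⟩, hqP, hqx⟩ := mem_map.1 (mem_comap.1 hx')
  have hxe' : x = c.1 := hxe
  subst hxe'
  have hω : permBar z (kmk q hqH) = ω := by
    rw [← hcω, ← permBar_kmk]
    exact congrArg (permBar z) hqx
  have hω1 : ω ≠ 1 := by
    intro h
    haveI : Nontrivial (V z) := Finite.one_lt_card_iff_nontrivial.1 (by rw [card_V hJ]; norm_num)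
    obtain ⟨v, hv⟩ := exists_ne (0 : V z)
    have h3 := L.scalar_sum v
    rw [h, Equiv.Perm.one_apply, Equiv.Perm.one_apply, two_V hJ, add_zero] at h3
    exact hv h3
  have hq0 : q ≠ 1 := fun h => hω1 (by
    rw [← hω, (kmk_eq_one hJ hqH).2 (h ▸ one_mem _), map_one])
  have hqP' : q ∈ P := mem_subgroupOf.1 hqP
  haveI : Fact (Nat.Prime 3) := ⟨Nat.prime_three⟩
  have hmem : (⟨q', hq⟩ : ↥P) ∈ zpowers (⟨q, hqP'⟩ : ↥P) :=
    mem_zpowers_of_prime_card hJ.2.2.2.2.2.1 fun h => hq0 (congrArg Subtype.val h)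
  obtain ⟨i, hi⟩ := mem_zpowers_iff.1 hmem
  have hi' : q ^ i = q' := congrArg Subtype.val hi
  have hord : orderOf q = 3 := orderOf_eq_prime (by rw [pow_succ, pow_two]; exact cube hJ hqP') hq0
  rw [← zpow_mod_orderOf, hord] at hi'
  rcases (by omega : i % 3 = 0 ∨ i % 3 = 1 ∨ i % 3 = 2) with e | e | e <;> push_cast at hi' <;>
    rw [e] at hi'
  · exact absurd (by rw [← hi', zpow_zero]) hq1
  · left
    rw [zpow_one] at hi'
    subst hi'
    exact hω
  · right
    rw [show q ^ (2 : ℤ) = q * q by rw [zpow_two]] at hi'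
    subst hi'
    rw [show kmk (q * q) _ = kmk q hqH * kmk q hqH from rfl, map_mul, hω]

/-- The facts on the involutions of `H / E`. -/
theorem involFacts {q' : G} (hq : q' ∈ P) (hq1 : q' ≠ 1) {ω : Equiv.Perm (V z)}
    (L : LinFusion (rhoM z P).range (gammaZero (rhoM z P)) (qf z) ω) :
    InvolFacts (sBar z) (K0Bar z P) (qf z) (kmk q' (P_le hJ hq)) := by
  haveI := finite_V hJ
  have m0 : ∀ {t}, t ∈ K0Bar z P → permBar z t ∈ gammaZero (rhoM z P) := fun ht =>
    (permBar_mem_zero hJ _).2 ht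
  have sq : ∀ {t : KBar z}, t * t = 1 → permBar z t * permBar z t = 1 := fun h => by
    rw [← map_mul, h, map_one]
  have ne : ∀ {t : KBar z}, t ≠ 1 → permBar z t ≠ 1 := fun h e =>
    h (permBar_injective (e.trans (map_one _).symm))
  -- `b(v, ω² u) = b(v, ω u)` for `u = v + tv`
  have key : ∀ t ∈ K0Bar z P, t * t = 1 → ∀ v,
      polar2 (qf z) v (sBar z (kmk q' (P_le hJ hq)) (v + sBar z t v)) =
        polar2 (qf z) v (ω (v + sBar z t v)) := by
    intro t ht h2 v
    have happ := permBar_apply (kmk q' (P_le hJ hq)) (v + sBar z t v)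
    rcases scalar_cases hJ hq hq1 L with e | e <;> rw [e] at happ <;> rw [← happ]
    rw [Equiv.Perm.mul_apply]
    set u := v + sBar z t v with hu
    have hww : ω (ω u) = u + ω u := by
      have h := L.scalar_sum u
      have hh := congrArg (fun a => u + ω u + a) h
      simp only [add_zero] at hh
      rw [← hh, show u + ω u + (u + (ω u + ω (ω u))) = (u + u) + (ω u + ω u) + ω (ω u) by abel,
        two_V hJ, two_V hJ, zero_add, zero_add]
    rw [hww, Rep.polar_add (actData hJ)]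
    have hz : polar2 (qf z) v u = 0 := by
      have hqu : qf z u = 0 := by
        have := L.iso _ (m0 ht) (sq h2) v
        rwa [permBar_apply] at this
      have hqt : qf z (sBar z t v) = qf z v := by
        obtain ⟨m, hm⟩ := MonoidHom.mem_range.1 (permBar_mem hJ t)
        rw [← permBar_apply, ← hm]
        exact Rep.q_invariant (actData hJ) m v
      rw [polar2, show v + u = sBar z t v by rw [hu, ← add_assoc, two_V hJ, zero_add], hqu, hqt, add_zero]
      exact (by decide : ∀ a : ZMod 2, a + a = 0) _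
    rw [hz, zero_add]
  refine ⟨?_, ?_, ?_, ?_, ?_, ?_, ?_⟩
  · intro t ht h2 _ v
    simpa only [permBar_apply] using L.iso _ (m0 ht) (sq h2) v
  · intro t ht h2 h1
    obtain ⟨F, h, h'⟩ := L.five _ (m0 ht) (sq h2) (ne h1)
    exact ⟨F, fun i => by simpa only [permBar_apply] using h i, h'⟩
  · intro t ht _ h1
    simpa only [permBar_apply] using L.big _ (m0 ht) (ne h1)
  · intro t ht h2 h1 k hk hkt
    obtain ⟨v, u, h⟩ := L.move _ (m0 ht) (sq h2) (ne h1) _ (permBar_mem hJ k) (ne hk)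
      (fun e => hkt (permBar_injective e))
    exact ⟨v, u, by simpa only [permBar_apply] using h⟩
  · intro t ht h2 h1 x hx
    simpa only [permBar_apply] using L.perp _ (m0 ht) (sq h2) (ne h1) x
      fun u hu => hx u (by rwa [permBar_apply] at hu)
  · intro t ht h2 h1 v _ hv
    rw [key t ht h2] at hv
    obtain ⟨g, hg, hg2, hgn, hgb⟩ := L.swap _ (m0 ht) (sq h2) (ne h1) v
      (by rwa [permBar_apply])
    obtain ⟨m, hm, hmg⟩ := hg
    rw [← permBar_kmk] at hmg
    subst hmg
    refine ⟨_, (permBar_mem_zero hJ _).1 ⟨m, hm, (permBar_kmk m).symm⟩,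
      permBar_injective (by rw [map_mul, hg2]), ?_⟩
    simp only [permBar_apply] at hgn hgb
    exact ⟨hgn, (key t ht h2 _).trans hgb⟩
  · intro t ht h2
    obtain ⟨a, b, c, h⟩ := L.outer _ (permBar_mem hJ t)
      (fun e => ht ((permBar_mem_zero hJ t).1 e)) (sq h2)
    exact ⟨a, b, c, by simpa only [permBar_apply] using h⟩

/-- The fusion data hold in every group of Janko-four type. -/
theorem fusionData_of_janko : FusionData z (Ez z) (Ez z ⊔ CP z P) := by
  obtain ⟨B, hM⟩ := Orbits.exists_model_janko hJ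
  obtain ⟨ω, -, L⟩ := hM.linFusion
  obtain ⟨q', hq, ho, -⟩ := exists_gen hJ
  have hq1 : q' ≠ 1 := fun h => by rw [h, orderOf_one] at ho; omega
  exact fusionData hJ hq hq1 (involFacts hJ hq hq1 L)

/-- **In a simple group of Janko-four type, `z` has a conjugate in `E ∖ ⟨z⟩`.** -/
theorem exists_conj_mem_oc [IsSimpleGroup G] (hG : ¬ IsMulCommutative G) :
    ∃ g : G, g * z * g⁻¹ ∈ LargeExtra.oc z ∧ g * z * g⁻¹ ≠ z :=
  (fusionData_of_janko hJ).exists_conj_mem_of_simple hG

end Cfsg.Agent.J4Type.Base
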