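import Cfsg.Agent.J4Type.CoverFinal
import Cfsg.Agent.J4Type.FusionMain
import Cfsg.Agent.J4Type.Orbits.Lin

/-!
# The sixfold cover of M22 in a simple group of Janko-four type
-/

set_option autoImplicit false

open Cfsg Subgroup

namespace Cfsg.Agent.J4Type

universe u

variable {G : Type u} [Group G] [Finite G] {z : G} {P : Subgroup G}

/-- An orthogonal conjugate of `z` exists. -/
theorem exists_conf [IsSimpleGroup G] (hG : ¬ IsMulCommutative G) (hJ : IsOfJankoFourTypeWith z P) :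
    ∃ w : G, Conf z w := by
  obtain ⟨g, hg, hne⟩ := Base.exists_conj_mem_oc hJ hG
  exact ⟨_, hg, hne, g, rfl⟩

/-- `C_H(P)` is `6.M22` and `N_G(P) ≤ H`. -/
theorem sixfold [IsSimpleGroup G] (hG : ¬ IsMulCommutative G) (hJ : IsOfJankoFourTypeWith z P) :
    ⁅cSub z P, cSub z P⁆ = cSub z P ∧
    IsCyclic ↥(center ↥(Base.CP z P)) ∧ Nat.card ↥(center ↥(Base.CP z P)) = 6 ∧
    Spor.IsoM22 (↥(Base.CP z P) ⧸ center ↥(Base.CP z P)) ∧
    normalizer (P : Set G) ≤ centralizer ({z} : Set G) := by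
  obtain ⟨B, hM⟩ := Orbits.exists_model_janko hJ
  obtain ⟨w, hc⟩ := exists_conf hG hJ
  exact sixfold_of_conf hJ hM hM.linFacts hc

end Cfsg.Agent.J4Type
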