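import Cfsg.Agent.J4Type.Sylow3Group

/-!
# One class of elements of order three

From the structure of `C_H(P)`, `N_G(P) ≤ H` and one conjugate of `z` in `C_H(P)` different from `z`.
-/

set_option autoImplicit false

namespace Cfsg.Agent.J4Type

open Subgroup Cfsg

universe u

variable {G : Type u} [Group G] [Finite G]

/-- Every two elements of order three are conjugate. -/
theorem isConj_three (hOut : Nat.card (Cfsg.Out ↥Cfsg.Spor.M22) = 2)
    [IsSimpleGroup ↥Cfsg.Spor.M22] {z : G} {P : Subgroup G} (hJ : IsOfJankoFourTypeWith z P)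
    (hperf : ⁅(centralizer ({z} : Set G) ⊓ centralizer (P : Set G)),
      (centralizer ({z} : Set G) ⊓ centralizer (P : Set G))⁆ =
        centralizer ({z} : Set G) ⊓ centralizer (P : Set G))
    (hZ : Nat.card (center ↥(centralizer ({z} : Set G) ⊓ centralizer (P : Set G))) = 6)
    (hM : Cfsg.Spor.IsoM22 (↥(centralizer ({z} : Set G) ⊓ centralizer (P : Set G)) ⧸
      center ↥(centralizer ({z} : Set G) ⊓ centralizer (P : Set G))))
    (hN : normalizer (P : Set G) ≤ centralizer ({z} : Set G))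
    (hfus : ∃ g : G, g * z * g⁻¹ ∈ centralizer ({z} : Set G) ⊓ centralizer (P : Set G) ∧
      g * z * g⁻¹ ≠ z)
    (x y : G) (hx : orderOf x = 3) (hy : orderOf y = 3) : IsConj x y := by
  classical
  have : Fact (Nat.Prime 3) := ⟨Nat.prime_three⟩
  have hJ' := hJ
  obtain ⟨-, -, hE, -, ⟨N, -, hNH, -, hNcard, ⟨hn, ⟨eH⟩⟩, hPN⟩, hP, -, hne, -⟩ := hJ
  set H := centralizer ({z} : Set G) with hH
  set C := H ⊓ centralizer (P : Set G) with hC
  obtain ⟨eM⟩ := hM
  obtain ⟨p, hpP, hp1⟩ : ∃ p ∈ P, p ≠ 1 := by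
    by_contra h
    have hb : P = ⊥ := P.eq_bot_iff_forall.2 fun a ha => by
      by_contra ha1
      exact h ⟨a, ha, ha1⟩
    rw [hb, Subgroup.card_bot] at hP
    norm_num at hP
  have hop : orderOf p = 3 :=
    ((Nat.dvd_prime Nat.prime_three).1 (hP ▸ P.orderOf_dvd_natCard hpP)).resolve_left
      (fun h => hp1 (orderOf_eq_one_iff.1 h))
  have hPp : zpowers p = P :=
    Subgroup.eq_of_le_of_card_ge (zpowers_le.2 hpP) (by rw [Nat.card_zpowers, hop, hP])
  have hp3 : p ^ 3 = 1 := hop ▸ pow_orderOf_eq_one p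
  have hmemP : ∀ a ∈ P, a = 1 ∨ a = p ∨ a = p⁻¹ := by
    intro a ha
    rw [← hPp, mem_zpowers_iff] at ha
    obtain ⟨i, rfl⟩ := ha
    rw [← zpow_mod_orderOf, hop]
    have h1 : 0 ≤ i % 3 := Int.emod_nonneg _ (by norm_num)
    have h2 : i % 3 < 3 := Int.emod_lt_of_pos _ (by norm_num)
    push_cast
    interval_cases hi : i % 3
    · left; simp
    · right; left; simp
    · right; right
      refine eq_inv_of_mul_eq_one_left ?_
      rw [show ((2 : ℤ)) = ((2 : ℕ) : ℤ) from rfl, zpow_natCast, ← pow_succ, hp3]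
  have hpC : p ∈ C := ⟨(hPN.trans hNH) hpP, by
    refine mem_centralizer_iff.2 fun b hb => ?_
    rcases hmemP b hb with rfl | rfl | rfl <;> simp⟩
  -- an element inverting `p`
  obtain ⟨k, hk, hkp⟩ : ∃ k ∈ H, k * p * k⁻¹ = p⁻¹ := by
    by_contra hall
    refine hne (le_antisymm (fun k hk => ⟨hk.1, mem_centralizer_iff.2 fun b hb => ?_⟩)
      (inf_le_inf_left H (centralizer_le_normalizer _)))
    have hkb : k * p * k⁻¹ ∈ P := (Subgroup.mem_normalizer_iff.1 hk.2 p).1 hpP
    have hfix : k * p = p * k := by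
      rcases hmemP _ hkb with h | h | h
      · exact absurd (conj_eq_one_iff.1 h) hp1
      · exact mul_inv_eq_iff_eq_mul.1 h
      · exact absurd ⟨k, hk.1, h⟩ hall
    have hc : Commute k p := hfix
    rcases hmemP b hb with rfl | rfl | rfl
    · simp
    · exact hc.eq.symm
    · exact hc.inv_right.eq.symm
  let π : C →* ↥Cfsg.Spor.M22 := eM.toMonoidHom.comp (QuotientGroup.mk' (center C))
  have hπ : Function.Surjective π := eM.surjective.comp (QuotientGroup.mk'_surjective _)
  have hker : π.ker = center C := by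
    rw [MonoidHom.ker_comp_of_injective _ _ eM.injective, QuotientGroup.ker_mk']
  have hpcen : (⟨p, hpC⟩ : C) ∈ center C := Subgroup.mem_center_iff.2 fun g =>
    Subtype.ext ((mem_centralizer_iff.1 g.2.2 p hpP).symm)
  have hpcomm : (⟨p, hpC⟩ : C) ∈ commutator C := by
    have hp' : p ∈ (commutator C).map C.subtype := by
      rw [Subgroup.map_subtype_commutator, hperf]
      exact hpC
    obtain ⟨w, hw, hwp⟩ := hp'
    rwa [show (⟨p, hpC⟩ : C) = w from Subtype.ext hwp.symm]
  have hM3 : ThreeFacts ↥Cfsg.Spor.M22 := threeFacts_of_card Compute.card_m22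
  -- a conjugate in `C` of an element of order three
  have hredH : ∀ a ∈ H, orderOf a = 3 → ∃ h ∈ H, h * a * h⁻¹ ∈ C := by
    intro a ha ho
    let T : Sylow 3 C := default
    have hT := coverSylow hM3 π hπ (le_of_eq hker) (by rw [hker, hZ])
      (p := (⟨p, hpC⟩ : C)) (by rw [Subgroup.orderOf_mk, hop]) (by rw [hker]; exact hpcen) hpcomm T
    set R0 := (T : Subgroup C).map C.subtype with hR0
    have hR0H : R0 ≤ H := (Subgroup.map_subtype_le _).trans inf_le_left
    have hcR0 : Nat.card (R0.subgroupOf H) = 27 := by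
      rw [Nat.card_congr (Subgroup.subgroupOfEquivOfLe hR0H).toEquiv, hR0,
        Subgroup.card_map_of_injective C.subtype_injective, hT.card]
    have hcH : Nat.card H = 3 ^ 3 * (2 ^ 13 * 98560) := by
      rw [← (N.subgroupOf H).card_mul_index, Nat.card_congr (Subgroup.subgroupOfEquivOfLe hNH).toEquiv,
        Subgroup.index_eq_card, Nat.card_congr eH.toEquiv, card_mulAut_m22_of_out hOut, hNcard, hE]
      norm_num
    have hfac : (Nat.card H).factorization 3 = 3 := by
      rw [hcH, Nat.factorization_mul (by norm_num) (by norm_num), Finsupp.add_apply,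
        Nat.factorization_eq_zero_of_not_dvd (by norm_num : ¬ 3 ∣ 2 ^ 13 * 98560),
        Nat.Prime.factorization_pow Nat.prime_three, Finsupp.single_eq_same, add_zero]
    let U : Sylow 3 H := Sylow.ofCard (R0.subgroupOf H) (by rw [hcR0, hfac]; norm_num)
    obtain ⟨V, hV⟩ := (IsPGroup.of_card (p := 3) (n := 1)
      (by rw [Nat.card_zpowers, Subgroup.orderOf_mk, ho, pow_one] :
        Nat.card (zpowers (⟨a, ha⟩ : H)) = 3 ^ 1)).exists_le_sylow
    obtain ⟨h, hh⟩ := MulAction.exists_smul_eq H V U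
    refine ⟨h, h.2, ?_⟩
    have hm : h * ⟨a, ha⟩ * h⁻¹ ∈ (U : Subgroup H) := by
      rw [← hh, Sylow.coe_subgroup_smul]
      exact ⟨_, hV (mem_zpowers _), rfl⟩
    have hm' : (h : G) * a * (h : G)⁻¹ ∈ R0 := hm
    exact Subgroup.map_subtype_le _ hm'
  -- non-central elements of order three of `C` are conjugate
  have hnc : ∀ a b : G, a ∈ C → b ∈ C → orderOf a = 3 → orderOf b = 3 → a ∉ P → b ∉ P →
      IsConj a b := by
    intro a b ha hb hoa hob haP hbP
    obtain ⟨T, hT⟩ := (IsPGroup.of_card (p := 3) (n := 1)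
      (by rw [Nat.card_zpowers, Subgroup.orderOf_mk, hob, pow_one] :
        Nat.card (zpowers (⟨b, hb⟩ : C)) = 3 ^ 1)).exists_le_sylow
    have hTs := coverSylow hM3 π hπ (le_of_eq hker) (by rw [hker, hZ])
      (p := (⟨p, hpC⟩ : C)) (by rw [Subgroup.orderOf_mk, hop]) (by rw [hker]; exact hpcen) hpcomm T
    have hbT : (⟨b, hb⟩ : C) ∈ (T : Subgroup C) := hT (mem_zpowers _)
    -- central elements of order dividing three
    have hcen3 : ∀ w ∈ center C, w ^ 3 = 1 → (w : G) ∈ P := by
      intro w hw hw3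
      have hn : (zpowers w).Normal := ⟨fun n hn g => by
        have hnc : n ∈ center C := (zpowers_le.2 hw) hn
        rwa [Subgroup.mem_center_iff.1 hnc g, mul_inv_cancel_right]⟩
      have hz : IsPGroup 3 (zpowers w) := by
        obtain ⟨i, -, hi⟩ := (Nat.dvd_prime_pow Nat.prime_three).1
          ((pow_one 3).symm ▸ orderOf_dvd_of_pow_eq_one hw3 : orderOf w ∣ 3 ^ 1)
        exact IsPGroup.of_card (n := i) (by rw [Nat.card_zpowers, hi])
      have hwT : w ∈ (T : Subgroup C) :=
        T.is_maximal' (T.isPGroup'.to_sup_of_normal_right hz) le_sup_left ▸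
          (le_sup_right : zpowers w ≤ (T : Subgroup C) ⊔ zpowers w) (mem_zpowers w)
      have hwc : w ∈ (center (T : Subgroup C)).map (T : Subgroup C).subtype :=
        ⟨⟨w, hwT⟩, Subgroup.mem_center_iff.2 fun g => Subtype.ext
          (Subgroup.mem_center_iff.1 hw g), rfl⟩
      rw [hTs.center] at hwc
      obtain ⟨i, rfl⟩ := mem_zpowers_iff.1 hwc
      rw [Subgroup.coe_zpow]
      exact zpow_mem hpP i
    have hne1 : ∀ c : G, ∀ hc : c ∈ C, orderOf c = 3 → c ∉ P → orderOf (π ⟨c, hc⟩) = 3 := by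
      intro c hc hoc hcP
      have hc3 : (⟨c, hc⟩ : C) ^ 3 = 1 := Subtype.ext (by simpa using hoc ▸ pow_orderOf_eq_one c)
      refine orderOf_eq_prime (by rw [← map_pow, hc3, map_one]) fun h => hcP ?_
      exact hcen3 ⟨c, hc⟩ (hker ▸ MonoidHom.mem_ker.2 h) hc3
    obtain ⟨d, hd⟩ := isConj_iff.1 (hM3.conj _ _ (hne1 a ha hoa haP) (hne1 b hb hob hbP))
    obtain ⟨c, rfl⟩ := hπ d
    set w := (⟨b, hb⟩ : C)⁻¹ * (c * ⟨a, ha⟩ * c⁻¹) with hw
    have hwc : w ∈ center C := by
      rw [← hker, MonoidHom.mem_ker, hw, map_mul, map_inv, map_mul, map_mul, map_inv, hd,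
        inv_mul_cancel]
    have hw3 : w ^ 3 = 1 := by
      have h1 : ((⟨b, hb⟩ : C) * w) ^ 3 = 1 := by
        rw [hw, mul_inv_cancel_left, conj_pow,
          show (⟨a, ha⟩ : C) ^ 3 = 1 from Subtype.ext (by simpa using hoa ▸ pow_orderOf_eq_one a),
          mul_one, mul_inv_cancel]
      rwa [(show Commute (⟨b, hb⟩ : C) w from Subgroup.mem_center_iff.1 hwc _).mul_pow,
        show (⟨b, hb⟩ : C) ^ 3 = 1 from Subtype.ext (by simpa using hob ▸ pow_orderOf_eq_one b),
        one_mul] at h1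
    have hca : IsConj a (b * (w : G)) := isConj_iff.2 ⟨(c : G), by rw [hw]; simp⟩
    refine hca.trans ?_
    -- conjugates of `b` inside `T`
    obtain ⟨r, hr, hrb⟩ : ∃ r ∈ (T : Subgroup C), r * ⟨b, hb⟩ ≠ ⟨b, hb⟩ * r := by
      by_contra hall
      refine hbP ?_
      have hbc : (⟨b, hb⟩ : C) ∈ (center (T : Subgroup C)).map (T : Subgroup C).subtype :=
        ⟨⟨_, hbT⟩, Subgroup.mem_center_iff.2 fun g => Subtype.ext (by
          by_contra h
          exact hall ⟨g, g.2, h⟩), rfl⟩
      rw [hTs.center] at hbc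
      obtain ⟨i, hi⟩ := mem_zpowers_iff.1 hbc
      have := congrArg (fun v : C => (v : G)) hi
      simp only [Subgroup.coe_zpow] at this
      exact this ▸ zpow_mem hpP i
    obtain ⟨v, hvP, hv1, hv⟩ : ∃ v : G, v ∈ P ∧ v ≠ 1 ∧ (r : G) * b * (r : G)⁻¹ = b * v := by
      let r' : (T : Subgroup C) := ⟨r, hr⟩
      let b' : (T : Subgroup C) := ⟨⟨b, hb⟩, hbT⟩
      have hcm : b'⁻¹ * r' * b' * r'⁻¹ ∈ center (T : Subgroup C) := by
        rw [← hTs.extra.1.2.2]
        have := Subgroup.commutator_mem_commutator (Subgroup.mem_top b'⁻¹) (Subgroup.mem_top r')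
        rw [commutatorElement_def, inv_inv] at this
        exact this
      have hm : (b'⁻¹ * r' * b' * r'⁻¹ : (T : Subgroup C)).1 ∈ zpowers (⟨p, hpC⟩ : C) :=
        hTs.center ▸ (⟨_, hcm, rfl⟩ : _ ∈ (center (T : Subgroup C)).map (T : Subgroup C).subtype)
      obtain ⟨i, hi⟩ := mem_zpowers_iff.1 hm
      have hi' := congrArg (fun v : C => (v : G)) hi
      simp [r', b'] at hi'
      refine ⟨p ^ i, zpow_mem hpP i, fun h1 => hrb ?_, ?_⟩
      · rw [hi'] at h1
        refine Subtype.ext ?_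
        simp only [Subgroup.coe_mul]
        calc (r : G) * b = b * (b⁻¹ * r * b * (r : G)⁻¹) * r := by group
          _ = b * r := by rw [h1, mul_one]
      · rw [hi']
        group
    rcases hmemP (w : G) (hcen3 w hwc hw3) with h | h
    · rw [h, mul_one]
    · have hcomm : ∀ q ∈ P, (r : G) * q = q * (r : G) := fun q hq =>
        (mem_centralizer_iff.1 r.2.2 q hq).symm
      have h2 : (r : G) * ((r : G) * b * (r : G)⁻¹) * (r : G)⁻¹ = b * (v * v) := by
        rw [hv, show (r : G) * (b * v) * (r : G)⁻¹ = (r : G) * b * (v * (r : G)⁻¹) by group]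
        rw [show v * (r : G)⁻¹ = (r : G)⁻¹ * v from
          ((show Commute (r : G) v from hcomm v hvP).inv_left.eq).symm, ← mul_assoc, hv, mul_assoc]
      have e1 : IsConj (b * v) b := (isConj_iff.2 ⟨(r : G), hv⟩).symm
      have e2 : IsConj (b * (v * v)) b := (isConj_iff.2 ⟨(r : G) * (r : G), by
        rw [← h2]; group⟩).symm
      have hv' : v = p ∨ v = p⁻¹ := (hmemP v hvP).resolve_left hv1
      have hpp : p * p = p⁻¹ := eq_inv_of_mul_eq_one_left (by rw [← sq, ← pow_succ, hp3])
      have hpp' : p⁻¹ * p⁻¹ = p := by rw [← mul_inv_rev, hpp, inv_inv]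
      rcases hv' with rfl | rfl
      · rcases h with h | h <;> rw [h]
        · exact e1
        · rw [← hpp]; exact e2
      · rcases h with h | h <;> rw [h]
        · rw [← hpp']; exact e2
        · exact e1
  -- fusion of `p` with a non-central element
  obtain ⟨q, hqC, hqo, hqP, hpq⟩ : ∃ q, q ∈ C ∧ orderOf q = 3 ∧ q ∉ P ∧ IsConj p q := by
    obtain ⟨g, ⟨-, hgc⟩, hgne⟩ := hfus
    have hgH : g⁻¹ * p * g ∈ H := mem_centralizer_singleton_iff.2 (by
      have hc : p * (g * z * g⁻¹) = (g * z * g⁻¹) * p := mem_centralizer_iff.1 hgc p hpP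
      calc g⁻¹ * p * g * z = g⁻¹ * (p * (g * z * g⁻¹)) * g := by group
        _ = g⁻¹ * ((g * z * g⁻¹) * p) * g := by rw [hc]
        _ = z * (g⁻¹ * p * g) := by group)
    obtain ⟨h, hh, hhC⟩ := hredH _ hgH (by
      rw [show g⁻¹ * p * g = MulAut.conj g⁻¹ p by simp, MulEquiv.orderOf_eq, hop])
    set m := h * g⁻¹ with hm
    have hq : m * p * m⁻¹ = h * (g⁻¹ * p * g) * h⁻¹ := by rw [hm]; group
    refine ⟨m * p * m⁻¹, hq ▸ hhC, ?_, fun hP' => hgne ?_, isConj_iff.2 ⟨m, rfl⟩⟩
    · rw [← MulAut.conj_apply, MulEquiv.orderOf_eq, hop]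
    · have hmN : m ∈ normalizer (P : Set G) := by
        refine Subgroup.mem_normalizer_fintype (S := (P : Set G)) fun b hb => ?_
        rw [SetLike.mem_coe, ← hPp] at hb ⊢
        obtain ⟨i, rfl⟩ := mem_zpowers_iff.1 hb
        rw [← conj_zpow, hPp]
        exact zpow_mem hP' i
      have hgH : g⁻¹ ∈ H := by
        have := mul_mem (inv_mem hh) (hN hmN)
        rwa [hm, inv_mul_cancel_left] at this
      have := mem_centralizer_singleton_iff.1 (inv_mem_iff.1 hgH)
      rw [this, mul_inv_cancel_right]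
  -- everything is conjugate to `p`
  have hall : ∀ a : G, orderOf a = 3 → IsConj a p := by
    intro a ho
    obtain ⟨S, hS⟩ := (IsPGroup.of_card (p := 3) (n := 1)
      (by rw [Nat.card_zpowers, ho, pow_one] : Nat.card (zpowers a) = 3 ^ 1)).exists_le_sylow
    let T : Sylow 3 C := default
    have hTs := coverSylow hM3 π hπ (le_of_eq hker) (by rw [hker, hZ])
      (p := (⟨p, hpC⟩ : C)) (by rw [Subgroup.orderOf_mk, hop]) (by rw [hker]; exact hpcen) hpcomm T
    set R0 := (T : Subgroup C).map C.subtype with hR0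
    have hR0H : R0 ≤ H := (Subgroup.map_subtype_le _).trans inf_le_left
    have hcR0 : Nat.card R0 = 27 := by
      rw [hR0, Subgroup.card_map_of_injective C.subtype_injective, hTs.card]
    have hderiv : ⁅R0, R0⁆ = P := by
      rw [hR0, ← Subgroup.map_commutator, ← Subgroup.map_subtype_commutator, hTs.extra.1.2.2,
        hTs.center, MonoidHom.map_zpowers]
      exact hPp
    obtain ⟨R, hR0R⟩ := (IsPGroup.of_card (p := 3) (n := 3) (by rw [hcR0]; norm_num :
      Nat.card R0 = 3 ^ 3)).exists_le_sylow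
    have hR : (R : Subgroup G) ≤ H := by
      by_contra hRH
      have hnil : Group.IsNilpotent (R : Subgroup G) := R.isPGroup'.isNilpotent
      have hlt : R0.subgroupOf (R : Subgroup G) < ⊤ := by
        refine lt_top_iff_ne_top.2 fun h => hRH ?_
        exact (Subgroup.subgroupOf_eq_top.1 h).trans hR0H
      obtain ⟨n, hn, hnR⟩ := SetLike.exists_of_lt (normalizerCondition_of_isNilpotent _ hlt)
      have hnR0 : (n : G) ∈ normalizer (R0 : Set G) := by
        refine Subgroup.mem_normalizer_fintype (S := (R0 : Set G)) fun b hb => ?_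
        exact (Subgroup.mem_normalizer_iff.1 hn ⟨b, hR0R hb⟩).1 hb
      have hnP : (n : G) ∈ normalizer (P : Set G) := by
        refine Subgroup.mem_normalizer_fintype (S := (P : Set G)) fun b hb => ?_
        have hmap : R0.map (MulAut.conj (n : G)).toMonoidHom = R0 := by
          refine Subgroup.eq_of_le_of_card_ge ?_
            (Subgroup.card_map_of_injective (MulAut.conj (n : G)).injective).ge
          rintro _ ⟨c, hc, rfl⟩
          exact (Subgroup.mem_normalizer_iff.1 hnR0 c).1 hc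
        have : P.map (MulAut.conj (n : G)).toMonoidHom = P := by
          rw [← hderiv, Subgroup.map_commutator, hmap]
        exact this ▸ ⟨b, hb, rfl⟩
      have hnH : (n : G) ∈ H := hN hnP
      set W := R0 ⊔ zpowers (n : G) with hW
      have hWH : W ≤ H := sup_le hR0H (zpowers_le.2 hnH)
      have hWR : W ≤ (R : Subgroup G) := sup_le hR0R (zpowers_le.2 n.2)
      obtain ⟨i, hi⟩ := IsPGroup.iff_card.1 (R.isPGroup'.to_le hWR)
      have hd := card_dvd_of_le hWH
      rw [show Nat.card H = 3 ^ 3 * (2 ^ 13 * 98560) by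
        rw [← (N.subgroupOf H).card_mul_index,
          Nat.card_congr (Subgroup.subgroupOfEquivOfLe hNH).toEquiv, Subgroup.index_eq_card,
          Nat.card_congr eH.toEquiv, card_mulAut_m22_of_out hOut, hNcard, hE]
        norm_num, hi] at hd
      have h1 : 3 ^ i ∣ 3 ^ 3 :=
        (Nat.Coprime.pow_left i (by norm_num : Nat.Coprime 3 (2 ^ 13 * 98560))).dvd_of_dvd_mul_right hd
      have h2 : W = R0 := (Subgroup.eq_of_le_of_card_ge le_sup_left (by
        rw [hi, hcR0]; exact Nat.le_of_dvd (by norm_num) h1)).symm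
      exact hnR (Subgroup.mem_subgroupOf.2 (h2 ▸ mem_sup_right (mem_zpowers (n : G))))
    obtain ⟨g, hg⟩ := MulAction.exists_smul_eq G S R
    have hgH : g * a * g⁻¹ ∈ H := by
      refine hR ?_
      rw [← hg, Sylow.coe_subgroup_smul]
      exact ⟨a, hS (mem_zpowers a), rfl⟩
    have hog : orderOf (g * a * g⁻¹) = 3 := by rw [← MulAut.conj_apply, MulEquiv.orderOf_eq, ho]
    obtain ⟨h, -, hhC⟩ := hredH _ hgH hog
    have hoh : orderOf (h * (g * a * g⁻¹) * h⁻¹) = 3 := by
      rw [← MulAut.conj_apply h, MulEquiv.orderOf_eq, hog]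
    refine ((isConj_iff.2 ⟨g, rfl⟩).trans (isConj_iff.2 ⟨h, rfl⟩)).trans ?_
    by_cases hcP : h * (g * a * g⁻¹) * h⁻¹ ∈ P
    · rcases hmemP _ hcP with e | e | e
      · rw [e, orderOf_one] at hoh; norm_num at hoh
      · rw [e]
      · rw [e]
        exact (isConj_iff.2 ⟨k, hkp⟩).symm
    · exact (hnc _ q hhC hqC hoh hqo hcP hqP).trans hpq.symm
  exact (hall x hx).trans (hall y hy).symm

end Cfsg.Agent.J4Type
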