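import Cfsg.Prelude.Def_JankoFourType
import Cfsg.Agent.Core.PCore
import Cfsg.Agent.S2062
import Cfsg.Agent.Compute.Mathieu
import Cfsg.Agent.J4Type.Rep.Cover

/-!
# The centraliser of an element of Janko-four type: the module `E / ⟨z⟩` and the cover of M22

`H = C(z)` is `E N_H(P)`, `C = C_H(P)` has index two in `N_H(P)`, meets `E` in `⟨z⟩`, acts faithfully on
`V = E / ⟨z⟩` modulo `⟨z⟩`, and `C / ⟨z⟩` is a perfect triple cover of M22 in the sense of `Rep.CoverData`.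
-/

set_option autoImplicit false

open Subgroup Cfsg
open scoped Pointwise

namespace Cfsg.Agent.J4Type.Base

universe u

variable {G : Type u} [Group G]

/-- The centraliser of `z`. -/
abbrev Hz (z : G) : Subgroup G := centralizer ({z} : Set G)

/-- The largest normal 2-subgroup of the centraliser of `z`. -/
abbrev Ez (z : G) : Subgroup G := twoCoreOfCentralizer z

/-- The normaliser of `P` in the centraliser of `z`. -/
abbrev NP (z : G) (P : Subgroup G) : Subgroup G := Hz z ⊓ normalizer (P : Set G)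

/-- The centraliser of `P` in the centraliser of `z`. -/
abbrev CP (z : G) (P : Subgroup G) : Subgroup G := Hz z ⊓ centralizer (P : Set G)

theorem mem_Hz {z g : G} : g ∈ Hz z ↔ g * z = z * g := mem_centralizer_singleton_iff

theorem Ez_le (z : G) : Ez z ≤ Hz z := map_subtype_le _

theorem Ez_conj {z h e : G} (hh : h ∈ Hz z) (he : e ∈ Ez z) : h * e * h⁻¹ ∈ Ez z := by
  obtain ⟨e', he', rfl⟩ := mem_map.1 he
  exact mem_map.2 ⟨⟨h, hh⟩ * e' * ⟨h, hh⟩⁻¹, (pCore_normal 2 ↥(Hz z)).conj_mem e' he' _, rfl⟩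

/-- `V = E / ⟨z⟩`, written additively. -/
abbrev V (z : G) : Type u := Additive (Abelianization ↥(Ez z))

/-- The projection of `E` on `V`. -/
def bar {z : G} (e : ↥(Ez z)) : V z := Additive.ofMul (Abelianization.of e)

theorem bar_mul {z : G} (a b : ↥(Ez z)) : bar (a * b) = bar a + bar b := by
  simp [bar]

theorem bar_surjective (z : G) : Function.Surjective (bar (z := z)) := fun v => by
  obtain ⟨e, he⟩ := QuotientGroup.mk_surjective (Additive.toMul v)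
  exact ⟨e, congrArg Additive.ofMul he⟩

/-- Conjugation on `E`. -/
def cj (z : G) (h : ↥(Hz z)) : ↥(Ez z) →* ↥(Ez z) where
  toFun e := ⟨h.1 * e.1 * h.1⁻¹, Ez_conj h.2 e.2⟩
  map_one' := Subtype.ext (by simp)
  map_mul' a b := Subtype.ext (show h.1 * (a.1 * b.1) * h.1⁻¹ = h.1 * a.1 * h.1⁻¹ * (h.1 * b.1 * h.1⁻¹) by group)

/-- The action of the centraliser of `z` on `V`. -/
def act (z : G) : ↥(Hz z) →* AddMonoid.End (V z) where
  toFun h := MonoidHom.toAdditive (Abelianization.map (cj z h))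
  map_one' := by
    refine AddMonoidHom.ext fun v => ?_
    obtain ⟨e, rfl⟩ := bar_surjective z v
    exact congrArg bar (Subtype.ext (show (1 : G) * e.1 * (1 : G)⁻¹ = e.1 by group))
  map_mul' a b := by
    refine AddMonoidHom.ext fun v => ?_
    obtain ⟨e, rfl⟩ := bar_surjective z v
    exact congrArg bar (Subtype.ext
      (show (a.1 * b.1) * e.1 * (a.1 * b.1)⁻¹ = a.1 * (b.1 * e.1 * b.1⁻¹) * a.1⁻¹ by group))

theorem act_bar {z : G} (h : ↥(Hz z)) (e : ↥(Ez z)) :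
    act z h (bar e) = bar ⟨h.1 * e.1 * h.1⁻¹, Ez_conj h.2 e.2⟩ := rfl

/-- The powers of `z` inside `C_H(P)`. -/
abbrev Zc (z : G) (P : Subgroup G) : Subgroup ↥(CP z P) := (zpowers z).subgroupOf (CP z P)

theorem comm_zpow {z g : G} (hg : g ∈ Hz z) (n : ℤ) : g * z ^ n = z ^ n * g :=
  ((show Commute g z from mem_Hz.1 hg).zpow_right n).eq

instance Zc_normal (z : G) (P : Subgroup G) : (Zc z P).Normal where
  conj_mem x hx g := by
    obtain ⟨n, hn⟩ := mem_zpowers_iff.1 (mem_subgroupOf.1 hx)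
    refine mem_subgroupOf.2 (mem_zpowers_iff.2 ⟨n, ?_⟩)
    show z ^ n = g.1 * x.1 * g.1⁻¹
    rw [← hn, comm_zpow g.2.1 n, mul_inv_cancel_right]

/-- `C_H(P) / ⟨z⟩`. -/
abbrev Q (z : G) (P : Subgroup G) : Type u := ↥(CP z P) ⧸ Zc z P

theorem act_zpow (z : G) (h : ↥(Hz z)) {n : ℤ} (hn : h.1 = z ^ n) : act z h = 1 := by
  refine AddMonoidHom.ext fun v => ?_
  obtain ⟨e, rfl⟩ := bar_surjective z v
  refine congrArg bar (Subtype.ext ?_)
  show h.1 * e.1 * h.1⁻¹ = e.1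
  rw [hn, ← comm_zpow (Ez_le z e.2) n, mul_inv_cancel_right]

/-- The action of `C_H(P) / ⟨z⟩` on `V`. -/
def rho (z : G) (P : Subgroup G) : Q z P →* AddMonoid.End (V z) :=
  QuotientGroup.lift (Zc z P) ((act z).comp (inclusion inf_le_left)) (by
    intro x hx
    obtain ⟨n, hn⟩ := mem_zpowers_iff.1 (mem_subgroupOf.1 hx)
    exact MonoidHom.mem_ker.2 (act_zpow z _ hn.symm))

theorem rho_mk (z : G) (P : Subgroup G) (c : ↥(CP z P)) :
    rho z P (QuotientGroup.mk c) = act z ⟨c.1, c.2.1⟩ := rfl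

theorem rho_bar {z : G} {P : Subgroup G} (c : ↥(CP z P)) (e : ↥(Ez z)) :
    rho z P (QuotientGroup.mk c) (bar e) = bar ⟨c.1 * e.1 * c.1⁻¹, Ez_conj c.2.1 e.2⟩ := rfl

variable {z : G} {P : Subgroup G} (hJ : IsOfJankoFourTypeWith z P)
include hJ

theorem zz : z * z = 1 := by
  have := pow_orderOf_eq_one z
  rwa [hJ.1, pow_two] at this

theorem z_ne : z ≠ 1 := fun h => by
  have := hJ.1
  rw [h, orderOf_one] at this
  omega

theorem inv_z : z⁻¹ = z := inv_eq_of_mul_eq_one_right (zz hJ)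

theorem zpowers_cases {x : G} (hx : x ∈ zpowers z) : x = 1 ∨ x = z := by
  obtain ⟨n, rfl⟩ := mem_zpowers_iff.1 hx
  rw [← zpow_mod_orderOf, hJ.1]
  rcases Int.emod_two_eq_zero_or_one n with e | e
  · exact Or.inl (by norm_num [e])
  · exact Or.inr (by norm_num [e])

theorem z_mem : z ∈ Ez z :=
  (show z ∈ Ez z ⊓ centralizer (P : Set G) by
    rw [show Ez z ⊓ centralizer (P : Set G) = zpowers z from hJ.2.2.2.2.2.2.1]
    exact mem_zpowers z).1

theorem z_mem_CP : z ∈ CP z P :=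
  ⟨mem_Hz.2 rfl, (show z ∈ Ez z ⊓ centralizer (P : Set G) by
    rw [show Ez z ⊓ centralizer (P : Set G) = zpowers z from hJ.2.2.2.2.2.2.1]
    exact mem_zpowers z).2⟩

theorem mem_Ez_fix {x : G} (hx : x ∈ Ez z) (hc : x ∈ centralizer (P : Set G)) : x = 1 ∨ x = z :=
  zpowers_cases hJ (by
    rw [← show Ez z ⊓ centralizer (P : Set G) = zpowers z from hJ.2.2.2.2.2.2.1]
    exact ⟨hx, hc⟩)

theorem center_Ez : center ↥(Ez z) = zpowers (⟨z, z_mem hJ⟩ : ↥(Ez z)) := by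
  have hz : (⟨z, z_mem hJ⟩ : ↥(Ez z)) ∈ center ↥(Ez z) :=
    Subgroup.mem_center_iff.2 fun g => Subtype.ext (mem_Hz.1 (Ez_le z g.2))
  haveI : Finite ↥(center ↥(Ez z)) := Nat.finite_of_card_ne_zero (by rw [hJ.2.1.2]; norm_num)
  refine (eq_of_le_of_card_ge (zpowers_le.2 hz) ?_).symm
  rw [hJ.2.1.2, Nat.card_zpowers, ← orderOf_submonoid]
  exact hJ.1.ge

theorem commutator_Ez : commutator ↥(Ez z) = zpowers (⟨z, z_mem hJ⟩ : ↥(Ez z)) :=
  hJ.2.1.1.2.2.trans (center_Ez hJ)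

theorem mem_zpowers_Ez {a : ↥(Ez z)} :
    a ∈ zpowers (⟨z, z_mem hJ⟩ : ↥(Ez z)) ↔ a.1 = 1 ∨ a.1 = z := by
  constructor
  · intro h
    obtain ⟨n, rfl⟩ := mem_zpowers_iff.1 h
    exact zpowers_cases hJ (mem_zpowers_iff.2 ⟨n, by simp⟩)
  · rintro (h | h)
    · rw [show a = 1 from Subtype.ext h]; exact one_mem _
    · rw [show a = ⟨z, z_mem hJ⟩ from Subtype.ext h]; exact mem_zpowers _

theorem bar_eq_zero {a : ↥(Ez z)} : bar a = 0 ↔ a.1 = 1 ∨ a.1 = z := by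
  rw [← mem_zpowers_Ez hJ, ← commutator_Ez hJ]
  exact (QuotientGroup.eq_one_iff a)

theorem bar_eq {a b : ↥(Ez z)} : bar a = bar b ↔ b.1 = a.1 ∨ b.1 = a.1 * z := by
  have e : bar b = bar a + bar (a⁻¹ * b) := by rw [← bar_mul, mul_inv_cancel_left]
  rw [e, left_eq_add, bar_eq_zero hJ]
  show a.1⁻¹ * b.1 = 1 ∨ a.1⁻¹ * b.1 = z ↔ _
  rw [inv_mul_eq_one, inv_mul_eq_iff_eq_mul, eq_comm]

theorem comm_cases {a b : G} (ha : a ∈ Ez z) (hb : b ∈ Ez z) :
    a * b * a⁻¹ * b⁻¹ = 1 ∨ a * b * a⁻¹ * b⁻¹ = z := by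
  have h : (⟨a, ha⟩ * ⟨b, hb⟩ * ⟨a, ha⟩⁻¹ * ⟨b, hb⟩⁻¹ : ↥(Ez z)) ∈ commutator ↥(Ez z) :=
    commutator_mem_commutator (mem_top _) (mem_top _)
  rw [commutator_Ez hJ] at h
  exact (mem_zpowers_Ez hJ).1 h

theorem centre_cases {a : G} (ha : a ∈ Ez z) (h : ∀ b ∈ Ez z, a * b = b * a) : a = 1 ∨ a = z := by
  have : (⟨a, ha⟩ : ↥(Ez z)) ∈ center ↥(Ez z) :=
    Subgroup.mem_center_iff.2 fun g => Subtype.ext (h g.1 g.2).symm
  rw [center_Ez hJ] at this
  exact (mem_zpowers_Ez hJ).1 this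

omit hJ in
theorem conj_sq {a b c : G} (hc : a * c = c * a) (h : a * b * a⁻¹ = c * b) :
    a * a * b * (a * a)⁻¹ = c * c * b :=
  calc a * a * b * (a * a)⁻¹ = a * (a * b * a⁻¹) * a⁻¹ := by group
    _ = a * c * b * a⁻¹ := by rw [h]; group
    _ = c * (a * b * a⁻¹) := by rw [hc]; group
    _ = c * c * b := by rw [h, mul_assoc]

theorem commutes_sq {a b : G} (ha : a ∈ Hz z) (h : a * b * a⁻¹ * b⁻¹ = 1 ∨ a * b * a⁻¹ * b⁻¹ = z) :
    a * a * b = b * (a * a) := by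
  have key : a * a * b * (a * a)⁻¹ = b := by
    rcases h with h | h
    · rw [conj_sq (c := 1) (by simp) (by rw [one_mul]; exact mul_inv_eq_one.1 h), one_mul, one_mul]
    · rw [conj_sq (c := z) (mem_Hz.1 ha) (mul_inv_eq_iff_eq_mul.1 h), zz hJ, one_mul]
  exact mul_inv_eq_iff_eq_mul.1 key

theorem sq_cases {a : G} (ha : a ∈ Ez z) : a * a = 1 ∨ a * a = z :=
  centre_cases hJ (mul_mem ha ha) fun _ hb => commutes_sq hJ (Ez_le z ha) (comm_cases hJ ha hb)

theorem two_V (v : V z) : v + v = 0 := by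
  obtain ⟨e, rfl⟩ := bar_surjective z v
  rw [← bar_mul, bar_eq_zero hJ]
  exact sq_cases hJ e.2

theorem card_V : Nat.card (V z) = 4096 := by
  have h := card_eq_card_quotient_mul_card_subgroup (commutator ↥(Ez z))
  rw [hJ.2.2.1, commutator_Ez hJ, Nat.card_zpowers, ← orderOf_submonoid, hJ.1] at h
  show Nat.card (↥(Ez z) ⧸ commutator ↥(Ez z)) = 4096
  rw [commutator_Ez hJ]
  omega

theorem finite_V : Finite (V z) := Nat.finite_of_card_ne_zero (by rw [card_V hJ]; norm_num)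

theorem cube {p : G} (hp : p ∈ P) : p * p * p = 1 := by
  have h : (⟨p, hp⟩ : ↥P) ^ 3 = 1 := hJ.2.2.2.2.2.1 ▸ pow_card_eq_one'
  have := congrArg Subtype.val h
  simpa [pow_succ] using this

theorem P_le : P ≤ Hz z := by
  obtain ⟨N, -, hNH, -, -, -, hPN⟩ := hJ.2.2.2.2.1
  exact hPN.trans hNH

theorem P_le_CP : P ≤ CP z P := by
  refine le_inf (P_le hJ) fun p hp => mem_centralizer_iff.2 fun q hq => ?_
  haveI : Fact (Nat.Prime 3) := ⟨by norm_num⟩
  haveI := isCyclic_of_prime_card hJ.2.2.2.2.2.1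
  letI := IsCyclic.commGroup (α := ↥P)
  exact congrArg Subtype.val (mul_comm (⟨q, hq⟩ : ↥P) ⟨p, hp⟩)

theorem P_inter_Ez {x : G} (hP : x ∈ P) (hE : x ∈ Ez z) : x = 1 := by
  rcases mem_Ez_fix hJ hE (P_le_CP hJ hP).2 with h | h
  · exact h
  · have := cube hJ hP
    rw [h, zz hJ, one_mul] at this
    exact absurd this (z_ne hJ)

theorem Ez_inter_NP {x : G} (hE : x ∈ Ez z) (hN : x ∈ normalizer (P : Set G)) : x = 1 ∨ x = z := by
  refine mem_Ez_fix hJ hE (mem_centralizer_iff.2 fun p hp => ?_)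
  have h1 : x * p * x⁻¹ * p⁻¹ ∈ P := mul_mem ((mem_normalizer_iff.1 hN p).1 hp) (inv_mem hp)
  have h2 : x * p * x⁻¹ * p⁻¹ ∈ Ez z := by
    rw [show x * p * x⁻¹ * p⁻¹ = x * (p * x⁻¹ * p⁻¹) by group]
    exact mul_mem hE (Ez_conj (P_le hJ hp) (inv_mem hE))
  have := P_inter_Ez hJ h1 h2
  rw [mul_inv_eq_one, mul_inv_eq_iff_eq_mul] at this
  exact this.symm

theorem exists_gen : ∃ p ∈ P, orderOf p = 3 ∧ P = zpowers p := by
  haveI : Finite ↥P := Nat.finite_of_card_ne_zero (by rw [hJ.2.2.2.2.2.1]; norm_num)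
  obtain ⟨p, hp, hne⟩ := exists_ne_one_of_card_gt hJ
  have h3 : orderOf p = 3 := by
    haveI : Fact (Nat.Prime 3) := ⟨by norm_num⟩
    exact orderOf_eq_prime (by rw [pow_succ, pow_two]; exact cube hJ hp) hne
  exact ⟨p, hp, h3, (eq_of_le_of_card_ge (zpowers_le.2 hp)
    (by rw [Nat.card_zpowers, h3, hJ.2.2.2.2.2.1])).symm⟩
where
  exists_ne_one_of_card_gt (hJ : IsOfJankoFourTypeWith z P) : ∃ p ∈ P, p ≠ 1 := by
    by_contra h
    push Not at h
    have : P = ⊥ := (eq_bot_iff_forall P).2 h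
    have h3 := hJ.2.2.2.2.2.1
    rw [this, Subgroup.card_bot] at h3
    omega

theorem centralizer_of_gen {g p : G} (hP : P = zpowers p) (h : g * p = p * g) :
    g ∈ centralizer (P : Set G) := mem_centralizer_iff.2 fun q hq => by
  rw [SetLike.mem_coe, hP, mem_zpowers_iff] at hq
  obtain ⟨n, rfl⟩ := hq
  exact ((show Commute p g from h.symm).zpow_left n).eq

omit hJ in
theorem CP_le_NP (z : G) (P : Subgroup G) : CP z P ≤ NP z P :=
  inf_le_inf_left _ (centralizer_le_normalizer _)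

theorem conj_gen {n p : G} (hn : n ∈ NP z P) (hp : p ∈ P) (ho : orderOf p = 3) (hP : P = zpowers p) :
    n * p * n⁻¹ = p ∨ n * p * n⁻¹ = p⁻¹ := by
  have hm : n * p * n⁻¹ ∈ zpowers p := hP ▸ (mem_normalizer_iff.1 hn.2 p).1 hp
  obtain ⟨k, hk⟩ := mem_zpowers_iff.1 hm
  rw [← zpow_mod_orderOf, ho] at hk
  have h1 := Int.emod_nonneg k (show (3 : ℤ) ≠ 0 by norm_num)
  have h2 := Int.emod_lt_of_pos k (show (0 : ℤ) < 3 by norm_num)
  have hne : p ≠ 1 := fun h => by rw [h, orderOf_one] at ho; omega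
  interval_cases h : k % 3
  · exfalso
    refine hne ?_
    have h' : n * p * n⁻¹ = 1 := by rw [← hk]; norm_num [h]
    have := congrArg (fun x => n⁻¹ * x * n) h'
    simpa [mul_assoc] using this
  · exact Or.inl (by rw [← hk]; norm_num [h])
  · refine Or.inr ?_
    rw [← hk]
    norm_num [h]
    exact eq_inv_of_mul_eq_one_left (by rw [← pow_succ]; norm_num; rw [← ho, pow_orderOf_eq_one])

/-- An element of `N_H(P)` outside `C_H(P)`, inverting `P`. -/
theorem exists_outer : ∃ n ∈ NP z P, n ∉ CP z P ∧ ∀ q ∈ P, n * q * n⁻¹ = q⁻¹ := by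
  obtain ⟨p, hp, ho, hP⟩ := exists_gen hJ
  obtain ⟨n, hn, hnC⟩ : ∃ n ∈ NP z P, n ∉ CP z P := by
    by_contra h
    push Not at h
    exact hJ.2.2.2.2.2.2.2.1 (le_antisymm h (CP_le_NP z P))
  refine ⟨n, hn, hnC, fun q hq => ?_⟩
  rcases conj_gen hJ hn hp ho hP with e | e
  · exact absurd ⟨hn.1, centralizer_of_gen hJ hP (mul_inv_eq_iff_eq_mul.1 e)⟩ hnC
  · rw [hP, mem_zpowers_iff] at hq
    obtain ⟨k, rfl⟩ := hq
    rw [show n * p ^ k * n⁻¹ = MulAut.conj n (p ^ k) from rfl, map_zpow, MulAut.conj_apply, e, inv_zpow]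

theorem mul_mem_CP_iff {a b : G} (ha : a ∈ NP z P) (hb : b ∈ NP z P) :
    a * b ∈ CP z P ↔ (a ∈ CP z P ↔ b ∈ CP z P) := by
  obtain ⟨p, hp, ho, hP⟩ := exists_gen hJ
  have hpp : p ≠ p⁻¹ := fun h => by
    have h2 : p * p = 1 := by
      calc p * p = p⁻¹ * p := by rw [← h]
        _ = 1 := inv_mul_cancel p
    have h3 := cube hJ hp
    rw [h2, one_mul] at h3
    rw [h3, orderOf_one] at ho
    omega
  have key : ∀ c ∈ NP z P, c ∈ CP z P ↔ c * p * c⁻¹ = p := fun c hc =>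
    ⟨fun h => mul_inv_eq_iff_eq_mul.2 (mem_centralizer_iff.1 h.2 p hp).symm,
      fun h => ⟨hc.1, centralizer_of_gen hJ hP (mul_inv_eq_iff_eq_mul.1 h)⟩⟩
  rw [key _ (mul_mem ha hb), key a ha, key b hb,
    show a * b * p * (a * b)⁻¹ = a * (b * p * b⁻¹) * a⁻¹ by group]
  rcases conj_gen hJ ha hp ho hP with ea | ea <;> rcases conj_gen hJ hb hp ho hP with eb | eb <;> rw [eb]
  · simp [ea]
  · rw [show a * p⁻¹ * a⁻¹ = (a * p * a⁻¹)⁻¹ by group, ea]
    simp [hpp.symm]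
  · simp [ea, hpp.symm]
  · rw [show a * p⁻¹ * a⁻¹ = (a * p * a⁻¹)⁻¹ by group, ea, inv_inv]
    simp [hpp.symm]

theorem relIndex_CP : (CP z P).relIndex (NP z P) = 2 := by
  obtain ⟨n, hn, hnC, -⟩ := exists_outer hJ
  refine relIndex_eq_two_iff.2 ⟨n, hn, fun b hb => ?_⟩
  rw [mul_mem_CP_iff hJ hb hn]
  by_cases h : b ∈ CP z P <;> simp [Xor, h, hnC]

variable [Finite G]

theorem mem_N_split {N : Subgroup G} (hEN : Ez z ≤ N) (hNH : N ≤ Hz z) (hPN : P ≤ N)
    (hcard : Nat.card ↥N = 3 * Nat.card ↥(Ez z)) {x : G} (hx : x ∈ N) :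
    ∃ e ∈ Ez z, ∃ q ∈ P, x = e * q := by
  have hle : P ≤ normalizer (Ez z : Set G) := fun p hp => mem_normalizer_iff.2 fun e =>
    ⟨fun he => Ez_conj (P_le hJ hp) he, fun he => by
      have := Ez_conj (inv_mem (P_le hJ hp)) he
      simpa [mul_assoc] using this⟩
  have hco : (↑(Ez z ⊔ P) : Set G) = (Ez z : Set G) * (P : Set G) :=
    coe_mul_of_right_le_normalizer_left _ _ hle
  have hsup : Ez z ⊔ P = N := by
    refine eq_of_le_of_card_ge (sup_le hEN hPN) ?_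
    rw [hcard]
    have hd : Nat.card ↥(Ez z) ∣ Nat.card ↥(Ez z ⊔ P) := card_dvd_of_le le_sup_left
    have hd2 : 3 ∣ Nat.card ↥(Ez z ⊔ P) := hJ.2.2.2.2.2.1 ▸ card_dvd_of_le le_sup_right
    rw [hJ.2.2.1] at hd ⊢
    exact Nat.le_of_dvd Nat.card_pos (Nat.Coprime.mul_dvd_of_dvd_of_dvd (by norm_num) hd2 hd)
  have hx' : x ∈ (Ez z : Set G) * (P : Set G) := by rw [← hco, hsup]; exact hx
  obtain ⟨e, he, q, hq, rfl⟩ := hx'
  exact ⟨e, he, q, hq, rfl⟩

/-- `C(z) = E N_H(P)`. -/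
theorem mem_split {h : G} (hh : h ∈ Hz z) : ∃ e ∈ Ez z, ∃ n ∈ NP z P, h = e * n := by
  obtain ⟨N, hEN, hNH, hHN, hcard, -, hPN⟩ := hJ.2.2.2.2.1
  haveI : Fact (Nat.Prime 3) := ⟨by norm_num⟩
  have hfac : 3 ^ (Nat.card ↥N).factorization 3 = 3 := by
    rw [hcard, hJ.2.2.1, Nat.factorization_mul (by norm_num) (by norm_num), Finsupp.add_apply,
      Nat.Prime.factorization_self (by norm_num),
      Nat.factorization_eq_zero_of_not_dvd (by norm_num : ¬ 3 ∣ 2 ^ 13)]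
    norm_num
  have hs : Nat.card ↥(P.subgroupOf N) = 3 ^ (Nat.card ↥N).factorization 3 := by
    rw [hfac, Nat.card_congr (subgroupOfEquivOfLe hPN).toEquiv, hJ.2.2.2.2.2.1]
  let P' : Subgroup G := P.map (MulAut.conj h).toMonoidHom
  have hP'N : P' ≤ N := by
    rintro _ ⟨p, hp, rfl⟩
    exact (mem_normalizer_iff.1 (hHN hh) p).1 (hPN hp)
  have hs' : Nat.card ↥(P'.subgroupOf N) = 3 ^ (Nat.card ↥N).factorization 3 := by
    rw [hfac, Nat.card_congr (subgroupOfEquivOfLe hP'N).toEquiv,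
      ← Nat.card_congr (equivMapOfInjective P (MulAut.conj h).toMonoidHom (MulAut.conj h).injective).toEquiv,
      hJ.2.2.2.2.2.1]
  obtain ⟨x, hx⟩ := MulAction.exists_smul_eq ↥N (Sylow.ofCard (P.subgroupOf N) hs)
    (Sylow.ofCard (P'.subgroupOf N) hs')
  have hx2 := congrArg (fun S : Sylow 3 ↥N => (S : Subgroup ↥N)) hx
  simp only [Sylow.coe_subgroup_smul] at hx2
  have hxP : ∀ p ∈ P, x.1 * p * x.1⁻¹ ∈ P' := fun p hp => by
    have h1 : x * ⟨p, hPN hp⟩ * x⁻¹ ∈ MulAut.conj x • P.subgroupOf N :=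
      mem_map.2 ⟨⟨p, hPN hp⟩, mem_subgroupOf.2 hp, rfl⟩
    have hx3 : MulAut.conj x • P.subgroupOf N = P'.subgroupOf N := hx2
    rw [hx3] at h1
    exact mem_subgroupOf.1 h1
  obtain ⟨e, he, q, hq, hxe⟩ := mem_N_split hJ hEN hNH hPN hcard x.2
  refine ⟨e, he, e⁻¹ * h, mem_inf.2 ⟨(Hz z).mul_mem ((Hz z).inv_mem (Ez_le z he)) hh, ?_⟩, by group⟩
  refine Subgroup.mem_normalizer_fintype ?_
  intro p hp
  have h2 : ∀ a ∈ P, e * a * e⁻¹ ∈ P' := fun a ha => by
    have := hxP (q⁻¹ * a * q) (mul_mem (mul_mem (inv_mem hq) ha) hq)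
    rw [hxe] at this
    simpa [mul_assoc] using this
  have hinj : Function.Injective fun a : ↥P => (⟨e * a.1 * e⁻¹, h2 a.1 a.2⟩ : ↥P') := fun a b hab => by
    have := congrArg Subtype.val hab
    exact Subtype.ext (mul_left_cancel (mul_right_cancel this))
  have hbij : Function.Bijective fun a : ↥P => (⟨e * a.1 * e⁻¹, h2 a.1 a.2⟩ : ↥P') :=
    (Nat.bijective_iff_injective_and_card _).2 ⟨hinj,
      Nat.card_congr (equivMapOfInjective P (MulAut.conj h).toMonoidHom (MulAut.conj h).injective).toEquiv⟩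
  obtain ⟨a, ha⟩ := hbij.2 ⟨h * p * h⁻¹, mem_map.2 ⟨p, hp, rfl⟩⟩
  have ha' : e * a.1 * e⁻¹ = h * p * h⁻¹ := congrArg Subtype.val ha
  show e⁻¹ * h * p * (e⁻¹ * h)⁻¹ ∈ P
  rw [show e⁻¹ * h * p * (e⁻¹ * h)⁻¹ = e⁻¹ * (h * p * h⁻¹) * e by group, ← ha']
  simpa [mul_assoc] using a.2

theorem mem_H0 {g : G} : g ∈ Ez z ⊔ CP z P ↔ ∃ e ∈ Ez z, ∃ c ∈ CP z P, g = e * c := by
  have hle : CP z P ≤ normalizer (Ez z : Set G) := fun c hc => mem_normalizer_iff.2 fun e =>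
    ⟨fun he => Ez_conj hc.1 he, fun he => by
      have := Ez_conj (inv_mem hc.1) he
      simpa [mul_assoc] using this⟩
  rw [← SetLike.mem_coe, coe_mul_of_right_le_normalizer_left _ _ hle, Set.mem_mul]
  simp [eq_comm]

theorem mul_mem_H0_iff {e n : G} (he : e ∈ Ez z) (hn : n ∈ NP z P) :
    e * n ∈ Ez z ⊔ CP z P ↔ n ∈ CP z P := by
  refine ⟨fun h => ?_, fun h => (mem_H0 hJ).2 ⟨e, he, n, h, rfl⟩⟩
  obtain ⟨e', he', c, hc, h'⟩ := (mem_H0 hJ).1 h
  have h1 : n * c⁻¹ = e⁻¹ * e' :=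
    calc n * c⁻¹ = e⁻¹ * (e * n) * c⁻¹ := by group
      _ = e⁻¹ * e' := by rw [h']; group
  have hE : n * c⁻¹ ∈ Ez z := h1 ▸ mul_mem (inv_mem he) he'
  have hcc : n * c⁻¹ ∈ CP z P := by
    rcases Ez_inter_NP hJ hE (mul_mem hn.2 (inv_mem (CP_le_NP z P hc).2)) with e1 | e1 <;> rw [e1]
    · exact one_mem _
    · exact z_mem_CP hJ
  have := mul_mem hcc hc
  rwa [inv_mul_cancel_right] at this

/-- `E C_H(P)` has index two in `C(z)`. -/
theorem relIndex_H0 : (Ez z ⊔ CP z P).relIndex (Hz z) = 2 := by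
  obtain ⟨n0, hn0, hn0C, -⟩ := exists_outer hJ
  refine relIndex_eq_two_iff.2 ⟨n0, hn0.1, fun b hb => ?_⟩
  obtain ⟨e, he, n, hn, rfl⟩ := mem_split hJ hb
  rw [mul_assoc, mul_mem_H0_iff hJ he (mul_mem hn hn0), mul_mem_H0_iff hJ he hn,
    mul_mem_CP_iff hJ hn hn0]
  by_cases h : n ∈ CP z P <;> simp [Xor, h, hn0C]

/-- Only `E` centralises `V`. -/
theorem mem_Ez_of_act {h : G} (hh : h ∈ Hz z) (hact : act z ⟨h, hh⟩ = 1) : h ∈ Ez z := by
  have hsq : IsPGroup 2 ↥(act z).ker := by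
    rintro ⟨k, hk⟩
    have hkE : ∀ b ∈ Ez z, k.1 * b * k.1⁻¹ * b⁻¹ = 1 ∨ k.1 * b * k.1⁻¹ * b⁻¹ = z := fun b hb => by
      have e : bar (⟨b, hb⟩ : ↥(Ez z)) = bar ⟨k.1 * b * k.1⁻¹, Ez_conj k.2 hb⟩ := by
        rw [← act_bar k ⟨b, hb⟩, MonoidHom.mem_ker.1 hk]
        rfl
      rcases (bar_eq hJ).1 e with e' | e'
      · exact Or.inl (mul_inv_eq_one.2 e')
      · exact Or.inr (mul_inv_eq_iff_eq_mul.2 (e'.trans (mem_Hz.1 (Ez_le z hb))))
    have hk2 : k.1 * k.1 ∈ Ez z := hJ.2.2.2.1 ⟨mul_mem k.2 k.2,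
      mem_centralizer_iff.2 fun b hb => (commutes_sq hJ k.2 (hkE b hb)).symm⟩
    obtain ⟨m, hm⟩ := hJ.2.1.1.1 ⟨_, hk2⟩
    refine ⟨m + 1, Subtype.ext (Subtype.ext ?_)⟩
    have := congrArg Subtype.val hm
    simp only [SubgroupClass.coe_pow, OneMemClass.coe_one] at this ⊢
    rw [pow_succ', pow_mul, pow_two]
    exact this
  exact mem_map.2 ⟨⟨h, hh⟩, Cfsg.Agent.Core.le_pCore hsq (MonoidHom.mem_ker.2 hact), rfl⟩

theorem rho_injective : Function.Injective (rho z P) := by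
  refine (injective_iff_map_eq_one _).2 fun q hq => ?_
  obtain ⟨c, rfl⟩ := QuotientGroup.mk_surjective q
  rw [rho_mk] at hq
  have hE := mem_Ez_of_act hJ c.2.1 hq
  refine (QuotientGroup.eq_one_iff c).2 (mem_subgroupOf.2 ?_)
  rcases Ez_inter_NP hJ hE (CP_le_NP z P c.2).2 with h | h <;> rw [h]
  · exact one_mem _
  · exact mem_zpowers z

theorem free {p : G} (hp : p ∈ P) (hne : p ≠ 1) {e : G} (he : e ∈ Ez z)
    (h : p * e * p⁻¹ = e ∨ p * e * p⁻¹ = e * z) : e = 1 ∨ e = z := by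
  have hz : p * z * p⁻¹ = z := mul_inv_eq_iff_eq_mul.2 (mem_Hz.1 (P_le hJ hp))
  have h' : p * e * p⁻¹ = e := by
    refine h.resolve_right fun h => ?_
    have h2 : p * p * e * (p * p)⁻¹ = e := by
      rw [show p * p * e * (p * p)⁻¹ = p * (p * e * p⁻¹) * p⁻¹ by group, h,
        show p * (e * z) * p⁻¹ = p * e * p⁻¹ * (p * z * p⁻¹) by group, h, hz, mul_assoc, zz hJ, mul_one]
    have h3 : p * p * p * e * (p * p * p)⁻¹ = e * z := by
      rw [show p * p * p * e * (p * p * p)⁻¹ = p * (p * p * e * (p * p)⁻¹) * p⁻¹ by group, h2, h]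
    rw [cube hJ hp, one_mul, inv_one, mul_one, left_eq_mul] at h3
    exact z_ne hJ h3
  obtain ⟨p0, hp0, ho, hP⟩ := exists_gen hJ
  refine mem_Ez_fix hJ he ?_
  have hgen : P = zpowers p := by
    haveI : Fact (Nat.Prime 3) := ⟨by norm_num⟩
    have h3 : orderOf p = 3 := orderOf_eq_prime (by rw [pow_succ, pow_two]; exact cube hJ hp) hne
    exact (eq_of_le_of_card_ge (zpowers_le.2 hp) (by rw [Nat.card_zpowers, h3, hJ.2.2.2.2.2.1])).symm
  exact centralizer_of_gen hJ hgen (mul_inv_eq_iff_eq_mul.1 h').symm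

/-- `C_H(P) / ⟨z⟩` is a perfect triple cover of M22 acting on `V`. -/
theorem exists_cover_mem : ∃ (π : Q z P →* ↥Spor.M22) (p : Q z P), Rep.CoverData π p (rho z P) ∧
    ∀ c : ↥(CP z P), π (QuotientGroup.mk c) = 1 → ∃ e ∈ zpowers z, ∃ q ∈ P, c.1 = e * q := by
  have hS : IsSimpleGroup ↥Spor.M22 := Compute.isSimpleGroup_m22
  obtain ⟨N, hEN, hNH, hHN, hcard, ⟨hNn, ⟨f⟩⟩, hPN⟩ := hJ.2.2.2.2.1
  haveI := hNn
  let μ : ↥(NP z P) →* MulAut ↥Spor.M22 :=
    f.toMonoidHom.comp ((QuotientGroup.mk' _).comp (inclusion inf_le_left))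
  have μsurj : Function.Surjective μ := fun a => by
    obtain ⟨b, hb⟩ := QuotientGroup.mk_surjective (f.symm a)
    obtain ⟨e, he, n, hn, hbe⟩ := mem_split hJ b.2
    refine ⟨⟨n, hn⟩, ?_⟩
    have h1 : QuotientGroup.mk' (N.subgroupOf (Hz z)) ⟨n, hn.1⟩ = f.symm a := by
      rw [← hb]
      refine QuotientGroup.eq.2 (mem_subgroupOf.2 ?_)
      show n⁻¹ * b.1 ∈ N
      rw [hbe, ← mul_assoc]
      have := (mem_normalizer_iff.1 (hHN (inv_mem hn.1)) e).1 (hEN he)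
      simpa using this
    show f (QuotientGroup.mk' (N.subgroupOf (Hz z)) ⟨n, hn.1⟩) = a
    rw [h1, f.apply_symm_apply]
  have μker : ∀ n : ↥(NP z P), μ n = 1 ↔ ∃ e ∈ zpowers z, ∃ q ∈ P, n.1 = e * q := fun n => by
    have h0 : μ n = 1 ↔ n.1 ∈ N := by
      show f (QuotientGroup.mk' _ (⟨n.1, n.2.1⟩ : ↥(Hz z))) = 1 ↔ _
      rw [EmbeddingLike.map_eq_one_iff, QuotientGroup.mk'_apply, QuotientGroup.eq_one_iff, mem_subgroupOf]
    rw [h0]
    constructor
    · intro hn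
      obtain ⟨e, he, q, hq, h⟩ := mem_N_split hJ hEN hNH hPN hcard hn
      refine ⟨e, ?_, q, hq, h⟩
      have hen : e ∈ normalizer (P : Set G) := by
        rw [show e = n.1 * q⁻¹ by rw [h, mul_inv_cancel_right]]
        exact mul_mem n.2.2 (inv_mem (le_normalizer hq))
      rcases Ez_inter_NP hJ he hen with h1 | h1 <;> rw [h1]
      · exact one_mem _
      · exact mem_zpowers z
    · rintro ⟨e, he, q, hq, h⟩
      rw [h]
      exact mul_mem (hEN (zpowers_le.2 (z_mem hJ) he)) (hPN hq)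
  let C' : Subgroup ↥(NP z P) := (CP z P).subgroupOf (NP z P)
  have hC' : C'.index = 2 := relIndex_CP hJ
  let A : Subgroup (MulAut ↥Spor.M22) := C'.map μ
  have hkerC : μ.ker ≤ C' := fun n hn => mem_subgroupOf.2 (by
    obtain ⟨e, he, q, hq, h⟩ := (μker n).1 (MonoidHom.mem_ker.1 hn)
    rw [h]
    exact mul_mem (zpowers_le.2 (z_mem_CP hJ) he) (P_le_CP hJ hq))
  have hA : A.index = 2 := by rw [index_map_eq _ μsurj hkerC, hC']
  have hI : (Inn ↥Spor.M22).index = 2 := by rw [index_eq_card]; exact S2062.result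
  have hnc : Nat.card ↥Spor.M22 = 443520 := Compute.card_m22
  haveI : Finite ↥Spor.M22 := Nat.finite_of_card_ne_zero (by rw [hnc]; norm_num)
  have hinj : Function.Injective (MulAut.conj : ↥Spor.M22 →* MulAut ↥Spor.M22) := by
    refine (MonoidHom.ker_eq_bot_iff _).1 ?_
    rcases (inferInstance : (MulAut.conj : ↥Spor.M22 →* MulAut ↥Spor.M22).ker.Normal).eq_bot_or_eq_top with h | h
    · exact h
    · exfalso
      have hab : ∀ a b : ↥Spor.M22, a * b = b * a := fun a b => by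
        have ha : MulAut.conj a = 1 := MonoidHom.mem_ker.1 (h ▸ mem_top a)
        have := DFunLike.congr_fun ha b
        simp only [MulAut.conj_apply, MulAut.one_apply] at this
        exact mul_inv_eq_iff_eq_mul.1 this
      letI : CommGroup ↥Spor.M22 := { mul_comm := hab }
      have := IsSimpleGroup.prime_card (α := ↥Spor.M22)
      rw [hnc] at this
      norm_num at this
  have hAI : A = Inn ↥Spor.M22 := by
    have hAn : A.Normal := normal_of_index_eq_two hA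
    let B : Subgroup ↥Spor.M22 := A.comap MulAut.conj
    have hB : B = ⊤ := by
      rcases (hAn.comap MulAut.conj).eq_bot_or_eq_top with h | h
      · exfalso
        have h1 : B.index ∣ 2 := by
          rw [show B.index = A.relIndex (Inn ↥Spor.M22) from index_comap A MulAut.conj, ← hA]
          exact relIndex_dvd_index_of_normal A (Inn ↥Spor.M22)
        rw [show B = ⊥ from h, index_bot, hnc] at h1
        exact absurd (Nat.le_of_dvd (by norm_num) h1) (by norm_num)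
      · exact h
    have hle : Inn ↥Spor.M22 ≤ A := by
      rintro _ ⟨g, rfl⟩
      exact (show g ∈ B by rw [hB]; exact mem_top g)
    have h2 := relIndex_mul_index hle
    rw [hA, hI] at h2
    exact le_antisymm (relIndex_eq_one.1 (by omega)) hle
  let fM : ↥Spor.M22 ≃* ↥(Inn ↥Spor.M22) := MonoidHom.ofInjective hinj
  let ι : ↥(CP z P) →* ↥(NP z P) := inclusion (CP_le_NP z P)
  let π0 : ↥(CP z P) →* ↥Spor.M22 := fM.symm.toMonoidHom.comp
    ((μ.comp ι).codRestrict (Inn ↥Spor.M22)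
      fun c => (le_of_eq hAI) (mem_map_of_mem μ (mem_subgroupOf.2 c.2 : ι c ∈ C')))
  have π0_eq : ∀ c, π0 c = 1 ↔ μ (ι c) = 1 := fun c => by
    show fM.symm _ = 1 ↔ _
    rw [EmbeddingLike.map_eq_one_iff]
    exact ⟨fun h => congrArg Subtype.val h, fun h => Subtype.ext h⟩
  have π0_surj : Function.Surjective π0 := fun m => by
    have : (fM m).1 ∈ A := (le_of_eq hAI.symm) (fM m).2
    obtain ⟨n, hn, hμ⟩ := mem_map.1 this
    refine ⟨⟨n.1, mem_subgroupOf.1 hn⟩, ?_⟩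
    show fM.symm _ = m
    rw [MulEquiv.symm_apply_eq]
    exact Subtype.ext hμ
  obtain ⟨p, hp, ho, hP⟩ := exists_gen hJ
  let pc : ↥(CP z P) := ⟨p, P_le_CP hJ hp⟩
  have hne : p ≠ 1 := fun h => by rw [h, orderOf_one] at ho; omega
  have hπz : Zc z P ≤ π0.ker := fun c hc => MonoidHom.mem_ker.2 ((π0_eq c).2 ((μker _).2
    ⟨c.1, mem_subgroupOf.1 hc, 1, one_mem _, by simp [ι]⟩))
  refine ⟨QuotientGroup.lift (Zc z P) π0 hπz, QuotientGroup.mk pc, ⟨?_, ?_, ?_, ?_, ?_, ?_, hS⟩,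
    fun c hc => (μker _).1 ((π0_eq c).1 hc)⟩
  · intro m
    obtain ⟨c, rfl⟩ := π0_surj m
    exact ⟨QuotientGroup.mk c, rfl⟩
  · ext q
    obtain ⟨c, rfl⟩ := QuotientGroup.mk_surjective q
    rw [MonoidHom.mem_ker, QuotientGroup.lift_mk, π0_eq, μker]
    constructor
    · rintro ⟨e, he, q, hq, h⟩
      rw [hP, mem_zpowers_iff] at hq
      obtain ⟨k, rfl⟩ := hq
      refine mem_zpowers_iff.2 ⟨k, ?_⟩
      rw [← QuotientGroup.mk_zpow]
      refine QuotientGroup.eq.2 (mem_subgroupOf.2 ?_)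
      show (p ^ k)⁻¹ * c.1 ∈ zpowers z
      rw [show c.1 = e * p ^ k from h]
      obtain ⟨j, rfl⟩ := mem_zpowers_iff.1 he
      rw [← mul_assoc, comm_zpow (inv_mem (zpow_mem (P_le hJ hp) k)) j, inv_mul_cancel_right]
      exact zpow_mem (mem_zpowers z) j
    · intro hc
      obtain ⟨k, hk⟩ := mem_zpowers_iff.1 hc
      rw [← QuotientGroup.mk_zpow] at hk
      obtain ⟨j, hj⟩ := mem_zpowers_iff.1 (mem_subgroupOf.1 (QuotientGroup.eq.1 hk))
      refine ⟨z ^ j, zpow_mem (mem_zpowers z) j, p ^ k, zpow_mem hp k, ?_⟩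
      show c.1 = z ^ j * p ^ k
      rw [← comm_zpow (zpow_mem (P_le hJ hp) k) j,
        show z ^ j = (p ^ k)⁻¹ * c.1 from hj, mul_inv_cancel_left]
  · refine orderOf_eq_prime (hp := ⟨by norm_num⟩) ?_ ?_
    · rw [← QuotientGroup.mk_pow]
      refine (QuotientGroup.eq_one_iff _).2 (mem_subgroupOf.2 ?_)
      show p ^ 3 ∈ zpowers z
      rw [← ho, pow_orderOf_eq_one]
      exact one_mem _
    · intro h
      exact hne (P_inter_Ez hJ hp (zpowers_le.2 (z_mem hJ) (mem_subgroupOf.1 ((QuotientGroup.eq_one_iff _).1 h))))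
  · rw [mem_center_iff]
    intro q
    obtain ⟨c, rfl⟩ := QuotientGroup.mk_surjective q
    rw [← QuotientGroup.mk_mul, ← QuotientGroup.mk_mul]
    exact congrArg _ (Subtype.ext (mem_centralizer_iff.1 c.2.2 p hp).symm)
  · have h1 : pc ∈ commutator ↥(CP z P) := by
      have h2 : p ∈ (commutator ↥(CP z P)).map (CP z P).subtype := by
        rw [map_subtype_commutator]
        exact hJ.2.2.2.2.2.2.2.2 hp
      obtain ⟨c, hc, hcp⟩ := h2
      rwa [show pc = c from Subtype.ext hcp.symm]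
    have h3 : (commutator ↥(CP z P)).map (QuotientGroup.mk' (Zc z P)) ≤ commutator (Q z P) := by
      rw [_root_.commutator_def, _root_.commutator_def, map_commutator]
      exact commutator_mono le_top le_top
    exact h3 (mem_map_of_mem _ h1)
  · intro v hv
    obtain ⟨e, rfl⟩ := bar_surjective z v
    rw [rho_bar] at hv
    refine (bar_eq_zero hJ).2 (free hJ hp hne e.2 ?_)
    rcases (bar_eq hJ).1 hv.symm with h | h
    · exact Or.inl h
    · exact Or.inr h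

theorem exists_cover : ∃ (π : Q z P →* ↥Spor.M22) (p : Q z P), Rep.CoverData π p (rho z P) := by
  obtain ⟨π, p, C, -⟩ := exists_cover_mem hJ
  exact ⟨π, p, C⟩

/-- The order of `C_H(P)`. -/
theorem card_CP : Nat.card ↥(CP z P) = 6 * 443520 := by
  obtain ⟨π, p, C⟩ := exists_cover hJ
  have h1 := card_eq_card_quotient_mul_card_subgroup π.ker
  rw [Nat.card_congr (QuotientGroup.quotientKerEquivOfSurjective π C.surj).toEquiv,
    show Nat.card ↥Spor.M22 = 443520 from Compute.card_m22, C.ker, Nat.card_zpowers, C.ord] at h1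
  have h2 := card_eq_card_quotient_mul_card_subgroup (Zc z P)
  rw [h1, Nat.card_congr (subgroupOfEquivOfLe (zpowers_le.2 (z_mem_CP hJ))).toEquiv,
    Nat.card_zpowers, hJ.1] at h2
  exact h2.trans (by norm_num)

end Cfsg.Agent.J4Type.Base
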