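import Cfsg.Agent.J4Type.Hom
import Cfsg.Agent.J4Type.Base
import Cfsg.Agent.Invol.ZStar

/-!
# The normaliser of `P` lies in `C(z)`

`z` is isolated in `C_G(P)`, so `C_G(P) = O C_H(P)` with `O` of odd order, inverted modulo `P` by `z` and by a
second conjugate `y` of `z` in `C_H(P)`; then `y z`, and with it `z`, is trivial on `O / P`, so `O = P`.
-/

set_option autoImplicit false

open Cfsg Subgroup
open scoped Pointwise commutatorElement

namespace Cfsg.Agent.J4Type

open LargeExtra (oc oc_le conj_mem_oc)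

variable {G : Type*} [Group G] [Finite G] {z : G} {P : Subgroup G} {V : Type*} [AddCommGroup V]
  {π : ↥(oc z) →* Multiplicative V} {ρ : ↥(mSub z P) →* Equiv.Perm V} {q : V → ZMod 2}

/-- An element of odd order is a power of its square. -/
theorem mem_zpowers_sq {M : Type*} [Group M] {a : M} (h : Odd (orderOf a)) : a ∈ zpowers (a * a) := by
  obtain ⟨k, hk⟩ := h
  refine mem_zpowers_iff.2 ⟨(k + 1 : ℕ), ?_⟩
  rw [zpow_natCast, ← pow_two, ← pow_mul, show 2 * (k + 1) = (2 * k + 1) + 1 by ring, pow_succ, ← hk,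
    pow_orderOf_eq_one, one_mul]

omit [Finite G] in
/-- An involution normalising `O`, with fixed points in `O` inside the central `P ≤ O`, inverts `O / P`. -/
theorem inverts_mod {O : Subgroup G} (hodd : ∀ o ∈ O, Odd (orderOf o)) {t : G} (ht : t * t = 1)
    (hn : ∀ o ∈ O, t * o * t ∈ O) (hfix : ∀ o ∈ O, Commute t o → o ∈ P)
    (hP : ∀ p ∈ P, Commute t p ∧ ∀ o ∈ O, Commute p o) :
    ∀ o ∈ O, t * o * t * o ∈ P := by
  intro o ho
  set k := t * o * t * o⁻¹ with hk
  have hkO : k ∈ O := mul_mem (hn o ho) (inv_mem ho)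
  have hkinv : t * k * t = k⁻¹ := by
    calc t * k * t = (t * t) * o * (t * o⁻¹ * t) := by rw [hk]; group
      _ = o * (t * o⁻¹ * t) := by rw [ht, one_mul]
      _ = k⁻¹ := by
        rw [hk, _root_.mul_inv_rev, _root_.mul_inv_rev, _root_.mul_inv_rev, inv_inv,
          inv_eq_of_mul_eq_one_right ht]
        group
  obtain ⟨n, hn'⟩ := mem_zpowers_iff.1 (mem_zpowers_sq (hodd k hkO))
  set s := k ^ n with hs
  have hss : s * s = k := by
    rw [hs, ← zpow_add, ← two_mul, zpow_mul, zpow_two, hn']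
  have htinv : t⁻¹ = t := inv_eq_of_mul_eq_one_right ht
  have hts : t * s * t = s⁻¹ := by
    rw [hs, ← inv_zpow, ← hkinv]
    have := map_zpow (MulAut.conj t) k n
    simp only [MulAut.conj_apply, htinv] at this
    exact this
  have hsO : s ∈ O := zpow_mem hkO n
  have hfx : t * (s * o) = s * o * t := by
    have e : t * (s * o) * t = s * o :=
      calc t * (s * o) * t = (t * s * t) * (t * o * t) := by
            rw [show t * s * t * (t * o * t) = t * s * (t * t) * o * t by group, ht]; group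
        _ = s⁻¹ * (s * s * o) := by rw [hts, hss, hk]; group
        _ = s * o := by group
    calc t * (s * o) = t * (s * o) * (t * t) := by rw [ht, mul_one]
      _ = t * (s * o) * t * t := by group
      _ = s * o * t := by rw [e]
  have hp0 : s * o ∈ P := hfix _ (mul_mem hsO ho) hfx
  obtain ⟨hp1, hp2⟩ := hP _ hp0
  have e1 : t * o * t * o = (t * s⁻¹ * t) * (s * o) * s⁻¹ * (s * o) := by
    calc t * o * t * o = t * s⁻¹ * (s * o * t) * o := by group
      _ = t * s⁻¹ * (t * (s * o)) * o := by rw [hfx]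
      _ = _ := by group
  have e2 : t * s⁻¹ * t = s := by
    calc t * s⁻¹ * t = (t * s * t)⁻¹ := by rw [_root_.mul_inv_rev, _root_.mul_inv_rev, htinv]; group
      _ = s := by rw [hts, inv_inv]
  rw [e1, e2, ← (hp2 s hsO).eq, mul_inv_cancel_right]
  exact mul_mem hp0 hp0

namespace ActData

variable (D : ActData z P π ρ q)
include D

theorem sq_mem {m : G} (hm : m ∈ mSub z P) : m * m ∈ cSub z P := by
  refine ⟨(centralizer ({z} : Set G)).mul_mem hm.1 hm.1, mem_centralizer_iff.2 fun p hp => ?_⟩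
  by_cases hc : m ∈ cSub z P
  · exact mem_centralizer_iff.1 (mul_mem hc hc : m * m ∈ cSub z P).2 p hp
  · have e : m * m * p * (m * m)⁻¹ = p := by
      calc m * m * p * (m * m)⁻¹ = m * (m * p * m⁻¹) * m⁻¹ := by group
        _ = m * p⁻¹ * m⁻¹ := by rw [D.inverts m hm hc p hp]
        _ = (m * p * m⁻¹)⁻¹ := by group
        _ = p := by rw [D.inverts m hm hc p hp, inv_inv]
    exact (mul_inv_eq_iff_eq_mul.1 e).symm

theorem act_mem_gz {m : G} (hm : m ∈ cSub z P) : act ρ m ∈ gammaZero ρ := by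
  rw [act_of_mem (cSub_le_mSub z P hm)]
  exact mem_map_of_mem ρ (mem_subgroupOf.2 hm)

theorem lin_sq {h : G} (hh : h ∈ centralizer ({z} : Set G)) :
    lin ρ h * lin ρ h ∈ gammaZero ρ := by
  obtain ⟨e, he, m, hm, rfl, h1, -⟩ := D.exists_parts hh
  rw [h1, ← act_mul hm hm]
  exact D.act_mem_gz (D.sq_mem hm)

theorem lin_odd {h : G} (hh : h ∈ centralizer ({z} : Set G)) (ho : Odd (orderOf h)) :
    lin ρ h ∈ gammaZero ρ ∧ Odd (orderOf (lin ρ h)) := by
  have hd : orderOf (lin ρ h) ∣ orderOf h := by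
    refine orderOf_dvd_of_pow_eq_one ?_
    have e : (⟨h, hh⟩ : ↥(centralizer ({z} : Set G))) ^ orderOf h = 1 := Subtype.ext (pow_orderOf_eq_one h)
    have e2 := congrArg (linHom D) e
    rw [map_pow, map_one] at e2
    exact e2
  have ho' : Odd (orderOf (lin ρ h)) := ho.of_dvd_nat hd
  exact ⟨zpowers_le.2 (D.lin_sq hh) (mem_zpowers_sq ho'), ho'⟩

theorem lin_commutator {a b : G} (ha : a ∈ centralizer ({z} : Set G))
    (hb : b ∈ centralizer ({z} : Set G)) : lin ρ (a * b * a⁻¹ * b⁻¹) ∈ gammaZero ρ := by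
  rw [(D.lin_mul (mul_mem (mul_mem ha hb) (inv_mem ha)) (inv_mem hb)).1,
    (D.lin_mul (mul_mem ha hb) (inv_mem ha)).1, (D.lin_mul ha hb).1, D.lin_inv ha, D.lin_inv hb]
  set A := lin ρ a
  set B := lin ρ b
  rw [show A * B * A⁻¹ * B⁻¹ = (A * B) * (A * B) * (B⁻¹ * A⁻¹ * B) * (B⁻¹ * A⁻¹ * B) * (B⁻¹ * B⁻¹) by group]
  have h1 := D.lin_sq (mul_mem ha hb)
  rw [(D.lin_mul ha hb).1] at h1
  have h2 := D.lin_sq (mul_mem (mul_mem (inv_mem hb) (inv_mem ha)) hb)
  rw [(D.lin_mul (mul_mem (inv_mem hb) (inv_mem ha)) hb).1, (D.lin_mul (inv_mem hb) (inv_mem ha)).1,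
    D.lin_inv ha, D.lin_inv hb] at h2
  have h3 := D.lin_sq (inv_mem hb)
  rw [D.lin_inv hb] at h3
  have h4 := mul_mem (mul_mem h1 h2) h3
  simp only [A, B, mul_assoc] at h4 ⊢
  exact h4

theorem mem_of_sq {v : G} (hv : v ∈ P ⊔ zpowers z) (h2 : v * v = 1) : v = 1 ∨ v = z := by
  have hle : P ≤ normalizer (zpowers z : Set G) := fun p hp => mem_normalizer_iff.2 fun x => by
    have hc : Commute p z := D.comm_z (Base.P_le D.hJ hp)
    constructor
    · rintro ⟨k, rfl⟩
      refine ⟨k, ?_⟩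
      show z ^ k = p * z ^ k * p⁻¹
      rw [(hc.zpow_right k).eq, mul_inv_cancel_right]
    · rintro ⟨k, hk⟩
      refine ⟨k, ?_⟩
      have hk' : z ^ k = p * x * p⁻¹ := hk
      show z ^ k = x
      calc z ^ k = p⁻¹ * (p * z ^ k) := by group
        _ = p⁻¹ * (z ^ k * p) := by rw [(hc.zpow_right k).eq]
        _ = x := by rw [hk']; group
  rw [← SetLike.mem_coe, coe_mul_of_left_le_normalizer_right _ _ hle] at hv
  obtain ⟨p, hp, e, he, rfl⟩ := hv
  have hc : Commute p z := D.comm_z (Base.P_le D.hJ hp)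
  have he2 : e * e = 1 := by
    rcases D.mem_zp.1 he with rfl | rfl
    · exact one_mul 1
    · exact D.zz
  have hce : Commute p e := by
    rcases D.mem_zp.1 he with rfl | rfl
    · exact Commute.one_right p
    · exact hc
  have hpp : p * p = 1 := by
    have := h2
    rwa [hce.symm.mul_mul_mul_comm p e, he2, mul_one] at this
  have : p = 1 := by
    have h3 := Base.cube D.hJ hp
    rwa [hpp, one_mul] at h3
  show p * e = 1 ∨ p * e = z
  rw [this, one_mul]
  exact D.mem_zp.1 he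

/-- Nondegenerate fixed planes of the involutions of `Γ₀`. -/
theorem exists_pair (hfix : ∀ γ ∈ gammaZero ρ, γ * γ = 1 → γ ≠ 1 →
      ∃ u w : V, γ u = u ∧ γ w = w ∧ polar2 q u w = 1)
    {v : G} (hv : v ∈ cSub z P) (hv2 : v * v = 1) (hv1 : v ≠ 1) (hvz : v ≠ z) :
    ∃ d ∈ oc z, ∃ d' ∈ oc z, Commute d v ∧ Commute d' v ∧ polar2 q (vec π d) (vec π d') = 1 := by
  have hvm := cSub_le_mSub z P hv
  obtain ⟨u, w, hu, hw, huw⟩ := hfix (act ρ v) (D.act_mem_gz hv)
    (by rw [← act_mul hvm hvm, hv2, act_one])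
    (fun h => ((D.act_eq_one hvm).1 h).elim hv1 hvz)
  obtain ⟨d, hd, rfl⟩ := D.exists_vec u
  obtain ⟨d', hd', rfl⟩ := D.exists_vec w
  exact ⟨d, hd, d', hd', (D.commute_of_fix hvm hd hu (Or.inl hv)).symm,
    (D.commute_of_fix hvm hd' hw (Or.inl hv)).symm, huw⟩

theorem commutator_eq {d d' : G} (hd : d ∈ oc z) (hd' : d' ∈ oc z)
    (h : polar2 q (vec π d) (vec π d') = 1) : d * d' * d⁻¹ * d'⁻¹ = z := by
  rcases D.comm_cases hd hd' with e | e
  · exfalso
    rw [(D.polar_eq hd hd').2 (mul_inv_eq_iff_eq_mul.1 e)] at h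
    exact zero_ne_one h
  · rw [e, mul_inv_eq_iff_eq_mul]
    exact (D.comm_z (oc_le z hd')).eq

/-- A conjugate `h z h⁻¹` of `z` in `C_H(P)` with `P` in the conjugate of `N` is `z`. -/
theorem eq_of_conj (hfix : ∀ γ ∈ gammaZero ρ, γ * γ = 1 → γ ≠ 1 →
      ∃ u w : V, γ u = u ∧ γ w = w ∧ polar2 q u w = 1)
    {v h p : G} (hv : v ∈ cSub z P) (hh : h * z * h⁻¹ = v) (hp : p ∈ P) (hp1 : p ≠ 1)
    (hx : ∃ r ∈ P, lin ρ (h⁻¹ * p * h) = act ρ r) : v = z := by
  by_contra hvz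
  have hv2 : v * v = 1 := by
    rw [← hh, show h * z * h⁻¹ * (h * z * h⁻¹) = h * (z * z) * h⁻¹ by group, D.zz, mul_one, mul_inv_cancel]
  have hv1 : v ≠ 1 := fun e => D.z_ne (by rw [← hh, conj_eq_one_iff] at e; exact e)
  have hcH : ∀ a : G, Commute a v → h⁻¹ * a * h ∈ centralizer ({z} : Set G) := fun a ha =>
    mem_centralizer_singleton_iff.2 (by
      calc h⁻¹ * a * h * z = h⁻¹ * (a * v) * h := by rw [← hh]; group
        _ = h⁻¹ * (v * a) * h := by rw [ha.eq]
        _ = z * (h⁻¹ * a * h) := by rw [← hh]; group)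
  have hpv : Commute p v := mem_centralizer_iff.1 hv.2 p hp
  obtain ⟨r, hr, hlx⟩ := hx
  set x := h⁻¹ * p * h with hxdef
  have hxH : x ∈ centralizer ({z} : Set G) := hcH p hpv
  have hrM : r ∈ mSub z P := ⟨Base.P_le D.hJ hr, le_normalizer hr⟩
  -- double commutators with `x` fall into `E`
  have hdd : ∀ a ∈ centralizer ({z} : Set G),
      x * (x * a * x⁻¹ * a⁻¹) * x⁻¹ * (x * a * x⁻¹ * a⁻¹)⁻¹ ∈ oc z := by
    intro a ha
    have hb : x * a * x⁻¹ * a⁻¹ ∈ centralizer ({z} : Set G) :=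
      mul_mem (mul_mem (mul_mem hxH ha) (inv_mem hxH)) (inv_mem ha)
    have hb' : ∃ r' ∈ P, lin ρ (x * a * x⁻¹ * a⁻¹) = act ρ r' := by
      obtain ⟨e, he, m, hm, rfl, hla, -⟩ := D.exists_parts ha
      have hm' : m * r⁻¹ * m⁻¹ ∈ P := (mem_normalizer_iff.1 hm.2 r⁻¹).1 (inv_mem hr)
      refine ⟨r * (m * r⁻¹ * m⁻¹), mul_mem hr hm', ?_⟩
      rw [(D.lin_mul (mul_mem (mul_mem hxH ha) (inv_mem hxH)) (inv_mem ha)).1,
        (D.lin_mul (mul_mem hxH ha) (inv_mem hxH)).1, (D.lin_mul hxH ha).1, D.lin_inv hxH, D.lin_inv ha,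
        hlx, hla, ← act_inv hrM, ← act_inv hm, ← act_mul hrM hm,
        ← act_mul ((mSub z P).mul_mem hrM hm) ((mSub z P).inv_mem hrM),
        ← act_mul ((mSub z P).mul_mem ((mSub z P).mul_mem hrM hm) ((mSub z P).inv_mem hrM))
          ((mSub z P).inv_mem hm)]
      congr 1
      group
    obtain ⟨r', hr', hlb⟩ := hb'
    have hrM' : r' ∈ mSub z P := ⟨Base.P_le D.hJ hr', le_normalizer hr'⟩
    refine (D.lin_eq_one (mul_mem (mul_mem (mul_mem hxH hb) (inv_mem hxH)) (inv_mem hb))).1 ?_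
    rw [(D.lin_mul (mul_mem (mul_mem hxH hb) (inv_mem hxH)) (inv_mem hb)).1,
      (D.lin_mul (mul_mem hxH hb) (inv_mem hxH)).1, (D.lin_mul hxH hb).1, D.lin_inv hxH, D.lin_inv hb,
      hlx, hlb]
    have hc : Commute r r' := mem_centralizer_iff.1 (Base.P_le_CP D.hJ hr').2 r hr
    have hca : act ρ r * act ρ r' = act ρ r' * act ρ r := by
      rw [← act_mul hrM hrM', hc.eq, act_mul hrM' hrM]
    rw [hca]
    group
  -- hence the commuting vectors have lifts in `oc v`
  have hpM : p ∈ mSub z P := ⟨Base.P_le D.hJ hp, le_normalizer hp⟩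
  have hlift : ∀ d ∈ oc z, Commute d v → ∃ b ∈ oc z, b ∈ oc v ∧ vec π b = vec π d := by
    intro d hd hdv
    set e := p⁻¹ * d * p with he
    have hee : e ∈ oc z := by
      have := conj_mem D (inv_mem hpM.1) hd
      rwa [inv_inv] at this
    have hev : Commute e v := (hpv.inv_left.mul_left hdv).mul_left hpv
    set c := p * e * p⁻¹ * e⁻¹ with hc
    have hce : c ∈ oc z := mul_mem (conj_mem D hpM.1 hee) (inv_mem hee)
    have hbz : p * c * p⁻¹ * c⁻¹ ∈ oc z := mul_mem (conj_mem D hpM.1 hce) (inv_mem hce)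
    refine ⟨p * c * p⁻¹ * c⁻¹, hbz, ?_, ?_⟩
    · have h1 := hdd (h⁻¹ * e * h) (hcH e hev)
      have h2 := conj_mem_oc (g := h) h1
      rw [hh] at h2
      convert h2 using 1
      rw [hxdef, hc]
      group
    · have hA : ∀ u, act ρ p (act ρ p u) + act ρ p u + u = 0 := by
        intro u
        obtain ⟨a, ha, rfl⟩ := D.exists_vec u
        have hpa := conj_mem D hpM.1 ha
        have hppa := conj_mem D hpM.1 hpa
        rw [← D.vec_conj hpM ha, ← D.vec_conj hpM hpa, ← vec_mul hppa hpa, ← vec_mul (mul_mem hppa hpa) ha]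
        refine D.fpf hp hp1 (mul_mem (mul_mem hppa hpa) ha) ?_
        have hp3 : p * p * p = 1 := Base.cube D.hJ hp
        have e3 : p * (p * (p * a * p⁻¹) * p⁻¹) * p⁻¹ = a := by
          calc p * (p * (p * a * p⁻¹) * p⁻¹) * p⁻¹ = (p * p * p) * a * (p * p * p)⁻¹ := by group
            _ = a := by rw [hp3]; group
        rw [vec_mul (mul_mem hppa hpa) ha, vec_mul hppa hpa, D.act_add hpM, D.act_add hpM,
          ← D.vec_conj hpM hppa, ← D.vec_conj hpM hpa, ← D.vec_conj hpM ha, e3]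
        abel
      rw [vec_mul (conj_mem D hpM.1 hce) (inv_mem hce), D.vec_inv hce, D.vec_conj hpM hce, hc,
        vec_mul (conj_mem D hpM.1 hee) (inv_mem hee), D.vec_inv hee, D.vec_conj hpM hee,
        D.act_add hpM]
      have hd' : act ρ p (vec π e) = vec π d := by
        rw [← D.vec_conj hpM hee, he]
        congr 1
        group
      have h3 : act ρ p (act ρ p (vec π e)) + vec π e = act ρ p (vec π e) := by
        rw [← D.neg_self (act ρ p (vec π e))]
        refine eq_neg_of_add_eq_zero_left ?_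
        rw [← hA (vec π e), D.neg_self]
        abel
      calc act ρ p (act ρ p (vec π e)) + act ρ p (vec π e) + (act ρ p (vec π e) + vec π e)
          = act ρ p (act ρ p (vec π e)) + (act ρ p (vec π e) + act ρ p (vec π e)) + vec π e := by abel
        _ = vec π d := by rw [D.two, add_zero, h3, hd']
  obtain ⟨d, hd, d', hd', hdv, hdv', hdd'⟩ := exists_pair D hfix hv hv2 hv1 hvz
  obtain ⟨b, hb, hbv, hbe⟩ := hlift d hd hdv
  obtain ⟨b', hb', hbv', hbe'⟩ := hlift d' hd' hdv'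
  have hzb : b * b' * b⁻¹ * b'⁻¹ = z := D.commutator_eq hb hb' (by rw [hbe, hbe', hdd'])
  have hzv : z ∈ oc v := hzb ▸ mul_mem (mul_mem (mul_mem hbv hbv') (inv_mem hbv)) (inv_mem hbv')
  have hz' : h⁻¹ * z * h ∈ oc z := by
    have := conj_mem_oc (g := h⁻¹) hzv
    rw [inv_inv, show h⁻¹ * v * h = z by rw [← hh]; group] at this
    exact this
  have hzx : vec π (h⁻¹ * z * h) = act ρ r (vec π (h⁻¹ * z * h)) := by
    rw [← hlx, ← D.vec_conj_lin hxH hz']
    congr 1
    rw [hxdef, show h⁻¹ * p * h * (h⁻¹ * z * h) * (h⁻¹ * p * h)⁻¹ = h⁻¹ * (p * z * p⁻¹) * h by group,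
      (D.comm_z hpM.1).eq, mul_inv_cancel_right]
  have hr1 : r ≠ 1 := by
    rintro rfl
    rw [act_one] at hlx
    have hxE := (D.lin_eq_one hxH).1 hlx
    have hk : ∃ k, (⟨x, hxE⟩ : ↥(oc z)) ^ 2 ^ k = 1 := LargeExtra.oc_isPGroup z _
    obtain ⟨k, hk⟩ := hk
    have hk2 : x ^ 2 ^ k = 1 := congrArg Subtype.val hk
    have h3 : x ^ 3 = 1 := by
      rw [hxdef, show (h⁻¹ * p * h) ^ 3 = h⁻¹ * (p * p * p) * h by simp [pow_succ, mul_assoc],
        Base.cube D.hJ hp]
      group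
    have h4 := pow_gcd_eq_one.2 ⟨hk2, h3⟩
    rw [Nat.Coprime.pow_left k (by norm_num : Nat.Coprime 2 3), pow_one] at h4
    rw [hxdef] at h4
    exact hp1 (conj_eq_one_iff.1 (by rwa [inv_inv] : h⁻¹ * p * h⁻¹⁻¹ = 1))
  rcases (D.vec_eq_zero hz').1 (D.fpf hr hr1 hz' hzx.symm) with e | e
  · exact D.z_ne (by
      have e' := congrArg (fun t => h * t * h⁻¹) e
      simpa [mul_assoc] using e')
  · exact hvz (by rw [← hh]; calc h * z * h⁻¹ = h * (h⁻¹ * z * h) * h⁻¹ := by rw [e]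
                      _ = z := by group)

variable {v₀ f₀ : V} {Q₀ : Subgroup (Equiv.Perm V)}

/-- The normaliser of `P` centralises `z`. -/
theorem normalizer_le (L : LinFacts ρ.range (gammaZero ρ) q v₀ f₀ Q₀)
    (hfix : ∀ γ ∈ gammaZero ρ, γ * γ = 1 → γ ≠ 1 → ∃ u w : V, γ u = u ∧ γ w = w ∧ polar2 q u w = 1)
    (hperf : z ∈ ⁅cSub z P, cSub z P⁆)
    (y g : G) (hy : y ∈ cSub z P) (hyz : y ≠ z) (hg : g * z * g⁻¹ = y) :
    normalizer (P : Set G) ≤ centralizer ({z} : Set G) := by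
  obtain ⟨p, hp, hop, hPgen⟩ := Base.exists_gen D.hJ
  have hp1 : p ≠ 1 := fun h => by rw [h, orderOf_one] at hop; omega
  set K := centralizer (P : Set G) with hK
  have hzC : z ∈ cSub z P := Base.z_mem_CP D.hJ
  have hcP : ∀ a ∈ P, ∀ b ∈ K, Commute a b := fun a ha b hb => mem_centralizer_iff.1 hb a ha
  have hPK : P ≤ K := fun a ha => (Base.P_le_CP D.hJ ha).2
  -- `z` is isolated in `C_G(P)`
  have hiso : IsIsolatedInvolution (⟨z, hzC.2⟩ : ↥K) := by
    refine ⟨by rw [Subgroup.orderOf_mk]; exact D.set'.ord, fun c hc => Subtype.ext ?_⟩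
    show c.1 * z * c.1⁻¹ = z
    refine D.eq_of_conj hfix (h := c.1) ⟨mem_centralizer_singleton_iff.2 (congrArg Subtype.val hc.eq).symm,
      (c * ⟨z, hzC.2⟩ * c⁻¹ : ↥K).2⟩ rfl hp hp1 ⟨p, hp, ?_⟩
    have hcp : c.1⁻¹ * p * c.1 = p := by
      rw [mul_assoc, (hcP p hp c.1 c.2).eq, inv_mul_cancel_left]
    rw [hcp]
    exact (D.lin_mSub ⟨Base.P_le D.hJ hp, le_normalizer hp⟩).1
  set O := (oddCore ↥K).map K.subtype with hO
  have hOK : O ≤ K := map_subtype_le _
  have hOn : ∀ c ∈ K, ∀ o ∈ O, c * o * c⁻¹ ∈ O := by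
    rintro c hc _ ⟨o, ho, rfl⟩
    have hn : (oddCore ↥K).Normal := pPrimeCore_normal 2 ↥K
    exact ⟨⟨c, hc⟩ * o * ⟨c, hc⟩⁻¹, hn.conj_mem o ho _, rfl⟩
  have hOodd : Odd (Nat.card ↥O) := by
    rw [card_map_of_injective K.subtype_injective]
    exact Nat.coprime_two_right.1 (Core.coprime_card_pPrimeCore (p := 2) (G := ↥K))
  have hodd : ∀ o ∈ O, Odd (orderOf o) := fun o ho => hOodd.of_dvd_nat (orderOf_dvd_natCard O ho)
  have hOC : ∀ o ∈ O, Commute z o → o ∈ P := by
    intro o ho hzo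
    refine D.odd_le (O ⊓ cSub z P) inf_le_right (hOodd.of_dvd_nat (card_dvd_of_le inf_le_left)) ?_
      ⟨ho, mem_centralizer_singleton_iff.2 hzo.symm, hOK ho⟩
    intro c hc
    refine mem_normalizer_fintype fun n hn => ?_
    exact mem_inf.2 ⟨hOn c hc.2 n hn.1, (cSub z P).mul_mem ((cSub z P).mul_mem hc hn.2) ((cSub z P).inv_mem hc)⟩
  have hdec : ∀ c ∈ K, ∃ s ∈ O, Commute (s⁻¹ * c) z := by
    intro c hc
    have h1 := Invol.zstar hiso ⟨c, hc⟩
    have h2 : z * c * z⁻¹ * c⁻¹ ∈ O := ⟨_, h1, rfl⟩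
    set o := c * z * c⁻¹ * z⁻¹ with ho
    have hoO : o ∈ O := by
      rw [ho, show c * z * c⁻¹ * z⁻¹ = (z * c * z⁻¹ * c⁻¹)⁻¹ by group]
      exact inv_mem h2
    have hoz : z * o * z = o⁻¹ := by
      rw [ho, D.zinv]
      calc z * (c * z * c⁻¹ * z) * z = z * c * z * c⁻¹ * (z * z) := by group
        _ = z * c * z * c⁻¹ := by rw [D.zz, mul_one]
        _ = (c * z * c⁻¹ * z)⁻¹ := by rw [_root_.mul_inv_rev, _root_.mul_inv_rev, _root_.mul_inv_rev, inv_inv, D.zinv]; group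
    obtain ⟨n, hn⟩ := mem_zpowers_iff.1 (mem_zpowers_sq (hodd o hoO))
    refine ⟨o ^ n, zpow_mem hoO n, ?_⟩
    have hss : o ^ n * o ^ n = o := by rw [← zpow_add, ← two_mul, zpow_mul, zpow_two, hn]
    have hsz : z * o ^ n * z = (o ^ n)⁻¹ := by
      rw [← inv_zpow, ← hoz]
      have := map_zpow (MulAut.conj z) o n
      simp only [MulAut.conj_apply, D.zinv] at this
      exact this
    have e1 : o ^ n * z * (o ^ n)⁻¹ = c * z * c⁻¹ := by
      rw [← hsz, show o ^ n * z * (z * o ^ n * z) = o ^ n * (z * z) * o ^ n * z by group, D.zz, mul_one, hss,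
        ho, inv_mul_cancel_right]
    show (o ^ n)⁻¹ * c * z = z * ((o ^ n)⁻¹ * c)
    calc (o ^ n)⁻¹ * c * z = (o ^ n)⁻¹ * (c * z * c⁻¹) * c := by group
      _ = z * ((o ^ n)⁻¹ * c) := by rw [← e1]; group
  have hPO : P ≤ O := by
    intro a ha
    haveI : (P.subgroupOf K).Normal := ⟨fun b hb c => mem_subgroupOf.2 (by
      show c.1 * b.1 * c.1⁻¹ ∈ P
      rw [← (hcP b.1 (mem_subgroupOf.1 hb) c.1 c.2).eq, mul_inv_cancel_right]
      exact mem_subgroupOf.1 hb)⟩
    refine ⟨⟨a, hPK ha⟩, Core.le_pPrimeCore (p := 2) (N := P.subgroupOf K) ?_ (mem_subgroupOf.2 ha), rfl⟩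
    rw [Nat.card_congr (subgroupOfEquivOfLe hPK).toEquiv, D.hJ.2.2.2.2.2.1]
    norm_num
  have hy2 : y * y = 1 := by
    rw [← hg, show g * z * g⁻¹ * (g * z * g⁻¹) = g * (z * z) * g⁻¹ by group, D.zz, mul_one, mul_inv_cancel]
  have hy1 : y ≠ 1 := fun e => D.z_ne (by rw [← hg, conj_eq_one_iff] at e; exact e)
  have hzK : z ∈ K := hzC.2
  have hinvz := inverts_mod (P := P) hodd D.zz
    (fun o ho => by
      have := hOn z hzK o ho
      rwa [D.zinv] at this) hOC
    (fun a ha => ⟨(hcP a ha z hzK).symm, fun o ho => hcP a ha o (hOK ho)⟩)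
  -- the fixed points of `y` in `O`
  have hOy : ∀ o ∈ O, Commute y o → o ∈ P := by
    intro r hr hry
    have hcH : ∀ a : G, Commute a y → g⁻¹ * a * g ∈ centralizer ({z} : Set G) := fun a ha =>
      mem_centralizer_singleton_iff.2 (by
        calc g⁻¹ * a * g * z = g⁻¹ * (a * y) * g := by rw [← hg]; group
          _ = g⁻¹ * (y * a) * g := by rw [ha.eq]
          _ = z * (g⁻¹ * a * g) := by rw [← hg]; group)
    have hconjord : ∀ a : G, orderOf (g⁻¹ * a * g) = orderOf a := fun a => by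
      have := MulEquiv.orderOf_eq (MulAut.conj g⁻¹) a
      rwa [MulAut.conj_apply, inv_inv] at this
    have hpy : Commute p y := hcP p hp y hy.2
    have hzy : Commute z y := (mem_centralizer_singleton_iff.1 hy.1).symm
    have hxH := hcH p hpy
    have hiH := hcH z hzy
    have hrH := hcH r hry.symm
    obtain ⟨d, hd, d', hd', hdy, hdy', hdd'⟩ := exists_pair D hfix hy hy2 hy1 hyz
    set x := g⁻¹ * p * g with hx
    set i := g⁻¹ * z * g with hi
    set r' := g⁻¹ * r * g with hr'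
    have hiG : lin ρ i ∈ gammaZero ρ := by
      have e : g⁻¹ * z * g = (g⁻¹ * d * g) * (g⁻¹ * d' * g) * (g⁻¹ * d * g)⁻¹ * (g⁻¹ * d' * g)⁻¹ := by
        calc g⁻¹ * z * g = g⁻¹ * (d * d' * d⁻¹ * d'⁻¹) * g := by rw [D.commutator_eq hd hd' hdd']
          _ = _ := by group
      rw [hi, e]
      exact D.lin_commutator (hcH d hdy) (hcH d' hdy')
    have hxo : Odd (orderOf x) := by rw [hx, hconjord, hop]; decide
    obtain ⟨hxG, -⟩ := D.lin_odd hxH hxo
    obtain ⟨hrG, hro⟩ := D.lin_odd hrH (by rw [hr', hconjord]; exact hodd r hr)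
    have hxr : lin ρ r' * lin ρ x = lin ρ x * lin ρ r' := by
      rw [← (D.lin_mul hrH hxH).1, ← (D.lin_mul hxH hrH).1]
      congr 1
      rw [hx, hr', show g⁻¹ * r * g * (g⁻¹ * p * g) = g⁻¹ * (r * p) * g by group,
        ← (hcP p hp r (hOK hr)).eq]
      group
    have hix : lin ρ i * lin ρ x = lin ρ x * lin ρ i := by
      rw [← (D.lin_mul hiH hxH).1, ← (D.lin_mul hxH hiH).1]
      congr 1
      rw [hx, hi, show g⁻¹ * z * g * (g⁻¹ * p * g) = g⁻¹ * (z * p) * g by group,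
        ← (hcP p hp z hzK).eq]
      group
    have hx3 : lin ρ x * lin ρ x * lin ρ x = 1 := by
      rw [← (D.lin_mul hxH hxH).1, ← (D.lin_mul (mul_mem hxH hxH) hxH).1, hx,
        show g⁻¹ * p * g * (g⁻¹ * p * g) * (g⁻¹ * p * g) = g⁻¹ * (p * p * p) * g by group, Base.cube D.hJ hp,
        mul_one, inv_mul_cancel]
      exact (D.lin_oc (one_mem _)).1
    have hi2 : lin ρ i * lin ρ i = 1 := by
      rw [← (D.lin_mul hiH hiH).1, hi,
        show g⁻¹ * z * g * (g⁻¹ * z * g) = g⁻¹ * (z * z) * g by group, D.zz, mul_one, inv_mul_cancel]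
      exact (D.lin_oc (one_mem _)).1
    have hnc : ∃ γ ∈ gammaZero ρ, γ * lin ρ x ≠ lin ρ x * γ := by
      by_contra hcon
      push Not at hcon
      obtain ⟨m, hm, hmx⟩ := mem_map.1 hxG
      have hmC : (m : G) ∈ cSub z P := mem_subgroupOf.1 hm
      have hmP : (m : G) ∈ P ⊔ zpowers z := by
        refine D.central m hmC fun d hd => ?_
        have := hcon (ρ d) (mem_map_of_mem ρ (mem_subgroupOf.2 hd))
        rw [← hmx] at this
        exact this.symm
      refine hyz (D.eq_of_conj hfix hy hg hp hp1 ?_)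
      have hle : zpowers z ≤ normalizer (P : Set G) := zpowers_le.2 (cSub_le_mSub z P hzC).2
      rw [← SetLike.mem_coe, coe_mul_of_right_le_normalizer_left _ _ hle] at hmP
      obtain ⟨a, ha, e, he, hae⟩ := hmP
      refine ⟨a, ha, ?_⟩
      have haM : a ∈ mSub z P := ⟨Base.P_le D.hJ ha, le_normalizer ha⟩
      have heM : e ∈ mSub z P := zpowers_le.2 (cSub_le_mSub z P hzC) he
      rw [← hx, ← hmx, show ρ m = act ρ (m : G) from (act_of_mem m.2).symm, ← hae]
      show act ρ (a * e) = act ρ a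
      rw [act_mul haM heM, (D.act_eq_one heM).2 (D.mem_zp.1 he), mul_one]
    have hirir : lin ρ i * lin ρ r' * lin ρ i * lin ρ r' ∈ zpowers (lin ρ x) := by
      have h1 := hinvz r hr
      rw [hPgen] at h1
      obtain ⟨k, hk⟩ := mem_zpowers_iff.1 h1
      refine mem_zpowers_iff.2 ⟨k, ?_⟩
      have e2 : (⟨x, hxH⟩ : ↥(centralizer ({z} : Set G))) ^ k = ⟨i, hiH⟩ * ⟨r', hrH⟩ * ⟨i, hiH⟩ * ⟨r', hrH⟩ := by
        refine Subtype.ext ?_
        simp only [SubgroupClass.coe_zpow, Subgroup.coe_mul]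
        have := map_zpow (MulAut.conj g⁻¹) p k
        simp only [MulAut.conj_apply, inv_inv] at this
        rw [hx, ← this, hk, hi, hr']
        group
      have e3 := congrArg (linHom D) e2
      rw [map_zpow, map_mul, map_mul, map_mul] at e3
      exact e3
    have hrx : lin ρ r' ∈ zpowers (lin ρ x) := by
      by_cases hi1 : lin ρ i = 1
      · rw [hi1, one_mul, mul_one] at hirir
        exact zpowers_le.2 hirir (mem_zpowers_sq hro)
      · exact L.cent _ hiG _ hxG _ hrG hi2 hi1 hx3 hnc hix hxr hro hirir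
    obtain ⟨k, hk⟩ := mem_zpowers_iff.1 hrx
    set w := r' * (x ^ k)⁻¹ with hw
    have hxkH : x ^ k ∈ centralizer ({z} : Set G) := zpow_mem hxH k
    have hwE : w ∈ oc z := by
      refine (D.lin_eq_one (mul_mem hrH (inv_mem hxkH))).1 ?_
      rw [(D.lin_mul hrH (inv_mem hxkH)).1, D.lin_inv hxkH]
      have e3 := map_zpow (linHom D) ⟨x, hxH⟩ k
      rw [show lin ρ (x ^ k) = (lin ρ x) ^ k from e3, hk, mul_inv_cancel]
    have hrO : r * (p ^ k)⁻¹ ∈ O := mul_mem hr (inv_mem (zpow_mem (hPO hp) k))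
    have hwo : Odd (orderOf w) := by
      have he : w = g⁻¹ * (r * (p ^ k)⁻¹) * g := by
        have := map_zpow (MulAut.conj g⁻¹) p k
        simp only [MulAut.conj_apply, inv_inv] at this
        rw [hw, hr', hx, ← this]
        group
      rw [he, hconjord]
      exact hodd _ hrO
    have hw1 : w = 1 := by
      obtain ⟨j, hj⟩ := LargeExtra.oc_isPGroup z (⟨w, hwE⟩ : ↥(oc z))
      have hj' : w ^ 2 ^ j = 1 := congrArg Subtype.val hj
      have h4 := pow_gcd_eq_one.2 ⟨hj', pow_orderOf_eq_one w⟩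
      rwa [Nat.Coprime.pow_left j (Nat.coprime_two_left.2 hwo), pow_one] at h4
    have hre : r = p ^ k := by
      rw [hw, mul_inv_eq_one] at hw1
      have := map_zpow (MulAut.conj g⁻¹) p k
      simp only [MulAut.conj_apply, inv_inv] at this
      rw [hr', hx, ← this] at hw1
      exact mul_left_cancel (mul_right_cancel hw1)
    rw [hre]
    exact zpow_mem hp k
  have hinvy := inverts_mod (P := P) hodd hy2
    (fun o ho => by
      have := hOn y hy.2 o ho
      rwa [inv_eq_of_mul_eq_one_right hy2] at this) hOy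
    (fun a ha => ⟨(hcP a ha y hy.2).symm, fun o ho => hcP a ha o (hOK ho)⟩)
  -- the kernel of the action on `O / P`
  let Kr : Subgroup G :=
    { carrier := {c | c ∈ cSub z P ∧ ∀ o ∈ O, ∃ a ∈ P, c * o * c⁻¹ = a * o}
      mul_mem' := by
        rintro c d ⟨hc, hc'⟩ ⟨hd, hd'⟩
        refine ⟨mul_mem hc hd, fun o ho => ?_⟩
        obtain ⟨a, ha, h1⟩ := hd' o ho
        obtain ⟨b, hb, h2⟩ := hc' o ho
        refine ⟨a * b, mul_mem ha hb, ?_⟩
        calc c * d * o * (c * d)⁻¹ = c * (d * o * d⁻¹) * c⁻¹ := by group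
          _ = (c * a) * o * c⁻¹ := by rw [h1]; group
          _ = a * (c * o * c⁻¹) := by rw [← (hcP a ha c hc.2).eq]; group
          _ = a * b * o := by rw [h2]; group
      one_mem' := ⟨one_mem _, fun o _ => ⟨1, one_mem _, by group⟩⟩
      inv_mem' := by
        rintro c ⟨hc, hc'⟩
        refine ⟨inv_mem hc, fun o ho => ?_⟩
        obtain ⟨a, ha, h1⟩ := hc' o ho
        refine ⟨a⁻¹, inv_mem ha, ?_⟩
        rw [inv_inv]
        calc c⁻¹ * o * c = c⁻¹ * (a⁻¹ * (c * o * c⁻¹)) * c := by rw [h1]; group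
          _ = c⁻¹ * a⁻¹ * c * o := by group
          _ = a⁻¹ * o := by rw [mul_assoc c⁻¹, (hcP a⁻¹ (inv_mem ha) c hc.2).eq, inv_mul_cancel_left] }
  have hKrn : ∀ d ∈ cSub z P, ∀ c ∈ Kr, d * c * d⁻¹ ∈ Kr := by
    rintro d hd c ⟨hc, hc'⟩
    refine ⟨mul_mem (mul_mem hd hc) (inv_mem hd), fun o ho => ?_⟩
    have ho' : d⁻¹ * o * d ∈ O := by
      have := hOn d⁻¹ (inv_mem hd.2) o ho
      rwa [inv_inv] at this
    obtain ⟨a, ha, h1⟩ := hc' _ ho'
    refine ⟨a, ha, ?_⟩
    calc d * c * d⁻¹ * o * (d * c * d⁻¹)⁻¹ = d * (c * (d⁻¹ * o * d) * c⁻¹) * d⁻¹ := by group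
      _ = (d * a) * (d⁻¹ * o) := by rw [h1]; group
      _ = a * o := by rw [← (hcP a ha d hd.2).eq]; group
  have hyzK : y * z ∈ Kr := by
    refine ⟨mul_mem hy hzC, fun o ho => ?_⟩
    have h1 := hinvz o ho
    have hzo : z * o * z ∈ O := by
      have := hOn z hzK o ho
      rwa [D.zinv] at this
    have h2 := hinvy _ (inv_mem ho)
    set a := z * o * z * o with ha
    set b := y * o⁻¹ * y * o⁻¹ with hb
    refine ⟨a * b, mul_mem h1 h2, ?_⟩
    have hzo' : z * o * z = a * o⁻¹ := by rw [ha, mul_inv_cancel_right]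
    calc y * z * o * (y * z)⁻¹ = y * (z * o * z) * y := by
          rw [_root_.mul_inv_rev, D.zinv, inv_eq_of_mul_eq_one_right hy2]; group
      _ = (y * a) * o⁻¹ * y := by rw [hzo']; group
      _ = a * (y * o⁻¹ * y) := by rw [← (hcP a h1 y hy.2).eq]; group
      _ = a * b * o := by rw [hb]; group
  obtain ⟨φ, pc, C, hker⟩ := Base.exists_cover_mem D.hJ
  let f : ↥(Base.CP z P) →* ↥Spor.M22 := φ.comp (QuotientGroup.mk' (Base.Zc z P))
  have hf : Function.Surjective f := C.surj.comp (QuotientGroup.mk'_surjective _)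
  haveI : (Kr.subgroupOf (Base.CP z P)).Normal :=
    ⟨fun c hc d => mem_subgroupOf.2 (hKrn d.1 d.2 c.1 (mem_subgroupOf.1 hc))⟩
  have hzKr : z ∈ Kr := by
    haveI := C.simple
    rcases (Normal.map (inferInstance : (Kr.subgroupOf (Base.CP z P)).Normal) f hf).eq_bot_or_eq_top
      with h | h
    · exfalso
      have h1 : f ⟨y * z, mul_mem hy hzC⟩ ∈ (Kr.subgroupOf (Base.CP z P)).map f :=
        mem_map_of_mem f (mem_subgroupOf.2 hyzK)
      rw [h, mem_bot] at h1
      obtain ⟨e, he, a, ha, hea⟩ := hker _ h1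
      have hy' : y ∈ P ⊔ zpowers z := by
        rw [show y = e * a * z⁻¹ by rw [← show y * z = e * a from hea, mul_inv_cancel_right]]
        exact mul_mem (mul_mem (mem_sup_right he) (mem_sup_left ha)) (inv_mem (mem_sup_right (mem_zpowers z)))
      rcases D.mem_of_sq hy' hy2 with e1 | e1
      · exact hy1 e1
      · exact hyz e1
    · have hdecC : ∀ c ∈ cSub z P, ∃ k ∈ Kr, ∃ e ∈ zpowers z, c = k * e := by
        intro c hc
        have h1 : f ⟨c, hc⟩ ∈ (Kr.subgroupOf (Base.CP z P)).map f := by rw [h]; exact mem_top _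
        obtain ⟨k, hk, hkc⟩ := mem_map.1 h1
        have h2 : f (k⁻¹ * ⟨c, hc⟩) = 1 := by rw [map_mul, map_inv, hkc, inv_mul_cancel]
        obtain ⟨e, he, a, ha, hea⟩ := hker _ h2
        have haK : a ∈ Kr := ⟨Base.P_le_CP D.hJ ha, fun o ho => ⟨1, one_mem _, by
          rw [one_mul, (hcP a ha o (hOK ho)).eq, mul_inv_cancel_right]⟩⟩
        refine ⟨k.1 * a, mul_mem (mem_subgroupOf.1 hk) haK, e, he, ?_⟩
        have hea' : k.1⁻¹ * c = e * a := hea
        obtain ⟨j, rfl⟩ := he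
        rw [mul_assoc, ((D.comm_z (Base.P_le D.hJ ha)).zpow_right j).eq,
          ← show k.1⁻¹ * c = z ^ j * a from hea', mul_inv_cancel_left]
      have hle : ⁅cSub z P, cSub z P⁆ ≤ Kr := commutator_le.2 fun a ha b hb => by
        obtain ⟨k, hk, e, he, rfl⟩ := hdecC a ha
        obtain ⟨k', hk', e', he', rfl⟩ := hdecC b hb
        have hcz : ∀ t ∈ zpowers z, ∀ c ∈ centralizer ({z} : Set G), Commute t c := by
          rintro t ⟨j, rfl⟩ c hc
          exact (((D.comm_z hc).zpow_right j)).symm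
        have e1 := hcz e he
        have e2 := hcz e' he'
        have hkH : k ∈ centralizer ({z} : Set G) := hk.1.1
        have hkH' : k' ∈ centralizer ({z} : Set G) := hk'.1.1
        have key : ⁅k * e, k' * e'⁆ = ⁅k, k'⁆ := by
          rw [commutatorElement_def, commutatorElement_def]
          have he'H : e' ∈ centralizer ({z} : Set G) :=
            zpowers_le.2 (mem_centralizer_singleton_iff.2 rfl) he'
          calc k * e * (k' * e') * (k * e)⁻¹ * (k' * e')⁻¹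
              = k * (e * (k' * e')) * e⁻¹ * k⁻¹ * e'⁻¹ * k'⁻¹ := by group
            _ = k * k' * (e' * k⁻¹) * e'⁻¹ * k'⁻¹ := by rw [(e1 _ (mul_mem hkH' he'H)).eq]; group
            _ = k * k' * k⁻¹ * k'⁻¹ := by rw [(e2 _ (inv_mem hkH)).eq]; group
        rw [key, commutatorElement_def]
        exact mul_mem (mul_mem (mul_mem hk hk') (inv_mem hk)) (inv_mem hk')
      exact hle hperf
  have hOP : ∀ o ∈ O, o ∈ P := fun o ho => by
    obtain ⟨a, ha, h1⟩ := hzKr.2 o ho
    have h2 := hinvz o ho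
    rw [D.zinv] at h1
    rw [h1] at h2
    have h3 : o * o ∈ P := by
      have := mul_mem (inv_mem ha) h2
      rwa [mul_assoc a, inv_mul_cancel_left] at this
    exact zpowers_le.2 h3 (mem_zpowers_sq (hodd o ho))
  have hKC : K ≤ cSub z P := fun c hc => by
    obtain ⟨s, hs, hsc⟩ := hdec c hc
    have hsC : s ∈ cSub z P := Base.P_le_CP D.hJ (hOP s hs)
    have : s⁻¹ * c ∈ cSub z P :=
      mem_inf.2 ⟨mem_centralizer_singleton_iff.2 hsc, K.mul_mem (K.inv_mem hsC.2) hc⟩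
    have := mul_mem hsC this
    rwa [mul_inv_cancel_left] at this
  intro n hn
  have hKn : ∀ c ∈ K, ∀ m ∈ normalizer (P : Set G), m * c * m⁻¹ ∈ K := fun c hc m hm =>
    mem_centralizer_iff.2 fun a ha => by
      have ha' : m⁻¹ * a * m ∈ P := by
        have := (mem_normalizer_iff.1 (inv_mem hm) a).1 ha
        rwa [inv_inv] at this
      calc a * (m * c * m⁻¹) = m * ((m⁻¹ * a * m) * c) * m⁻¹ := by group
        _ = m * (c * (m⁻¹ * a * m)) * m⁻¹ := by rw [(hcP _ ha' c hc).eq]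
        _ = m * c * m⁻¹ * a := by group
  have hzn : n * z * n⁻¹ ∈ cSub z P := hKC (hKn z hzK n hn)
  have hcen : n * z * n⁻¹ ∈ P ⊔ zpowers z := by
    refine D.central ⟨_, cSub_le_mSub z P hzn⟩ hzn fun d hd => ?_
    rw [← map_mul, ← map_mul]
    refine congrArg ρ (Subtype.ext ?_)
    show n * z * n⁻¹ * d.1 = d.1 * (n * z * n⁻¹)
    have hd' := hKC (hKn d.1 hd.2 n⁻¹ (inv_mem hn))
    rw [inv_inv] at hd'
    calc n * z * n⁻¹ * d.1 = n * (z * (n⁻¹ * d.1 * n)) * n⁻¹ := by group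
      _ = n * ((n⁻¹ * d.1 * n) * z) * n⁻¹ := by rw [(D.comm_z hd'.1).eq]
      _ = d.1 * (n * z * n⁻¹) := by group
  have hnz2 : n * z * n⁻¹ * (n * z * n⁻¹) = 1 := by
    rw [show n * z * n⁻¹ * (n * z * n⁻¹) = n * (z * z) * n⁻¹ by group, D.zz, mul_one, mul_inv_cancel]
  rcases D.mem_of_sq hcen hnz2 with e | e
  · exact absurd (conj_eq_one_iff.1 e) D.z_ne
  · exact mem_centralizer_singleton_iff.2 (mul_inv_eq_iff_eq_mul.1 e)

end ActData

end Cfsg.Agent.J4Type
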