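import Cfsg.Agent.J4Type.Cover
import Cfsg.Agent.J4Type.BaseAct

/-!
# `C_H(P)` is the perfect sixfold cover of M22
-/

set_option autoImplicit false

open Cfsg Subgroup

namespace Cfsg.Agent.J4Type

universe u

variable {G : Type u} [Group G] [Finite G] {z : G} {P : Subgroup G}

theorem cSub_perfect {V : Type*} [AddCommGroup V] {π : ↥(LargeExtra.oc z) →* Multiplicative V}
    {ρ : ↥(mSub z P) →* Equiv.Perm V} {q : V → ZMod 2} {v₀ f₀ : V} {Q₀ : Subgroup (Equiv.Perm V)}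
    (D : ActData z P π ρ q) (L : LinFacts ρ.range (gammaZero ρ) q v₀ f₀ Q₀) {u : G} (hc : Conf z u) :
    ⁅cSub z P, cSub z P⁆ = cSub z P := by
  refine le_antisymm (comm_le D) fun c hcC => ?_
  have hcM := cSub_le_mSub z P hcC
  obtain ⟨d, hd, hde⟩ := comm_image D L (γ := act ρ c) ⟨⟨c, hcM⟩, mem_subgroupOf.2 hcC, (act_of_mem hcM).symm⟩
  have hdM := cSub_le_mSub z P (comm_le D hd)
  have h1 : act ρ (d⁻¹ * c) = 1 := by
    rw [act_mul (inv_mem hdM) hcM, act_inv hdM, hde, inv_mul_cancel]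
  rcases (D.act_eq_one ((mSub z P).mul_mem ((mSub z P).inv_mem hdM) hcM)).1 h1 with h2 | h2
  · rw [← eq_of_inv_mul_eq_one h2]; exact hd
  · rw [inv_mul_eq_iff_eq_mul.1 h2]; exact mul_mem hd (mem_commutator D L hc)

/-- The centre of `C_H(P)` is cyclic of order six, with quotient M22. -/
theorem center_quotient (hJ : IsOfJankoFourTypeWith z P) :
    IsCyclic ↥(center ↥(Base.CP z P)) ∧ Nat.card ↥(center ↥(Base.CP z P)) = 6 ∧
      Spor.IsoM22 (↥(Base.CP z P) ⧸ center ↥(Base.CP z P)) := by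
  obtain ⟨π, p₀, C, hker⟩ := Base.exists_cover_mem hJ
  obtain ⟨p, hp, ho, hP⟩ := Base.exists_gen hJ
  have hS : IsSimpleGroup ↥Spor.M22 := C.simple
  have hnc : Nat.card ↥Spor.M22 = 443520 := Compute.card_m22
  let f : ↥(Base.CP z P) →* ↥Spor.M22 := π.comp (QuotientGroup.mk' (Base.Zc z P))
  have hf : Function.Surjective f := C.surj.comp (QuotientGroup.mk'_surjective _)
  have hzC : z ∈ Base.CP z P := Base.z_mem_CP hJ
  have hpC : p ∈ Base.CP z P := Base.P_le_CP hJ hp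
  have hzcen : (⟨z, hzC⟩ : ↥(Base.CP z P)) ∈ center ↥(Base.CP z P) :=
    mem_center_iff.2 fun g => Subtype.ext (Base.mem_Hz.1 g.2.1)
  have hpcen : (⟨p, hpC⟩ : ↥(Base.CP z P)) ∈ center ↥(Base.CP z P) :=
    mem_center_iff.2 fun g => Subtype.ext (mem_centralizer_iff.1 g.2.2 p hp).symm
  have hle : f.ker ≤ center ↥(Base.CP z P) := by
    intro c hc
    obtain ⟨e, he, r, hr, hcr⟩ := hker c (MonoidHom.mem_ker.1 hc)
    obtain ⟨i, rfl⟩ := mem_zpowers_iff.1 he
    rw [hP] at hr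
    obtain ⟨j, rfl⟩ := mem_zpowers_iff.1 hr
    rw [show c = (⟨z, hzC⟩ : ↥(Base.CP z P)) ^ i * ⟨p, hpC⟩ ^ j from Subtype.ext hcr]
    exact mul_mem (zpow_mem hzcen i) (zpow_mem hpcen j)
  have hbot : center ↥Spor.M22 = ⊥ := by
    rcases (inferInstance : (center ↥Spor.M22).Normal).eq_bot_or_eq_top with h | h
    · exact h
    · exfalso
      letI : CommGroup ↥Spor.M22 :=
        { mul_comm := fun a b => (mem_center_iff.1 (h ▸ mem_top b) a) }
      have := IsSimpleGroup.prime_card (α := ↥Spor.M22)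
      rw [hnc] at this
      norm_num at this
  have hcen : center ↥(Base.CP z P) = f.ker := by
    refine le_antisymm (fun c hc => MonoidHom.mem_ker.2 ?_) hle
    rw [← mem_bot, ← hbot, mem_center_iff]
    intro x
    obtain ⟨d, rfl⟩ := hf x
    rw [← map_mul, ← map_mul, mem_center_iff.1 hc d]
  have hiso : Nonempty (↥(Base.CP z P) ⧸ center ↥(Base.CP z P) ≃* ↥Spor.M22) :=
    ⟨(QuotientGroup.quotientMulEquivOfEq hcen).trans (QuotientGroup.quotientKerEquivOfSurjective f hf)⟩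
  have hcard : Nat.card ↥(center ↥(Base.CP z P)) = 6 := by
    have h1 := card_eq_card_quotient_mul_card_subgroup (center ↥(Base.CP z P))
    rw [Nat.card_congr hiso.some.toEquiv, hnc, show Nat.card ↥(Base.CP z P) = 6 * 443520 from Base.card_CP hJ] at h1
    exact (Nat.eq_of_mul_eq_mul_left (by norm_num : 0 < 443520) (h1.symm.trans (Nat.mul_comm _ _)))
  refine ⟨?_, hcard, hiso⟩
  refine isCyclic_of_orderOf_eq_card
    (⟨_, mul_mem hzcen hpcen⟩ : ↥(center ↥(Base.CP z P))) ?_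
  rw [hcard, ← Subgroup.orderOf_coe]
  have hco : Commute (⟨z, hzC⟩ : ↥(Base.CP z P)) ⟨p, hpC⟩ := mem_center_iff.1 hpcen _
  show orderOf ((⟨z, hzC⟩ : ↥(Base.CP z P)) * ⟨p, hpC⟩) = 6
  have h2 : orderOf (⟨z, hzC⟩ : ↥(Base.CP z P)) = 2 := by rw [← Subgroup.orderOf_coe]; exact hJ.1
  have h3 : orderOf (⟨p, hpC⟩ : ↥(Base.CP z P)) = 3 := by rw [← Subgroup.orderOf_coe]; exact ho
  rw [hco.orderOf_mul_eq_mul_orderOf_of_coprime (by rw [h2, h3]; norm_num), h2, h3]

end Cfsg.Agent.J4Type
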