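import Cfsg.Agent.J4Type.Second
import Cfsg.Agent.J4Type.Structure
import Cfsg.Agent.J4Type.NormP
import Cfsg.Agent.J4Type.Orbits.Fusion
import Cfsg.Agent.J4Type.Orbits.Bridge

/-!
# The centraliser and normaliser of `P`, from an orthogonal conjugate
-/

set_option autoImplicit false

open Cfsg Subgroup

namespace Cfsg.Agent.J4Type

universe u

variable {G : Type u} [Group G] [Finite G] {z : G} {P : Subgroup G}

/-- The sixfold cover and the normaliser of `P`. -/
theorem sixfold_of_conf (hJ : IsOfJankoFourTypeWith z P) {B : List (Base.V z)}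
    (hM : Orbits.Model B (Base.rhoM z P).range (gammaZero (Base.rhoM z P)) (Base.qf z))
    {v₀ f₀ : Base.V z} {Q₀ : Subgroup (Equiv.Perm (Base.V z))}
    (L : LinFacts (Base.rhoM z P).range (gammaZero (Base.rhoM z P)) (Base.qf z) v₀ f₀ Q₀)
    {w : G} (hc : Conf z w) :
    ⁅cSub z P, cSub z P⁆ = cSub z P ∧
    IsCyclic ↥(center ↥(Base.CP z P)) ∧ Nat.card ↥(center ↥(Base.CP z P)) = 6 ∧
    Spor.IsoM22 (↥(Base.CP z P) ⧸ center ↥(Base.CP z P)) ∧
    normalizer (P : Set G) ≤ centralizer ({z} : Set G) := by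
  have D := Base.actData hJ
  obtain ⟨ω, -, LF⟩ := hM.linFusion
  have hfix : ∀ γ ∈ gammaZero (Base.rhoM z P), γ * γ = 1 → γ ≠ 1 →
      ∃ a b : Base.V z, γ a = a ∧ γ b = b ∧ polar2 (Base.qf z) a b = 1 := by
    intro γ hγ h2 h1
    obtain ⟨F, hF, hFF⟩ := LF.five γ hγ h2 h1
    exact ⟨F 0, F 1, hF 0, hF 1, hFF 0 1 (by decide)⟩
  obtain ⟨g, hgC, hgz⟩ := exists_conj_cSub D L hc
  obtain ⟨h1, h2, h3⟩ := center_quotient hJ
  exact ⟨cSub_perfect D L hc, h1, h2, h3,
    D.normalizer_le L hfix (mem_commutator D L hc) _ g hgC hgz rfl⟩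

end Cfsg.Agent.J4Type
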