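import Cfsg.Agent.M22Order.Degrees
import Cfsg.Agent.M22Order.Config
import Cfsg.Agent.Fusion.Critical
import Cfsg.Agent.Core.Frattini

/-!
# Sylow 3-subgroups of central extensions of M22 by a cyclic group of order six

A finite group `C` with a surjection onto a simple group `M` of order 443520, central kernel of order six, and an
element `p` of order three of the kernel in the derived subgroup: the Sylow 3-subgroups of `C` are extraspecial of
order 27 and exponent three, with centre `⟨p⟩` and normalisers of order 432.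
-/

set_option autoImplicit false

namespace Cfsg.Agent.J4Type

open Subgroup Cfsg
open scoped commutatorElement
open Cfsg.Agent.M22Order

universe u v

/-- A nonabelian group of order `p ^ 3` is extraspecial. -/
theorem extraspecial_cube {R : Type u} [Group R] [Finite R] {p : ℕ} [Fact p.Prime] (hcard : Nat.card R = p ^ 3) (hab : ¬ IsMulCommutative R) :
    IsExtraspecial p R := by
  have hp : p.Prime := Fact.out
  have hR : IsPGroup p R := IsPGroup.of_card hcard
  haveI : Nontrivial R := Finite.one_lt_card_iff_nontrivial.1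
    (hcard ▸ one_lt_pow₀ hp.one_lt (by norm_num))
  haveI := hR.center_nontrivial
  obtain ⟨j, hj, hcZ⟩ := (Nat.dvd_prime_pow hp).1 (hcard ▸ card_subgroup_dvd_card (center R))
  have hidx : (center R).index = p ^ (3 - j) := by
    have h := (center R).card_mul_index
    rw [hcZ, hcard, ← Nat.add_sub_cancel' hj, pow_add] at h
    exact Nat.eq_of_mul_eq_mul_left (pow_pos hp.pos _) h
  have hncyc : ¬ IsCyclic (R ⧸ center R) := fun h =>
    hab ⟨⟨fun a b => commutative_of_cyclic_center_quotient (QuotientGroup.mk' (center R))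
      (by rw [QuotientGroup.ker_mk']) a b⟩⟩
  have hj0 : j ≠ 0 := by
    rintro rfl
    rw [pow_zero] at hcZ
    exact absurd hcZ (Finite.one_lt_card.ne')
  have hj1 : j = 1 := by
    by_contra h
    refine hncyc ?_
    rcases (by omega : j = 2 ∨ j = 3) with rfl | rfl
    · exact isCyclic_of_prime_card (p := p) (by rw [← index_eq_card, hidx, pow_one])
    · haveI : Subsingleton (R ⧸ center R) := (Nat.card_eq_one_iff_unique.1
        (by rw [← index_eq_card, hidx, pow_zero])).1
      exact isCyclic_of_subsingleton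
  subst hj1
  rw [pow_one] at hcZ
  have hq : Nat.card (R ⧸ center R) = p ^ 2 := by rw [← index_eq_card, hidx]
  have hle : _root_.commutator R ≤ center R := by
    haveI := IsPGroup.isMulCommutative_of_card_eq_prime_sq hq
    rw [_root_.commutator_def, Subgroup.commutator_le]
    intro a _ b _
    rw [← QuotientGroup.eq_one_iff, ← QuotientGroup.mk'_apply, map_commutatorElement,
      commutatorElement_eq_one_iff_mul_comm]
    exact IsMulCommutative.is_comm.comm _ _
  have hcomm : _root_.commutator R = center R := by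
    refine eq_of_le_of_card_ge hle ?_
    have hne : _root_.commutator R ≠ ⊥ := fun h => hab ⟨⟨fun a b =>
      commutatorElement_eq_one_iff_mul_comm.1 (by
        rw [← mem_bot, ← h]; exact commutator_mem_commutator (mem_top a) (mem_top b))⟩⟩
    haveI := (nontrivial_iff_ne_bot _).2 hne
    obtain ⟨i, -, hi⟩ := (Nat.dvd_prime_pow hp).1 (hcard ▸ card_subgroup_dvd_card (_root_.commutator R))
    have h1 : 1 < Nat.card (_root_.commutator R) := Finite.one_lt_card
    rw [hi] at h1 ⊢
    rw [hcZ]
    exact Nat.le_self_pow (fun h => by simp [h] at h1) p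
  have hfrat : frattini R = center R := by
    refine le_antisymm (Cfsg.Agent.Fusion.frattini_le_of_elementary (p := p) _ hle fun a => ?_) ?_
    · rw [← QuotientGroup.eq_one_iff, QuotientGroup.mk_pow]
      by_contra hne
      obtain ⟨i, hi2, hi⟩ := (Nat.dvd_prime_pow hp).1 (hq ▸ orderOf_dvd_natCard (a : R ⧸ center R))
      rcases (by omega : i ≤ 1 ∨ i = 2) with h1 | rfl
      · exact hne (orderOf_dvd_iff_pow_eq_one.1 (hi.dvd.trans ((pow_dvd_pow p h1).trans (pow_one p).dvd)))
      · exact hncyc (isCyclic_of_orderOf_eq_card _ (hi.trans hq.symm))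
    · haveI := hR.isNilpotent
      exact hcomm ▸ Cfsg.Agent.Core.commutator_le_frattini
  exact ⟨⟨hR, hfrat, hcomm⟩, hcZ⟩

section M

variable {M : Type u} [Group M] [Finite M]

/-- What the third part needs about a simple group of order 443520. -/
structure ThreeFacts (M : Type u) [Group M] : Prop where
  card : Nat.card M = 443520
  conj : ∀ x y : M, orderOf x = 3 → orderOf y = 3 → IsConj x y
  no_nine : ∀ x : M, orderOf x ≠ 9
  norm : ∀ R : Subgroup M, Nat.card R = 9 → Nat.card (normalizer (R : Set M)) = 72

theorem sylow_nine (hc : Nat.card M = 443520) (R : Subgroup M) (hR : Nat.card R = 9) :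
    ∃ S : Sylow 3 M, (S : Subgroup M) = R := by
  have : Fact (Nat.Prime 3) := ⟨Nat.prime_three⟩
  refine ⟨Sylow.ofCard R ?_, rfl⟩
  rw [hR, hc, show (443520 : ℕ) = 3 ^ 2 * 49280 from rfl,
    Nat.factorization_mul (by norm_num) (by norm_num), Finsupp.add_apply,
    Nat.factorization_eq_zero_of_not_dvd (by norm_num : ¬ 3 ∣ 49280),
    Nat.Prime.factorization_pow Nat.prime_three, Finsupp.single_eq_same]
  norm_num

theorem card_normalizer_nine [Fintype M] (hF : Facts M) (K : Chars M) (R : Subgroup M)
    (hR : Nat.card R = 9) : Nat.card (normalizer (R : Set M)) = 72 := by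
  classical
  have : Fact (Nat.Prime 3) := ⟨Nat.prime_three⟩
  obtain ⟨S, hS⟩ := sylow_nine hF.card R hR
  have hcomm : IsMulCommutative R :=
    ⟨⟨IsPGroup.commutative_of_card_eq_prime_sq (p := 3) (by rw [hR]; norm_num)⟩⟩
  have h3 : ∀ a ∈ R, a ≠ 1 → orderOf a = 3 := by
    intro a ha ha1
    have h := R.orderOf_dvd_natCard ha
    rw [hR, show (9 : ℕ) = 3 ^ 2 from rfl, Nat.dvd_prime_pow Nat.prime_three] at h
    obtain ⟨i, hi, he⟩ := h
    interval_cases i
    · exact absurd (orderOf_eq_one_iff.1 (by simpa using he)) ha1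
    · simpa using he
    · exact absurd (by simpa using he) (hF.no_order_nine K a)
  obtain ⟨x, hx, hx1⟩ : ∃ x ∈ R, x ≠ 1 :=
    R.ne_bot_iff_exists_ne_one.1 (fun h => by
      rw [h, Subgroup.card_bot] at hR
      norm_num at hR) |> fun ⟨x, hx⟩ => ⟨x.1, x.2, fun e => hx (Subtype.ext e)⟩
  have hox := h3 x hx hx1
  set N := normalizer (R : Set M) with hN
  have hRN : R ≤ N := Subgroup.le_normalizer
  -- the class of `x` in the normaliser is `R ∖ {1}`
  let x' : N := ⟨x, hRN hx⟩
  have hconjmem : ∀ n : N, (n : M) * x * (n : M)⁻¹ ∈ R := fun n =>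
    (Subgroup.mem_normalizer_iff.1 n.2 x).1 hx
  have hclass : Nat.card {a : N // IsConj x' a} = 8 := by
    have e : {a : N // IsConj x' a} ≃ {a : R // a ≠ 1} :=
      { toFun := fun a => ⟨⟨a.1.1, by
            obtain ⟨c, hc⟩ := isConj_iff.1 a.2
            rw [← hc]
            exact hconjmem c⟩, fun e => by
            obtain ⟨c, hc⟩ := isConj_iff.1 a.2
            apply hx1
            have h1 : (c : M) * x * (c : M)⁻¹ = 1 := by
              have := congrArg (fun w : N => (w : M)) hc
              simp only [Subgroup.coe_mul, InvMemClass.coe_inv] at this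
              rw [this]
              exact congrArg (fun w : R => (w : M)) e
            exact conj_eq_one_iff.1 h1⟩
        invFun := fun a => ⟨⟨a.1.1, hRN a.1.2⟩, by
            have ha1 : (a.1 : M) ≠ 1 := fun e => a.2 (Subtype.ext e)
            obtain ⟨g, hg⟩ := isConj_iff.1 (hF.isConj_three K hox (h3 _ a.1.2 ha1))
            have : IsMulCommutative (S : Subgroup M) := by rw [hS]; exact hcomm
            obtain ⟨n, hn, hne⟩ := S.conj_eq_normalizer_conj_of_mem x g⁻¹
              (show x ∈ (S : Subgroup M) by rw [hS]; exact hx)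
              (show g⁻¹⁻¹ * x * g⁻¹ ∈ (S : Subgroup M) by rw [inv_inv, hg, hS]; exact a.1.2)
            rw [inv_inv, hg] at hne
            have hn' : n ∈ N := by
              rw [hN, ← hS]
              exact hn
            exact isConj_iff.2 ⟨⟨n, hn'⟩⁻¹, Subtype.ext (by simp [hne, x'])⟩⟩
        left_inv := fun a => Subtype.ext (Subtype.ext rfl)
        right_inv := fun a => Subtype.ext (Subtype.ext rfl) }
    rw [Nat.card_congr e, Nat.card_eq_fintype_card, Fintype.card_subtype_compl,
      Fintype.card_subtype_eq, ← Nat.card_eq_fintype_card, hR]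
  rw [Char.card_isConj_eq_index] at hclass
  set F := centralizer ({x'} : Set N) with hFd
  have hFN : Nat.card N = 8 * Nat.card F := by
    rw [← F.card_mul_index, hclass, mul_comm]
  have hC := hF.card_centralizer_three K hox
  -- the point stabiliser is a proper subgroup of the centraliser
  have hFC : F.map N.subtype ≤ centralizer ({x} : Set M) := by
    rintro _ ⟨f, hf, rfl⟩
    exact mem_centralizer_singleton_iff.2 (congrArg Subtype.val (mem_centralizer_singleton_iff.1 hf))
  have hcardF : Nat.card (F.map N.subtype) = Nat.card F :=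
    Subgroup.card_map_of_injective N.subtype_injective
  have hRF : R ≤ F.map N.subtype := fun r hr => ⟨⟨r, hRN hr⟩, mem_centralizer_singleton_iff.2
    (Subtype.ext (congrArg (fun w : R => (w : M)) (hcomm.is_comm.comm ⟨r, hr⟩ ⟨x, hx⟩))), rfl⟩
  have h9 : 9 ∣ Nat.card F := by rw [← hR, ← hcardF]; exact card_dvd_of_le hRF
  have h36 : Nat.card F ∣ 36 := by rw [← hcardF, ← hC]; exact card_dvd_of_le hFC
  have hne : Nat.card F ≠ 36 := by
    intro he
    have heq : F.map N.subtype = centralizer ({x} : Set M) :=
      Subgroup.eq_of_le_of_card_ge hFC (by rw [hC, hcardF, he])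
    obtain ⟨t, ht, ht2⟩ := hF.exists_involution_four K hox
    have htN : t ∈ N := by
      have h := hF.four_le_centralizer K hox ht
      rw [← heq] at h
      obtain ⟨f, -, rfl⟩ := h
      exact f.2
    obtain ⟨htt, htx⟩ := (hF.mem_four K hox t).1 ht
    have hRC : R ≤ centralizer ({t} : Set M) := by
      intro r hr
      have hrx : Commute r x := congrArg (fun w : R => (w : M)) (hcomm.is_comm.comm ⟨r, hr⟩ ⟨x, hx⟩)
      have h1 : r * t * r⁻¹ ∈ fourGroup x := by
        refine (hF.mem_four K hox _).2 ⟨?_, ?_⟩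
        · rw [show r * t * r⁻¹ * (r * t * r⁻¹) = r * (t * t) * r⁻¹ by group, htt, mul_one,
            mul_inv_cancel]
        · exact (hrx.mul_left htx).mul_left hrx.inv_left
      set c := r * t * r⁻¹ * t⁻¹ with hc
      have hc4 : c ∈ fourGroup x := mul_mem h1 (inv_mem ht)
      have hcR : c ∈ R := by
        rw [hc, show r * t * r⁻¹ * t⁻¹ = r * (t * r⁻¹ * t⁻¹) by group]
        exact mul_mem hr ((Subgroup.mem_normalizer_iff.1 htN _).1 (inv_mem hr))
      have hc1 : c = 1 := by
        refine orderOf_eq_one_iff.1 (Nat.eq_one_of_dvd_coprimes (by norm_num : Nat.Coprime 2 9)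
          (orderOf_dvd_of_pow_eq_one (by rw [sq]; exact ((hF.mem_four K hox c).1 hc4).1))
          (hR ▸ R.orderOf_dvd_natCard hcR))
      refine mem_centralizer_singleton_iff.2 ?_
      calc r * t = c * (t * r) := by rw [hc]; group
        _ = t * r := by rw [hc1, one_mul]
    have h := card_dvd_of_le hRC
    rw [hR, (hF.involution K ht2).1] at h
    norm_num at h
  -- congruence of the number of Sylow subgroups
  have hmod := card_sylow_modEq_one 3 M
  have hidx : Nat.card (Sylow 3 M) = N.index := by
    rw [S.card_eq_index_normalizer]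
    show (normalizer (((S : Subgroup M)) : Set M)).index = N.index
    rw [hS]
  rw [hidx] at hmod
  have hmul := N.card_mul_index
  rw [hFN, hF.card] at hmul
  obtain ⟨k, hk⟩ := h9
  have hk4 : k ∣ 4 := Nat.dvd_of_mul_dvd_mul_left (by norm_num : 0 < 9) (by rw [← hk]; exact h36)
  have hk' : k ≤ 4 := Nat.le_of_dvd (by norm_num) hk4
  rw [hFN, hk]
  interval_cases k
  · norm_num at hk4
  · rfl
  · rw [hk] at hmul
    have : N.index = 3080 := by omega
    rw [this] at hmod
    exact absurd hmod (by decide)
  · norm_num at hk4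
  · exact absurd hk hne

theorem threeFacts_of_card [IsSimpleGroup M] (hc : Nat.card M = 443520) : ThreeFacts M := by
  have := Fintype.ofFinite M
  have hF : Facts M := M22Order.facts hc
  obtain ⟨K⟩ := hF.exists_chars
  exact ⟨hc, fun x y => hF.isConj_three K, hF.no_order_nine K, card_normalizer_nine hF K⟩

end M

section Cover

variable {C : Type u} {M : Type v} [Group C] [Finite C] [Group M] [Finite M]

/-- The structure of a Sylow 3-subgroup of the extension. -/
structure CoverSylow (C : Type u) [Group C] (p : C) (R : Subgroup C) : Prop where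
  card : Nat.card R = 27
  exponent : Monoid.exponent R = 3
  extra : IsExtraspecial 3 R
  center : (Subgroup.center R).map R.subtype = zpowers p
  normalizer : Nat.card (normalizer (R : Set C)) = 432

theorem coverSylow (hM : ThreeFacts M) (π : C →* M) (hπ : Function.Surjective π)
    (hker : π.ker ≤ Subgroup.center C) (hcker : Nat.card π.ker = 6) {p : C} (hp : orderOf p = 3)
    (hpk : p ∈ π.ker) (hpc : p ∈ commutator C) (R : Sylow 3 C) :
    CoverSylow C p (R : Subgroup C) := by
  classical
  have : Fact (Nat.Prime 3) := ⟨Nat.prime_three⟩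
  have hcC : Nat.card C = 3 ^ 3 * 98560 := by
    rw [← π.ker.card_mul_index, hcker, Subgroup.index_ker, MonoidHom.range_eq_top.2 hπ,
      Subgroup.card_top, hM.card]
    norm_num
  have hcR : Nat.card (R : Subgroup C) = 27 := by
    rw [Sylow.card_eq_multiplicity, hcC, Nat.factorization_mul (by norm_num) (by norm_num),
      Finsupp.add_apply, Nat.factorization_eq_zero_of_not_dvd (by norm_num : ¬ 3 ∣ 98560),
      Nat.Prime.factorization_pow Nat.prime_three, Finsupp.single_eq_same]
    norm_num
  have hpcen : p ∈ Subgroup.center C := hker hpk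
  -- a central element of order three lies in every Sylow 3-subgroup
  have hin : ∀ w ∈ Subgroup.center C, w ^ 3 = 1 → w ∈ (R : Subgroup C) := by
    intro w hw hw3
    have hn : (zpowers w).Normal := ⟨fun n hn g => by
      have hnc : n ∈ Subgroup.center C := (zpowers_le.2 hw) hn
      rwa [Subgroup.mem_center_iff.1 hnc g, mul_inv_cancel_right]⟩
    have hz : IsPGroup 3 (zpowers w) := fun n => ⟨1, Subtype.ext (by
      obtain ⟨i, hi⟩ := mem_zpowers_iff.1 n.2
      simp only [pow_one, SubgroupClass.coe_pow, OneMemClass.coe_one]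
      rw [← hi, ← zpow_natCast (w ^ i) 3, ← zpow_mul, mul_comm, zpow_mul, zpow_natCast, hw3,
        one_zpow])⟩
    have hsup := R.isPGroup'.to_sup_of_normal_right hz
    have heq := R.is_maximal' hsup le_sup_left
    exact heq ▸ (le_sup_right : zpowers w ≤ (R : Subgroup C) ⊔ zpowers w) (mem_zpowers w)
  have hpR : p ∈ (R : Subgroup C) := hin p hpcen (hp ▸ pow_orderOf_eq_one p)
  -- not commutative, by transfer
  have hna : ¬ IsMulCommutative (R : Subgroup C) := by
    intro hcomm
    letI : CommGroup (R : Subgroup C) :=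
      { (inferInstance : Group (R : Subgroup C)) with mul_comm := hcomm.is_comm.comm }
    let φ : (R : Subgroup C) →* (R : Subgroup C) := MonoidHom.id _
    have hkey : ∀ (k : ℕ) (g₀ : C), g₀⁻¹ * p ^ k * g₀ ∈ (R : Subgroup C) →
        g₀⁻¹ * p ^ k * g₀ = p ^ k := fun k g₀ _ => by
      rw [Subgroup.mem_center_iff.1 (pow_mem hpcen k) g₀⁻¹, inv_mul_cancel_right]
    have h1 : MonoidHom.transfer φ p = 1 :=
      (Abelianization.commutator_subset_ker (MonoidHom.transfer φ) hpc :)
    rw [MonoidHom.transfer_eq_pow φ p hkey] at h1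
    have h2 : p ^ (R : Subgroup C).index = 1 := congrArg Subtype.val h1
    have h3 := orderOf_dvd_of_pow_eq_one h2
    rw [hp] at h3
    exact R.not_dvd_index h3
  have hextra : IsExtraspecial 3 (R : Subgroup C) :=
    extraspecial_cube (by rw [hcR]; norm_num) hna
  -- exponent three
  have hexp : ∀ x ∈ (R : Subgroup C), x ^ 3 = 1 := by
    intro x hx
    have h27 : x ^ 27 = 1 := orderOf_dvd_iff_pow_eq_one.1 (hcR ▸ (R : Subgroup C).orderOf_dvd_natCard hx)
    have hsix : ∀ w ∈ π.ker, w ^ 6 = 1 := fun w hw =>
      orderOf_dvd_iff_pow_eq_one.1 (hcker ▸ π.ker.orderOf_dvd_natCard hw)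
    by_cases hk : π x = 1
    · have h6 := hsix x hk
      calc x ^ 3 = x ^ 27 * ((x ^ 6) ^ 4)⁻¹ := by group
        _ = 1 := by rw [h27, h6]; simp
    · have hy27 : (π x) ^ 27 = 1 := by rw [← map_pow, h27, map_one]
      have hy9 : (π x) ^ 9 = 1 := by
        by_contra h
        refine hM.no_nine ((π x) ^ 3) ?_
        refine orderOf_eq_prime_pow (p := 3) (n := 1) ?_ ?_
        · rwa [pow_one, ← pow_mul]
        · rw [← pow_mul]
          exact hy27
      have hy3 : (π x) ^ 3 = 1 := by
        by_contra h
        exact hM.no_nine (π x) (orderOf_eq_prime_pow (p := 3) (n := 1) (by rwa [pow_one]) hy9)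
      have hy : orderOf (π x) = 3 := orderOf_eq_prime hy3 hk
      obtain ⟨g, hg⟩ := isConj_iff.1 (hM.conj (π x) (π x)⁻¹ hy (by rw [orderOf_inv, hy]))
      obtain ⟨c, rfl⟩ := hπ g
      have hw : x * (c * x * c⁻¹) ∈ π.ker := by
        rw [MonoidHom.mem_ker, map_mul, map_mul, map_mul, map_inv, hg, mul_inv_cancel]
      have hcen : x ^ 3 ∈ Subgroup.center C := hker (by rw [MonoidHom.mem_ker, map_pow, hy3])
      have hcw : Commute x (c * x * c⁻¹) := by
        have hwc := Subgroup.mem_center_iff.1 (hker hw) x
        refine mul_left_cancel (a := x) ?_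
        rw [hwc, mul_assoc]
      have h6 : x ^ 6 = (x * (c * x * c⁻¹)) ^ 3 := by
        rw [hcw.mul_pow, conj_pow, Subgroup.mem_center_iff.1 hcen c, mul_inv_cancel_right, ← pow_add]
      have h12 : x ^ 12 = 1 := by
        rw [show (12 : ℕ) = 6 * 2 from rfl, pow_mul, h6, ← pow_mul]
        exact hsix _ hw
      calc x ^ 3 = x ^ 27 * ((x ^ 12) ^ 2)⁻¹ := by group
        _ = 1 := by rw [h27, h12]; simp
  have hexp' : Monoid.exponent (R : Subgroup C) = 3 := by
    refine ((Nat.dvd_prime Nat.prime_three).1
      (Monoid.exponent_dvd_of_forall_pow_eq_one fun x => Subtype.ext (by simpa using hexp x.1 x.2))).resolve_left ?_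
    intro h1
    have hsub := Monoid.exp_eq_one_iff.1 h1
    have := hsub
    have h := Nat.card_unique (α := (R : Subgroup C))
    omega
  -- centre
  have hcen : (Subgroup.center (R : Subgroup C)).map (R : Subgroup C).subtype = zpowers p := by
    symm
    refine Subgroup.eq_of_le_of_card_ge ?_ ?_
    · rw [zpowers_le]
      exact ⟨⟨p, hpR⟩, Subgroup.mem_center_iff.2 fun g => Subtype.ext
        (Subgroup.mem_center_iff.1 hpcen g), rfl⟩
    · rw [Subgroup.card_map_of_injective (Subgroup.subtype_injective _), hextra.2, Nat.card_zpowers, hp]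
  -- the image and the normaliser
  have hinter : Nat.card (π.ker ⊓ (R : Subgroup C) : Subgroup C) = 3 := by
    refine Nat.dvd_antisymm ?_ ?_
    · have h1 := card_dvd_of_le (inf_le_left : π.ker ⊓ (R : Subgroup C) ≤ π.ker)
      have h2 := card_dvd_of_le (inf_le_right : π.ker ⊓ (R : Subgroup C) ≤ (R : Subgroup C))
      rw [hcker] at h1
      rw [hcR] at h2
      exact Nat.dvd_gcd h1 h2
    · exact hp.symm.dvd.trans (Subgroup.orderOf_dvd_natCard (π.ker ⊓ (R : Subgroup C)) ⟨hpk, hpR⟩)
  set Rb := (R : Subgroup C).map π with hRb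
  have hcRb : Nat.card Rb = 9 := by
    have h := (π.ker.subgroupOf (R : Subgroup C)).card_mul_index
    have hk : π.ker.subgroupOf (R : Subgroup C) = (π.comp (R : Subgroup C).subtype).ker := by
      ext a
      simp [Subgroup.mem_subgroupOf, MonoidHom.mem_ker]
    rw [hk, Subgroup.index_ker, MonoidHom.range_comp, Subgroup.range_subtype, ← hk, ← hRb, hcR,
      ← Subgroup.inf_subgroupOf_right, Nat.card_congr
      (Subgroup.subgroupOfEquivOfLe (inf_le_right : π.ker ⊓ (R : Subgroup C) ≤ _)).toEquiv, hinter] at h
    omega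
  have hnorm : normalizer ((R : Subgroup C) : Set C) = (normalizer (Rb : Set M)).comap π := by
    refine le_antisymm ((Subgroup.map_le_iff_le_comap).1 (Subgroup.le_normalizer_map π)) ?_
    intro c hc
    rw [Subgroup.mem_comap] at hc
    refine mem_normalizer_fintype (S := ((R : Subgroup C) : Set C)) fun x hx => ?_
    obtain ⟨r, hr, hre⟩ := (Subgroup.mem_normalizer_iff.1 hc (π x)).1 ⟨x, hx, rfl⟩
    have hw : r⁻¹ * (c * x * c⁻¹) ∈ π.ker := by
      rw [MonoidHom.mem_ker, map_mul, map_inv, hre, map_mul, map_mul, map_inv, inv_mul_cancel]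
    have hwc := hker hw
    have hcx : (r * (r⁻¹ * (c * x * c⁻¹))) ^ 3 = 1 := by
      rw [mul_inv_cancel_left, conj_pow, hexp x hx, mul_one, mul_inv_cancel]
    rw [(show Commute r (r⁻¹ * (c * x * c⁻¹)) from Subgroup.mem_center_iff.1 hwc r).mul_pow,
      hexp r hr, one_mul] at hcx
    show c * x * c⁻¹ ∈ (R : Subgroup C)
    rw [← mul_inv_cancel_left r (c * x * c⁻¹)]
    exact mul_mem hr (hin _ hwc hcx)
  refine ⟨hcR, hexp', hextra, hcen, ?_⟩
  rw [hnorm]
  have h1 := (normalizer (Rb : Set M)).card_mul_index
  have h2 := ((normalizer (Rb : Set M)).comap π).card_mul_index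
  rw [Subgroup.index_comap_of_surjective _ hπ, hcC] at h2
  rw [hM.norm Rb hcRb, hM.card] at h1
  have h3 : (normalizer (Rb : Set M)).index = 6160 := by omega
  rw [h3] at h2
  omega

end Cover

end Cfsg.Agent.J4Type
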