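import Cfsg.Prelude.Def_JankoFourType
import Cfsg.Prelude.Def_KGroupFacts
import Cfsg.Agent.J4Type.Sylow3
import Cfsg.Agent.Compute.Mathieu
import Cfsg.Agent.LargeExtra.SingularSubgroup

/-!
# The Sylow 3-subgroups of a group of Janko-four type

From the structure of `C_H(P)` (a sextuple cover of M22) and `N_G(P) ≤ H`: the Sylow 3-subgroups lying in `H` are
extraspecial of order 27 and exponent three, and their normalisers lie in `H` and have order 864.
-/

set_option autoImplicit false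

namespace Cfsg.Agent.J4Type

open Subgroup Cfsg

universe u

variable {G : Type u} [Group G] [Finite G]

theorem card_mulAut_m22_of_out (hOut : Nat.card (Cfsg.Out ↥Cfsg.Spor.M22) = 2)
    [IsSimpleGroup ↥Cfsg.Spor.M22] : Nat.card (MulAut ↥Cfsg.Spor.M22) = 887040 := by
  have hcard : Nat.card ↥Cfsg.Spor.M22 = 443520 := Compute.card_m22
  have hinj : Function.Injective (MulAut.conj : ↥Cfsg.Spor.M22 →* MulAut ↥Cfsg.Spor.M22) := by
    rw [← MonoidHom.ker_eq_bot_iff]
    refine ((MonoidHom.normal_ker _).eq_bot_or_eq_top).resolve_right fun htop => ?_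
    have hcomm : ∀ a b : ↥Cfsg.Spor.M22, a * b = b * a := fun a b => by
      have h := DFunLike.congr_fun (MonoidHom.mem_ker.1 (htop ▸ Subgroup.mem_top a :)) b
      rw [MulAut.conj_apply, MulAut.one_apply] at h
      exact mul_inv_eq_iff_eq_mul.1 h
    letI : CommGroup ↥Cfsg.Spor.M22 :=
      { (inferInstance : Group ↥Cfsg.Spor.M22) with mul_comm := hcomm }
    have h := IsSimpleGroup.prime_card (α := ↥Cfsg.Spor.M22)
    rw [hcard] at h
    norm_num at h
  have hinn : Nat.card (Cfsg.Inn ↥Cfsg.Spor.M22) = 443520 := by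
    rw [← hcard]
    exact (Nat.card_congr (MonoidHom.ofInjective hinj).toEquiv).symm
  rw [← (Cfsg.Inn ↥Cfsg.Spor.M22).card_mul_index, hinn, Subgroup.index_eq_card]
  exact (congrArg (443520 * ·) hOut).trans (by norm_num)

/-- The conclusion about a Sylow 3-subgroup. -/
structure ThreeLocal (z : G) (R : Subgroup G) : Prop where
  extra : IsExtraspecial 3 R
  card : Nat.card R = 27
  exponent : Monoid.exponent R = 3
  norm_le : normalizer (R : Set G) ≤ centralizer ({z} : Set G)
  card_norm : Nat.card (normalizer (R : Set G)) = 864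

theorem card_normalizer_conj (g : G) (R : Subgroup G) :
    normalizer ((R.map (MulAut.conj g).toMonoidHom : Subgroup G) : Set G) =
      (normalizer (R : Set G)).map (MulAut.conj g).toMonoidHom :=
  (Subgroup.map_normalizer_eq_of_bijective R (f := (MulAut.conj g).toMonoidHom) (MulAut.conj g).bijective).symm

/-- The Sylow 3-subgroups in the centraliser of `z`. -/
theorem threeLocal (hOut : Nat.card (Cfsg.Out ↥Cfsg.Spor.M22) = 2)
    [IsSimpleGroup ↥Cfsg.Spor.M22] {z : G} {P : Subgroup G} (hJ : IsOfJankoFourTypeWith z P)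
    (hperf : ⁅(centralizer ({z} : Set G) ⊓ centralizer (P : Set G)),
      (centralizer ({z} : Set G) ⊓ centralizer (P : Set G))⁆ =
        centralizer ({z} : Set G) ⊓ centralizer (P : Set G))
    (hZ : Nat.card (center ↥(centralizer ({z} : Set G) ⊓ centralizer (P : Set G))) = 6)
    (hM : Cfsg.Spor.IsoM22 (↥(centralizer ({z} : Set G) ⊓ centralizer (P : Set G)) ⧸
      center ↥(centralizer ({z} : Set G) ⊓ centralizer (P : Set G))))
    (hN : normalizer (P : Set G) ≤ centralizer ({z} : Set G))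
    (R : Sylow 3 G) (hR : (R : Subgroup G) ≤ centralizer ({z} : Set G)) :
    ThreeLocal z (R : Subgroup G) := by
  classical
  have : Fact (Nat.Prime 3) := ⟨Nat.prime_three⟩
  obtain ⟨hz, -, hE, -, ⟨N, -, hNH, -, hNcard, ⟨hn, ⟨eH⟩⟩, hPN⟩, hP, -, hne, -⟩ := hJ
  set H := centralizer ({z} : Set G) with hH
  set C := H ⊓ centralizer (P : Set G) with hC
  set K := normalizer (P : Set G) with hK
  obtain ⟨eM⟩ := hM
  -- the projection and the element of order three
  obtain ⟨p, hpP, hp1⟩ : ∃ p ∈ P, p ≠ 1 := by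
    by_contra h
    have hb : P = ⊥ := P.eq_bot_iff_forall.2 fun x hx => by
      by_contra hx1
      exact h ⟨x, hx, hx1⟩
    rw [hb, Subgroup.card_bot] at hP
    norm_num at hP
  have hop : orderOf p = 3 :=
    ((Nat.dvd_prime Nat.prime_three).1 (hP ▸ P.orderOf_dvd_natCard hpP)).resolve_left
      (fun h => hp1 (orderOf_eq_one_iff.1 h))
  have hPp : zpowers p = P :=
    Subgroup.eq_of_le_of_card_ge (zpowers_le.2 hpP) (by rw [Nat.card_zpowers, hop, hP])
  have hPab : P ≤ centralizer (P : Set G) := by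
    rw [← hPp]
    intro a ha
    refine mem_centralizer_iff.2 fun b hb => ?_
    obtain ⟨i, rfl⟩ := mem_zpowers_iff.1 ha
    obtain ⟨j, rfl⟩ := mem_zpowers_iff.1 hb
    exact (Commute.zpow_zpow_self p j i).eq
  have hpC : p ∈ C := ⟨(hPN.trans hNH) hpP, hPab hpP⟩
  let π : C →* ↥Cfsg.Spor.M22 := eM.toMonoidHom.comp (QuotientGroup.mk' (center C))
  have hπ : Function.Surjective π := eM.surjective.comp (QuotientGroup.mk'_surjective _)
  have hker : π.ker = center C := by
    rw [MonoidHom.ker_comp_of_injective _ _ eM.injective, QuotientGroup.ker_mk']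
  have hpcen : (⟨p, hpC⟩ : C) ∈ center C := Subgroup.mem_center_iff.2 fun g =>
    Subtype.ext ((mem_centralizer_iff.1 g.2.2 p hpP).symm)
  have hpcomm : (⟨p, hpC⟩ : C) ∈ commutator C := by
    have h : (commutator C).map C.subtype = ⁅C, C⁆ := Subgroup.map_subtype_commutator C
    have hp' : p ∈ (commutator C).map C.subtype := by rw [h, hperf]; exact hpC
    obtain ⟨w, hw, hwp⟩ := hp'
    rwa [show (⟨p, hpC⟩ : C) = w from Subtype.ext hwp.symm]
  have hM3 : ThreeFacts ↥Cfsg.Spor.M22 := threeFacts_of_card Compute.card_m22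
  let S0 : Sylow 3 C := default
  have hS0 := coverSylow hM3 π hπ (le_of_eq hker) (by rw [hker, hZ])
    (p := (⟨p, hpC⟩ : C)) (by rw [Subgroup.orderOf_mk, hop]) (by rw [hker]; exact hpcen) hpcomm S0
  set R0 := (S0 : Subgroup C).map C.subtype with hR0
  let e0 : ↥(S0 : Subgroup C) ≃* R0 := (S0 : Subgroup C).equivMapOfInjective _ C.subtype_injective
  have hcR0 : Nat.card R0 = 27 := by rw [← Nat.card_congr e0.toEquiv, hS0.card]
  have hR0C : R0 ≤ C := Subgroup.map_subtype_le _
  -- the order of `R`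
  have hcH : Nat.card H = 3 ^ 3 * (2 ^ 13 * 98560) := by
    rw [← (N.subgroupOf H).card_mul_index, Nat.card_congr (Subgroup.subgroupOfEquivOfLe hNH).toEquiv,
      Subgroup.index_eq_card, Nat.card_congr eH.toEquiv, card_mulAut_m22_of_out hOut, hNcard, hE]
    norm_num
  have hcR : Nat.card (R : Subgroup G) = 27 := by
    obtain ⟨i, hi⟩ := IsPGroup.iff_card.1 R.isPGroup'
    have hd := card_dvd_of_le hR
    rw [hcH, hi] at hd
    have hi3 : 3 ^ i ∣ 3 ^ 3 :=
      (Nat.Coprime.pow_left i (by norm_num : Nat.Coprime 3 (2 ^ 13 * 98560))).dvd_of_dvd_mul_right hd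
    obtain ⟨T, hT⟩ := (IsPGroup.of_card (p := 3) (n := 3) hcR0).exists_le_sylow
    have h1 := card_le_of_le hT
    rw [hcR0, T.card_eq_multiplicity, ← R.card_eq_multiplicity, hi] at h1
    rw [hi]
    exact le_antisymm (Nat.le_of_dvd (by norm_num) hi3) h1
  -- conjugate in `H`
  obtain ⟨h, hh, hconj⟩ : ∃ h ∈ H, (R : Subgroup G) = R0.map (MulAut.conj h).toMonoidHom := by
    let SR : Sylow 3 H := R.subtype hR
    have hR0H : R0 ≤ H := hR0C.trans inf_le_left
    obtain ⟨T, hT⟩ := (IsPGroup.of_card (p := 3) (n := 3)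
      (by rw [Nat.card_congr (Subgroup.subgroupOfEquivOfLe hR0H).toEquiv, hcR0]; norm_num :
        Nat.card (R0.subgroupOf H) = 3 ^ 3)).exists_le_sylow
    obtain ⟨g, hg⟩ := MulAction.exists_smul_eq H T SR
    refine ⟨g, g.2, (Subgroup.eq_of_le_of_card_ge ?_ ?_).symm⟩
    · rintro _ ⟨a, ha, rfl⟩
      have hm : (g * ⟨a, hR0H ha⟩ * g⁻¹ : H) ∈ (SR : Subgroup H) := by
        rw [← hg, Sylow.coe_subgroup_smul]
        exact ⟨⟨a, hR0H ha⟩, hT ha, rfl⟩
      exact hm
    · rw [hcR, Subgroup.card_map_of_injective (MulAut.conj (g : G)).injective, hcR0]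
  -- the normaliser of `R0`
  have hN0 : normalizer (R0 : Set G) ≤ K := by
    intro n hn0
    refine Subgroup.mem_normalizer_fintype (S := (P : Set G)) fun x hx => ?_
    obtain ⟨i, rfl⟩ := mem_zpowers_iff.1 (hPp.symm ▸ hx : x ∈ zpowers p)
    have hxc : (⟨p, hpC⟩ : C) ^ i ∈ (center (S0 : Subgroup C)).map (S0 : Subgroup C).subtype := by
      rw [hS0.center]
      exact zpow_mem_zpowers _ i
    obtain ⟨sx, hsx, hsxe⟩ := hxc
    have hsxG : ((sx : C) : G) = p ^ i := by
      rw [show (sx : C) = (⟨p, hpC⟩ : C) ^ i from hsxe, Subgroup.coe_zpow]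
    obtain ⟨sy, hsy, hsye⟩ := (Subgroup.mem_normalizer_iff.1 hn0 (p ^ i)).1 ⟨sx, sx.2, hsxG⟩
    have hsyG : (sy : G) = n * p ^ i * n⁻¹ := hsye
    have hcen : (⟨sy, hsy⟩ : (S0 : Subgroup C)) ∈ center (S0 : Subgroup C) := by
      refine Subgroup.mem_center_iff.2 fun g => ?_
      obtain ⟨sg, hsg, hsge⟩ := (Subgroup.mem_normalizer_iff.1 (inv_mem hn0) ((g : C) : G)).1
        ⟨g, g.2, rfl⟩
      have hsgG : (sg : G) = n⁻¹ * ((g : C) : G) * n := by simpa using hsge
      have hcom := congrArg (fun w : (S0 : Subgroup C) => ((w : C) : G))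
        (Subgroup.mem_center_iff.1 hsx ⟨sg, hsg⟩)
      simp only [Subgroup.coe_mul, hsxG, hsgG] at hcom
      refine Subtype.ext (Subtype.ext ?_)
      simp only [Subgroup.coe_mul, hsyG]
      calc ((g : C) : G) * (n * p ^ i * n⁻¹)
          = n * (n⁻¹ * ((g : C) : G) * n * p ^ i) * n⁻¹ := by group
        _ = n * (p ^ i * (n⁻¹ * ((g : C) : G) * n)) * n⁻¹ := by rw [hcom]
        _ = n * p ^ i * n⁻¹ * ((g : C) : G) := by group
    have hyz : sy ∈ zpowers (⟨p, hpC⟩ : C) := hS0.center ▸ (⟨_, hcen, rfl⟩ :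
      sy ∈ (center (S0 : Subgroup C)).map (S0 : Subgroup C).subtype)
    obtain ⟨j, hj⟩ := mem_zpowers_iff.1 hyz
    show n * p ^ i * n⁻¹ ∈ P
    rw [← hsyG, ← hj, Subgroup.coe_zpow]
    exact zpow_mem hpP j
  -- the action on `P`
  set φ := (Subgroup.normalizerMonoidHom P).comp (Subgroup.inclusion hN0) with hφ
  have hCK : ∀ k : G, k ∈ K → (k ∈ C ↔ k ∈ centralizer (P : Set G)) := fun k hk =>
    ⟨fun hkC => hkC.2, fun hc => ⟨hN hk, hc⟩⟩
  have hrange : Nat.card φ.range ∣ 2 := by
    have : IsCyclic P := isCyclic_of_prime_card (p := 3) hP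
    have haut : Nat.card (MulAut P) = 2 := by
      rw [IsCyclic.card_mulAut, hP]
      rfl
    rw [← haut]
    exact Subgroup.card_subgroup_dvd_card _
  -- an element of the normaliser moving `P`
  obtain ⟨k, hk, hkC⟩ : ∃ k ∈ K, k ∉ C := by
    by_contra hall
    refine hne (le_antisymm (fun k hk => ?_) (inf_le_inf_left H (centralizer_le_normalizer _)))
    by_contra h
    exact hall ⟨k, hk.2, h⟩
  obtain ⟨c, hc⟩ : ∃ c : C, ∀ s ∈ R0, ((c : G) * k) * s * ((c : G) * k)⁻¹ ∈ R0 := by
    have hkC' : ∀ s ∈ C, k * s * k⁻¹ ∈ C := by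
      intro s hs
      have hsK : s ∈ K := centralizer_le_normalizer _ hs.2
      refine (hCK _ (mul_mem (mul_mem hk hsK) (inv_mem hk))).2 (mem_centralizer_iff.2 fun q hq => ?_)
      have hq' : k⁻¹ * q * k ∈ P := (Subgroup.mem_normalizer_iff''.1 hk q).1 hq
      have e := mem_centralizer_iff.1 hs.2 _ hq'
      calc q * (k * s * k⁻¹) = k * (k⁻¹ * q * k * s) * k⁻¹ := by group
        _ = k * (s * (k⁻¹ * q * k)) * k⁻¹ := by rw [e]
        _ = k * s * k⁻¹ * q := by group
    have himC : R0.map (MulAut.conj k).toMonoidHom ≤ C := by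
      rintro _ ⟨a, ha, rfl⟩
      exact hkC' a (hR0C ha)
    obtain ⟨T, hT⟩ := (IsPGroup.of_card (p := 3) (n := 3)
      (by rw [Nat.card_congr (Subgroup.subgroupOfEquivOfLe himC).toEquiv,
        Subgroup.card_map_of_injective (MulAut.conj k).injective, hcR0]; norm_num :
        Nat.card ((R0.map (MulAut.conj k).toMonoidHom).subgroupOf C) = 3 ^ 3)).exists_le_sylow
    obtain ⟨c, hc⟩ := MulAction.exists_smul_eq C T S0
    refine ⟨c, fun s hs => ?_⟩
    have hm : (⟨k * s * k⁻¹, hkC' s (hR0C hs)⟩ : C) ∈ (T : Subgroup C) :=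
      hT ⟨s, hs, rfl⟩
    have hm' : c * ⟨k * s * k⁻¹, hkC' s (hR0C hs)⟩ * c⁻¹ ∈ (S0 : Subgroup C) := by
      rw [← hc, Sylow.coe_subgroup_smul]
      exact ⟨_, hm, rfl⟩
    refine ⟨_, hm', ?_⟩
    simp [mul_assoc]
  have hnorm0 : Nat.card (normalizer (R0 : Set G)) = 864 := by
    have hck : (c : G) * k ∈ normalizer (R0 : Set G) :=
      Subgroup.mem_normalizer_fintype (S := (R0 : Set G)) hc
    have hker' : φ.ker = C.subgroupOf (normalizer (R0 : Set G)) := by
      ext m
      rw [hφ, MonoidHom.mem_ker, MonoidHom.comp_apply, ← MonoidHom.mem_ker,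
        Subgroup.normalizerMonoidHom_ker, Subgroup.mem_subgroupOf, Subgroup.mem_subgroupOf]
      exact (hCK _ (hN0 m.2)).symm
    have hne1 : Nat.card φ.range ≠ 1 := by
      intro h1
      have : (⟨_, hck⟩ : normalizer (R0 : Set G)) ∈ φ.ker := by
        rw [MonoidHom.mem_ker]
        have hm : φ ⟨_, hck⟩ ∈ φ.range := ⟨_, rfl⟩
        rw [Subgroup.card_eq_one.1 h1] at hm
        exact Subgroup.mem_bot.1 hm
      rw [hker', Subgroup.mem_subgroupOf] at this
      refine hkC ?_
      have h2 := mul_mem (inv_mem c.2) this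
      rwa [inv_mul_cancel_left] at h2
    have hr2 : φ.ker.index = 2 := by
      rw [Subgroup.index_ker]
      exact ((Nat.dvd_prime Nat.prime_two).1 hrange).resolve_left hne1
    have hsub : (normalizer (R0 : Set G)).subgroupOf C = normalizer ((S0 : Subgroup C) : Set C) := by
      ext m
      rw [Subgroup.mem_subgroupOf, Subgroup.mem_normalizer_iff, Subgroup.mem_normalizer_iff]
      constructor
      · intro hm s
        rw [← Subgroup.mem_map_iff_mem C.subtype_injective, ← Subgroup.mem_map_iff_mem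
          C.subtype_injective (x := m * s * m⁻¹)]
        exact hm s
      · intro hm s
        constructor
        · rintro ⟨w, hw, rfl⟩
          exact ⟨m * w * m⁻¹, (hm w).1 hw, rfl⟩
        · rintro ⟨w, hw, hwe⟩
          refine ⟨m⁻¹ * w * m, (hm _).2 (show m * (m⁻¹ * w * m) * m⁻¹ ∈ (S0 : Subgroup C) by
              rw [show m * (m⁻¹ * w * m) * m⁻¹ = w by group]; exact hw), ?_⟩
          show (m : G)⁻¹ * (w : G) * m = s
          rw [show (w : G) = m * s * (m : G)⁻¹ from hwe]
          group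
    have hcap : Nat.card φ.ker = 432 := by
      rw [hker', ← Subgroup.inf_subgroupOf_right, Nat.card_congr
        (Subgroup.subgroupOfEquivOfLe inf_le_right).toEquiv, ← hS0.normalizer, ← hsub,
        ← Subgroup.inf_subgroupOf_right, Nat.card_congr
        (Subgroup.subgroupOfEquivOfLe inf_le_right).toEquiv, inf_comm]
    rw [← φ.ker.card_mul_index, hr2, hcap]
  -- transport to `R`
  let eR : R0 ≃* (R : Subgroup G) :=
    (R0.equivMapOfInjective _ (MulAut.conj h).injective).trans (MulEquiv.subgroupCongr hconj.symm)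
  refine ⟨LargeExtra.extraspecial_congr (e0.trans eR) hS0.extra, hcR, ?_, ?_, ?_⟩
  · exact (Monoid.exponent_eq_of_mulEquiv (e0.trans eR)).symm.trans hS0.exponent
  · rw [hconj, card_normalizer_conj]
    rintro _ ⟨n, hn', rfl⟩
    exact mul_mem (mul_mem hh (hN (hN0 hn'))) (inv_mem hh)
  · rw [hconj, card_normalizer_conj, Subgroup.card_map_of_injective (MulAut.conj h).injective,
      hnorm0]

end Cfsg.Agent.J4Type
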