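import Cfsg.Agent.J4Type.Swap

/-!
# `O₂(C(u)) ∩ C(z)` is a translate of the split group
-/

set_option autoImplicit false

open Cfsg Subgroup

namespace Cfsg.Agent.J4Type

open LargeExtra (oc oc_le oc_conj_mem Setting)

variable {G : Type*} [Group G] [Finite G] {z : G} {P : Subgroup G} {V : Type*} [AddCommGroup V]
  {π : ↥(oc z) →* Multiplicative V} {ρ : ↥(mSub z P) →* Equiv.Perm V} {q : V → ZMod 2}
  {v₀ f₀ : V} {Q₀ : Subgroup (Equiv.Perm V)}

/-- A normalised orthogonal conjugate. -/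
structure NConf (D : ActData z P π ρ q) (v₀ : V) (Q₀ : Subgroup (Equiv.Perm V)) (u : G) : Prop where
  conf : Conf z u
  vec_u : vec π u = v₀
  image : xImage D u = Q₀

theorem exists_nconf (L : LinFacts ρ.range (gammaZero ρ) q v₀ f₀ Q₀) (D : ActData z P π ρ q)
    {u : G} (hc : Conf z u) : ∃ u' : G, NConf D v₀ Q₀ u' := by
  obtain ⟨u', h1, h2, h3⟩ := exists_normal_conf L hc D
  exact ⟨u', h1, h2, h3⟩

namespace NConf

variable {u : G} {D : ActData z P π ρ q} (N : NConf D v₀ Q₀ u)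
  (L : LinFacts ρ.range (gammaZero ρ) q v₀ f₀ Q₀)
include N

theorem lin_mem_Q {x : G} (hx : x ∈ xSub z u) : lin ρ x ∈ Q₀ :=
  N.image.le ((N.conf.mem_image D).2 ⟨x, hx, rfl⟩)

theorem exists_x {γ : Equiv.Perm V} (hγ : γ ∈ Q₀) : ∃ x ∈ xSub z u, lin ρ x = γ :=
  (N.conf.mem_image D).1 (N.image.ge hγ)

theorem parts_u : lin ρ u = 1 ∧ trans π P u = v₀ := by
  rw [← N.vec_u]; exact D.lin_oc N.conf.mem

theorem commute_u {x : G} (hx : x ∈ oc u) : Commute x u := (N.conf.setting D).comm_z hx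

include L

theorem lin_fix {x : G} (hx : x ∈ xSub z u) : lin ρ x v₀ = v₀ := L.Q_fix _ (N.lin_mem_Q hx)

/-- Elements of `M` fixing `v₀` centralise `u`. -/
theorem commute_lift {n : G} (hn : n ∈ mSub z P) (h : act ρ n v₀ = v₀) : Commute n u :=
  N.conf.commute_lift D hn (by rw [N.vec_u]; exact h)

theorem trans_perp {x : G} (hx : x ∈ xSub z u) : polar2 q v₀ (trans π P x) = 0 := by
  obtain ⟨e, he, m, hm, rfl, h1, h2⟩ := D.exists_parts hx.2
  have hmu : Commute m u := N.commute_lift L hm (by rw [← h1]; exact N.lin_fix L hx)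
  have heu : Commute e u := by
    have h := (N.commute_u hx.1).mul_left hmu.inv_left
    rwa [mul_inv_cancel_right] at h
  rw [h2, ← N.vec_u, D.polar_eq N.conf.mem he]
  exact heu.symm

theorem card_inter : Nat.card ↥(oc z ⊓ oc u) = 2 ^ 7 := by
  have h := N.conf.card_image D
  rw [N.image, L.Q_card] at h
  omega

theorem vec_mem_kernel {k : G} (hk : k ∈ oc z ⊓ oc u) : vec π k ∈ kernelSet q Q₀ v₀ := by
  refine ⟨?_, fun γ hγ => ?_⟩
  · rw [← N.vec_u, D.polar_eq N.conf.mem hk.1]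
    exact (N.commute_u hk.2).symm
  · obtain ⟨x, hx, rfl⟩ := N.exists_x hγ
    rw [← D.vec_conj_lin hx.2 hk.1, ← D.vec_inv hk.1,
      ← vec_mul (oc_conj_mem hx.2 hk.1) (inv_mem hk.1)]
    rcases (N.conf.setting D).commutator_cases hx.1 hk.2 with h | h
    · left; rw [h, vec_one]
    · right; rw [h, N.vec_u]

/-- The lifts of the kernel set are exactly `E ∩ O₂(C(u))`. -/
theorem mem_inter_iff {e : G} (he : e ∈ oc z) :
    e ∈ oc z ⊓ oc u ↔ vec π e ∈ kernelSet q Q₀ v₀ := by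
  refine ⟨N.vec_mem_kernel L, fun hv => ?_⟩
  have : Finite V := Finite.of_surjective _ (Multiplicative.toAdd.surjective.comp D.surj)
  set K := oc z ⊓ oc u with hK
  let f : ↥K →* Multiplicative V := π.comp (inclusion inf_le_left)
  have hker : Nat.card f.ker ≤ 2 := by
    refine le_trans (Nat.card_le_card_of_injective (fun x => (⟨((x : ↥K) : G), ?_⟩ : zpowers z))
      fun a b h => Subtype.ext (Subtype.ext (congrArg (fun w : zpowers z => (w : G)) h))) ?_
    · exact (D.ker ⟨((x : ↥K) : G), (x : ↥K).2.1⟩).1 x.2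
    · rw [Nat.card_zpowers, D.set'.ord]
  have hrange : 64 ≤ Nat.card f.range := by
    have h := f.ker.card_mul_index
    rw [index_ker, N.card_inter L] at h
    by_contra hlt
    have := Nat.mul_le_mul hker (Nat.le_of_lt_succ (show Nat.card f.range < 63 + 1 by omega))
    omega
  have hsub : ∀ w ∈ f.range, Multiplicative.toAdd w ∈ kernelSet q Q₀ v₀ := by
    rintro _ ⟨k, rfl⟩
    have := N.vec_mem_kernel L k.2
    rwa [vec_of_mem k.2.1] at this
  have hset : Multiplicative.toAdd '' (f.range : Set (Multiplicative V)) = kernelSet q Q₀ v₀ := by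
    refine Set.eq_of_subset_of_ncard_le ?_ ?_ (Set.toFinite _)
    · rintro _ ⟨w, hw, rfl⟩; exact hsub w hw
    · rw [Set.ncard_image_of_injective _ Multiplicative.toAdd.injective, ← Nat.card_coe_set_eq]
      exact le_trans L.kernel hrange
  rw [← hset] at hv
  obtain ⟨_, ⟨k, rfl⟩, hk⟩ := hv
  have hk' : vec π (k : G) = vec π e := by rw [vec_of_mem k.2.1]; exact hk
  rcases D.vec_eq he k.2.1 hk'.symm with h | h <;> rw [h]
  · exact k.2
  · exact mul_mem k.2 ⟨D.z_mem, N.conf.z_mem D⟩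

/-- `X` is the conjugate of the split group. -/
theorem split : ∃ F ∈ oc z, ∀ x ∈ xSub z u, trans π P (F * x * F⁻¹) ∈ kernelSet q Q₀ v₀ ∧
    lin ρ (F * x * F⁻¹) = lin ρ x := by
  classical
  choose! xf hxf using fun γ (hγ : γ ∈ Q₀) => N.exists_x hγ
  let e : Equiv.Perm V → V := fun γ => trans π P (xf γ)
  have hzero : (0 : V) ∈ kernelSet q Q₀ v₀ := by
    simpa [vec_one] using N.vec_mem_kernel L (one_mem (oc z ⊓ oc u))
  have hadd : ∀ a ∈ kernelSet q Q₀ v₀, ∀ b ∈ kernelSet q Q₀ v₀, a + b ∈ kernelSet q Q₀ v₀ := by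
    intro a ha b hb
    obtain ⟨k, hk, rfl⟩ := D.exists_vec a
    obtain ⟨l, hl, rfl⟩ := D.exists_vec b
    rw [← vec_mul hk hl]
    exact N.vec_mem_kernel L (mul_mem ((N.mem_inter_iff L hk).2 ha) ((N.mem_inter_iff L hl).2 hb))
  have hlin : ∀ {γ}, γ ∈ Q₀ → lin ρ (xf γ) = γ := fun hγ => (hxf _ hγ).2
  have hH : ∀ {γ}, γ ∈ Q₀ → xf γ ∈ centralizer ({z} : Set G) := fun hγ => (hxf _ hγ).1.2
  -- the defect of two elements of `X` with the same linear part
  have hdiff : ∀ x ∈ xSub z u, ∀ y ∈ xSub z u, lin ρ x = lin ρ y →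
      trans π P x + trans π P y ∈ kernelSet q Q₀ v₀ := by
    intro x hx y hy hxy
    have hyH := (centralizer ({z} : Set G)).inv_mem hy.2
    have hk : x * y⁻¹ ∈ oc z ⊓ oc u := by
      refine ⟨(D.lin_eq_one (mul_mem hx.2 hyH)).1 ?_, (oc u).mul_mem hx.1 ((oc u).inv_mem hy.1)⟩
      rw [(D.lin_mul hx.2 hyH).1, D.lin_inv hy.2, hxy, mul_inv_cancel]
    have h := (D.lin_mul (oc_le z hk.1) hy.2).2
    rw [inv_mul_cancel_right, (D.lin_oc hk.1).1, (D.lin_oc hk.1).2, Equiv.Perm.one_apply] at h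
    rw [h, add_assoc, D.two, add_zero]
    exact N.vec_mem_kernel L hk
  obtain ⟨f, hf, hfe⟩ := L.sect e (fun γ hγ => N.trans_perp L (hxf γ hγ).1)
    (fun γ hγ => by
      have h := (D.lin_mul (hH hγ) (hH hγ)).2
      rw [hlin hγ] at h
      rw [add_comm (γ (e γ))]
      show trans π P (xf γ) + γ (trans π P (xf γ)) = 0 ∨ _
      rw [← h]
      rcases N.conf.sq_cases_u D (hxf γ hγ).1.1 with h' | h' <;> rw [h']
      · left; rw [(D.lin_oc (one_mem _)).2, vec_one]
      · right; exact N.parts_u.2)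
    (fun γ hγ δ hδ => by
      have h1 := (D.lin_mul (hH hγ) (hH hδ)).2
      have h2 := (D.lin_mul (hH hδ) (hH hγ)).2
      rw [hlin hγ] at h1
      rw [hlin hδ] at h2
      show trans π P (xf γ) + γ (trans π P (xf δ)) + trans π P (xf δ) + δ (trans π P (xf γ)) = 0 ∨
        trans π P (xf γ) + γ (trans π P (xf δ)) + trans π P (xf δ) + δ (trans π P (xf γ)) = v₀
      rw [add_assoc _ (trans π P (xf δ)), ← h1, ← h2]
      rcases (N.conf.setting D).commutator_cases (hxf γ hγ).1.1 (hxf δ hδ).1.1 with h' | h'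
      · left
        rw [mul_inv_eq_one, mul_inv_eq_iff_eq_mul] at h'
        rw [h', D.two]
      · right
        rw [mul_inv_eq_iff_eq_mul, mul_inv_eq_iff_eq_mul] at h'
        rw [h', mul_assoc u, (D.lin_mul (N.conf.mem_H D) (mul_mem (hH hδ) (hH hγ))).2, N.parts_u.1,
          N.parts_u.2, Equiv.Perm.one_apply, add_assoc, D.two, add_zero])
    (fun γ hγ δ hδ => by
      have h1 := (D.lin_mul (hH hγ) (hH hδ)).2
      rw [hlin hγ] at h1
      show trans π P (xf (γ * δ)) + trans π P (xf γ) + γ (trans π P (xf δ)) ∈ _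
      rw [add_assoc, ← h1]
      exact hdiff _ (hxf _ (mul_mem hγ hδ)).1 _ (mul_mem (hxf γ hγ).1 (hxf δ hδ).1)
        (by rw [(D.lin_mul (hH hγ) (hH hδ)).1, hlin hγ, hlin hδ, hlin (mul_mem hγ hδ)]))
  obtain ⟨F, hF, rfl⟩ := D.exists_vec f
  refine ⟨F, hF, fun x hx => ?_⟩
  have hFH := oc_le z hF
  have hl : lin ρ (F * x * F⁻¹) = lin ρ x := by
    rw [(D.lin_mul (mul_mem hFH hx.2) (inv_mem hFH)).1, (D.lin_mul hFH hx.2).1, D.lin_inv hFH,
      (D.lin_oc hF).1, one_mul, inv_one, mul_one]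
  refine ⟨?_, hl⟩
  rw [(D.lin_mul (mul_mem hFH hx.2) (inv_mem hFH)).2, (D.lin_mul hFH hx.2).2, (D.lin_mul hFH hx.2).1,
    (D.lin_oc hF).1, (D.lin_oc hF).2, (D.lin_oc (inv_mem hF)).2, D.vec_inv hF, one_mul,
    Equiv.Perm.one_apply]
  have h := hadd _ (hfe (lin ρ x) (N.lin_mem_Q hx)) _
    (hdiff x hx _ (hxf _ (N.lin_mem_Q hx)).1 (hlin (N.lin_mem_Q hx)).symm)
  convert h using 1
  show vec π F + trans π P x + lin ρ x (vec π F)
    = trans π P (xf (lin ρ x)) + (lin ρ x (vec π F) + vec π F)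
      + (trans π P x + trans π P (xf (lin ρ x)))
  rw [show trans π P (xf (lin ρ x)) + (lin ρ x (vec π F) + vec π F)
      + (trans π P x + trans π P (xf (lin ρ x)))
    = (trans π P (xf (lin ρ x)) + trans π P (xf (lin ρ x)))
      + (vec π F + trans π P x + lin ρ x (vec π F)) by abel, D.two, zero_add]

end NConf

end Cfsg.Agent.J4Type
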