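import Cfsg.Agent.J4Type.SevenModel
import Cfsg.Agent.J4Type.Split

/-!
# An outer involution commuting with an element of order seven

Of the two lifts of the chosen outer element exactly one is conjugate to `z`.
-/

set_option autoImplicit false

open Cfsg Subgroup

namespace Cfsg.Agent.J4Type

open LargeExtra (oc oc_le oc_conj_mem conj_mem_oc Setting)
open Orbits

variable {G : Type*} [Group G] [Finite G] {z : G} {P : Subgroup G} {V : Type*} [AddCommGroup V]
  {π : ↥(oc z) →* Multiplicative V} {ρ : ↥(mSub z P) →* Equiv.Perm V} {q : V → ZMod 2}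
  {v₀ f₀ : V} {Q₀ : Subgroup (Equiv.Perm V)}

/-- An element of `E` whose vector is in the orbit of `v₀` is conjugate to `z`. -/
theorem NConf.isConj_of_reach {u e : G} {D : ActData z P π ρ q} (N : NConf D v₀ Q₀ u) (he : e ∈ oc z)
    (h : ∃ γ ∈ gammaZero ρ, γ v₀ = vec π e) (hne : vec π e ≠ 0) : IsConj z e := by
  obtain ⟨_, ⟨n, hn, rfl⟩, hv⟩ := h
  rw [← Subtype.coe_eta n n.2, ← act_of_mem n.2, ← N.vec_u, ← D.vec_conj n.2 N.conf.mem] at hv
  have hf : (n : G) * u * (n : G)⁻¹ ∈ oc z := ActData.conj_mem D n.2.1 N.conf.mem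
  obtain ⟨g, hg⟩ := N.conf.conj
  have hfz : IsConj z ((n : G) * u * (n : G)⁻¹) := isConj_iff.2 ⟨n * g, by rw [← hg]; group⟩
  rcases D.vec_eq he hf hv.symm with h | h
  · rwa [h]
  · obtain ⟨d, -, hd⟩ := D.set'.exists_mover hf
      (fun e1 => hne (by rw [h, e1, one_mul, D.vec_z]))
      (fun e1 => hne (by rw [h, e1, D.zz, vec_one]))
    exact hfz.trans (isConj_iff.2 ⟨d, by rw [hd, ← h]⟩)

/-- A conjugate of `z` in `E` has a vector in the orbit of `v₀`. -/
theorem exists_reach_of_conj {e : G} (D : ActData z P π ρ q)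
    (L : LinFacts ρ.range (gammaZero ρ) q v₀ f₀ Q₀) (he : e ∈ oc z) (hne : e ≠ z) (h : IsConj z e) :
    ∃ γ ∈ ρ.range, γ (vec π e) = v₀ := by
  obtain ⟨g, hg⟩ := isConj_iff.1 h
  have hc : Conf z e := ⟨he, hne, g, hg⟩
  obtain ⟨γ, hγ, hγv, -⟩ := L.stab _ (hc.vec_ne D) (hc.vec_sing D) _ (hc.image_le D)
    (hc.image_fix D) (hc.image_normal D) (hc.image_sq D) (hc.image_big D)
  exact ⟨γ, hγ, hγv⟩

/-- A conjugate of the configuration in which the lifts of `Q₀` in `M` lie in the 2-core. -/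
theorem exists_nconf_lift (D : ActData z P π ρ q) (L : LinFacts ρ.range (gammaZero ρ) q v₀ f₀ Q₀)
    {u₀ : G} (hc : Conf z u₀) :
    ∃ u : G, NConf D v₀ Q₀ u ∧ ∀ γ ∈ Q₀, ∃ m ∈ mSub z P, m ∈ oc u ∧ act ρ m = γ ∧ m * m = 1 := by
  obtain ⟨u, N⟩ := exists_nconf L D hc
  obtain ⟨F, hF, hsplit⟩ := N.split L
  have hFz : F ∈ centralizer ({z} : Set G) := oc_le z hF
  have hFc : ∀ x : G, x ∈ xSub z u ↔ F * x * F⁻¹ ∈ xSub z (F * u * F⁻¹) := by
    intro x
    constructor
    · exact fun hx => ⟨conj_mem_oc hx.1, (centralizer ({z} : Set G)).mul_mem ((centralizer ({z} : Set G)).mul_mem hFz hx.2) ((centralizer ({z} : Set G)).inv_mem hFz)⟩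
    · intro hx
      refine ⟨?_, ?_⟩
      · have := conj_mem_oc (g := F⁻¹) hx.1
        rwa [inv_inv, show F⁻¹ * (F * u * F⁻¹) * F = u by group,
          show F⁻¹ * (F * x * F⁻¹) * F = x by group] at this
      · have := (centralizer ({z} : Set G)).mul_mem
          ((centralizer ({z} : Set G)).mul_mem ((centralizer ({z} : Set G)).inv_mem hFz) hx.2) hFz
        rwa [show F⁻¹ * (F * x * F⁻¹) * F = x by group] at this
  obtain ⟨g, hg⟩ := N.conf.conj
  have N' : NConf D v₀ Q₀ (F * u * F⁻¹) := by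
    have hcu : Conf z (F * u * F⁻¹) := ⟨ActData.conj_mem D hFz N.conf.mem, fun e => N.conf.ne (by
      have h1 : F * u = z * F := mul_inv_eq_iff_eq_mul.1 e
      rw [(D.comm_z hFz).eq.symm] at h1
      exact mul_left_cancel h1), ⟨F * g, by rw [← hg]; group⟩⟩
    refine ⟨hcu, ?_, ?_⟩
    · rw [D.vec_conj_lin hFz N.conf.mem, (D.lin_oc hF).1, Equiv.Perm.one_apply, N.vec_u]
    · ext γ
      rw [hcu.mem_image D]
      constructor
      · rintro ⟨y, hy, rfl⟩
        have hx : F⁻¹ * y * F ∈ xSub z u :=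
          (hFc _).2 (by rwa [show F * (F⁻¹ * y * F) * F⁻¹ = y by group])
        have h2 := (hsplit _ hx).2
        rw [show F * (F⁻¹ * y * F) * F⁻¹ = y by group] at h2
        rw [h2]
        exact N.lin_mem_Q hx
      · intro hγ
        obtain ⟨x, hx, rfl⟩ := N.exists_x hγ
        exact ⟨_, (hFc x).1 hx, (hsplit x hx).2⟩
  refine ⟨_, N', fun γ hγ => ?_⟩
  obtain ⟨x, hx, rfl⟩ := N.exists_x hγ
  have hy := (hFc x).1 hx
  obtain ⟨e, he, m, hm, hem, h1, h2⟩ := D.exists_parts hy.2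
  obtain ⟨ht, hl⟩ := hsplit x hx
  rw [h2] at ht
  have heU := ((N'.mem_inter_iff L he).2 ht).2
  have hmU : m ∈ oc (F * u * F⁻¹) := by
    have := (oc (F * u * F⁻¹)).mul_mem ((oc (F * u * F⁻¹)).inv_mem heU) hy.1
    rwa [hem, inv_mul_cancel_left] at this
  refine ⟨m, hm, hmU, by rw [← h1, hl], ?_⟩
  rcases N'.conf.sq_cases_u D hmU with h | h
  · exact h
  · exfalso
    have : F * u * F⁻¹ ∈ zpowers z := D.inf_eq.le ⟨N'.conf.mem, h ▸ mul_mem hm hm⟩
    rcases D.mem_zp.1 this with e1 | e1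
    · exact N'.conf.ne_one D e1
    · exact N'.conf.ne e1

variable {B : List V}

/-- Exactly one lift of the outer involution is conjugate to `z`. -/
theorem lift_cases (D : ActData z P π ρ q) (hM : Orbits.Model B ρ.range (gammaZero ρ) q)
    (L : LinFacts ρ.range (gammaZero ρ) q (Rep.lin B Short.v0) f₀ (qSub B))
    {u m : G} (N : NConf D (Rep.lin B Short.v0) (qSub B) u) {γ : Equiv.Perm V} (hγQ : γ ∈ qSub B)
    (hγ0 : γ ∉ gammaZero ρ) (hcode : Orbits.PActs B γ outerCode) (hm : m ∈ mSub z P) (hmU : m ∈ oc u)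
    (hact : act ρ m = γ) (hm2 : m * m = 1) :
    IsConj z m ∧ ¬ IsConj z (m * z) ∨ IsConj z (m * z) ∧ ¬ IsConj z m := by
  classical
  obtain ⟨s, hs1, hs2⟩ := N.conf.swap D
  have hs1' : s⁻¹ * u * s = z := by rw [← hs1]; group
  have hs2' : s⁻¹ * z * s = u := by rw [← hs2]; group
  set e := s⁻¹ * m * s with hedef
  have he : e ∈ oc z := by
    have := conj_mem_oc (g := s⁻¹) hmU
    rwa [inv_inv, hs1'] at this
  have hmz : Commute m z := D.comm_z hm.1
  have heu : Commute e u := by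
    show e * u = u * e
    rw [hedef, ← hs2', show s⁻¹ * m * s * (s⁻¹ * z * s) = s⁻¹ * (m * z) * s by group, hmz.eq]
    group
  set w := vec π e with hwdef
  have hwp : polar2 q (Rep.lin B Short.v0) w = 0 := by
    rw [← N.vec_u, D.polar_eq N.conf.mem he]; exact heu.symm
  have he2 : e * e = 1 := by
    rw [hedef, show s⁻¹ * m * s * (s⁻¹ * m * s) = s⁻¹ * (m * m) * s by group, hm2]; group
  have hwq : q w = 0 := (D.sq_eq_one he).1 he2
  have hwK : w ∉ kernelSet q (qSub B) (Rep.lin B Short.v0) := by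
    intro hk
    have h1 := conj_mem_oc (g := s) ((N.mem_inter_iff L he).2 hk).2
    rw [hs2, show s * e * s⁻¹ = m by rw [hedef]; group] at h1
    have h2 : m ∈ zpowers z := D.inf_eq.le ⟨h1, hm⟩
    exact hγ0 (hact ▸ (D.act_eq_one hm).2 (D.mem_zp.1 h2) ▸ one_mem _)
  -- the commutators of `m` with `C_E(u)`
  let c : G → G := fun r => r * m * r⁻¹ * m⁻¹
  have hvec : ∀ r ∈ oc z, vec π (c r) = vec π r + γ (vec π r) := by
    intro r hr
    show vec π (r * m * r⁻¹ * m⁻¹) = _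
    rw [show r * m * r⁻¹ * m⁻¹ = r * (m * r⁻¹ * m⁻¹) by group,
      vec_mul hr (ActData.conj_mem D hm.1 (inv_mem hr)), D.vec_conj hm (inv_mem hr), D.vec_inv hr, hact]
  have hperp : ∀ r ∈ oc z, r ∈ ySub z u ↔ polar2 q (Rep.lin B Short.v0) (vec π r) = 0 := by
    intro r hr
    rw [← N.vec_u, D.polar_eq N.conf.mem hr]
    exact ⟨fun h => (mem_centralizer_singleton_iff.1 h.2 : Commute r u).symm,
      fun h => ⟨hr, mem_centralizer_singleton_iff.2 h.symm⟩⟩
  set A := c '' (ySub z u : Set G) with hAdef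
  have hA : A.ncard = 32 := by
    have hinj : Set.InjOn (vec π) A := by
      rintro _ ⟨r, hr, rfl⟩ _ ⟨r', hr', rfl⟩ h
      rw [hvec r hr.1, hvec r' hr'.1] at h
      have hr'' : r⁻¹ * r' ∈ ySub z u := mul_mem (inv_mem hr) hr'
      have hv : vec π (r⁻¹ * r') = vec π r + vec π r' := by
        rw [vec_mul (inv_mem hr.1) hr'.1, D.vec_inv hr.1]
      have hadd : γ (vec π r + vec π r') = γ (vec π r) + γ (vec π r') := L.add γ (L.Q_le hγQ) _ _
      have hfix : γ (vec π (r⁻¹ * r')) = vec π (r⁻¹ * r') := by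
        rw [hv, hadd]
        calc γ (vec π r) + γ (vec π r')
            = (vec π r + γ (vec π r)) + (vec π r' + γ (vec π r')) + (vec π r + vec π r') -
                (vec π r + vec π r) - (vec π r' + vec π r') := by abel
          _ = vec π r + vec π r' := by rw [h, D.two, D.two, D.two, zero_add, sub_zero, sub_zero]
      have hp := (hperp _ hr''.1).1 hr''
      have hcomm : Commute m (r⁻¹ * r') := D.commute_of_fix hm hr''.1 (by rw [hact]; exact hfix)
        (Or.inr ((D.sq_eq_one hr''.1).2 (hM.outer_fix_sing hcode hp hfix)))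
      show r * m * r⁻¹ * m⁻¹ = r' * m * r'⁻¹ * m⁻¹
      calc r * m * r⁻¹ * m⁻¹ = r * (m * (r⁻¹ * r') * (r⁻¹ * r')⁻¹) * r⁻¹ * m⁻¹ := by group
        _ = r * ((r⁻¹ * r') * m * (r⁻¹ * r')⁻¹) * r⁻¹ * m⁻¹ := by rw [hcomm.eq]
        _ = r' * m * r'⁻¹ * m⁻¹ := by group
    rw [← hinj.ncard_image, ← hM.outer_moved hcode]
    congr 1
    ext x
    constructor
    · rintro ⟨_, ⟨r, hr, rfl⟩, rfl⟩
      exact ⟨vec π r, (hperp r hr.1).1 hr, (hvec r hr.1).symm⟩
    · rintro ⟨v, hv, rfl⟩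
      obtain ⟨r, hr, rfl⟩ := D.exists_vec v
      exact ⟨c r, ⟨r, (hperp r hr).2 hv, rfl⟩, hvec r hr⟩
  -- the conjugates of `e` under `X`
  set Bs := (fun x => x * e * x⁻¹) '' (xSub z u : Set G) with hBdef
  have hBA : Bs = (fun a => s⁻¹ * a * s * e) '' A := by
    have hXY : ∀ x, x ∈ xSub z u ↔ s * x * s⁻¹ ∈ ySub z u := by
      intro x
      constructor
      · intro hx
        refine ⟨?_, mem_centralizer_singleton_iff.2 ?_⟩
        · have := conj_mem_oc (g := s) hx.1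
          rwa [hs2] at this
        · rw [← hs1, show s * x * s⁻¹ * (s * z * s⁻¹) = s * (x * z) * s⁻¹ by group,
            mem_centralizer_singleton_iff.1 hx.2]
          group
      · intro hx
        refine ⟨?_, mem_centralizer_singleton_iff.2 ?_⟩
        · have := conj_mem_oc (g := s⁻¹) hx.1
          rwa [inv_inv, hs2', show s⁻¹ * (s * x * s⁻¹) * s = x by group] at this
        · have h := mem_centralizer_singleton_iff.1 hx.2
          calc x * z = s⁻¹ * ((s * x * s⁻¹) * (s * z * s⁻¹)) * s := by group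
            _ = s⁻¹ * ((s * z * s⁻¹) * (s * x * s⁻¹)) * s := by rw [hs1, h]
            _ = z * x := by group
    have key : ∀ x, s⁻¹ * c (s * x * s⁻¹) * s * e = x * e * x⁻¹ := by
      intro x
      show s⁻¹ * (s * x * s⁻¹ * m * (s * x * s⁻¹)⁻¹ * m⁻¹) * s * e = _
      rw [hedef]; group
    ext y
    constructor
    · rintro ⟨x, hx, rfl⟩
      exact ⟨_, ⟨_, (hXY x).1 hx, rfl⟩, key x⟩
    · rintro ⟨_, ⟨r, hr, rfl⟩, rfl⟩
      refine ⟨s⁻¹ * r * s, (hXY _).2 (by rwa [show s * (s⁻¹ * r * s) * s⁻¹ = r by group]), ?_⟩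
      show (s⁻¹ * r * s) * e * (s⁻¹ * r * s)⁻¹ = s⁻¹ * c r * s * e
      rw [← key, show s * (s⁻¹ * r * s) * s⁻¹ = r by group]
  have hB32 : Bs.ncard = 32 := by
    rw [hBA, Set.ncard_image_of_injective _ fun a b h => mul_left_cancel (mul_right_cancel (mul_right_cancel h)),
      hA]
  have hBvec : ∀ x ∈ xSub z u, vec π (x * e * x⁻¹) = lin ρ x w := fun x hx => D.vec_conj_lin hx.2 he
  obtain ⟨kv, hkv, hkp⟩ := hM.exists_kernel_polar hwp hwq hwK
  obtain ⟨k, hk, rfl⟩ := D.exists_vec kv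
  have hkU := (N.mem_inter_iff L hk).2 hkv
  have hke : k * e * k⁻¹ = e * z := by
    refine (D.comm_cases hk he).resolve_left fun h => ?_
    rw [(D.polar_eq hk he).2 (mul_inv_eq_iff_eq_mul.1 h)] at hkp
    exact zero_ne_one hkp
  have hBz : ∀ b ∈ Bs, b * z ∈ Bs := by
    rintro _ ⟨x, hx, rfl⟩
    refine ⟨x * k, mul_mem hx (N.conf.inter_le_xSub D hkU), ?_⟩
    show x * k * e * (x * k)⁻¹ = x * e * x⁻¹ * z
    have hxz : Commute x⁻¹ z := (D.comm_z hx.2).inv_left
    rw [show x * k * e * (x * k)⁻¹ = x * (k * e * k⁻¹) * x⁻¹ by group, hke, mul_assoc, mul_assoc,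
      ← hxz.eq]
    group
  set O := {x : V | ∃ γ ∈ qSub B, γ w = x} with hOdef
  have hOB : ∀ x ∈ O, ∃ b ∈ Bs, vec π b = x := by
    rintro _ ⟨δ, hδ, rfl⟩
    obtain ⟨x, hx, rfl⟩ := N.exists_x hδ
    exact ⟨_, ⟨x, hx, rfl⟩, hBvec x hx⟩
  choose! g hgB hgv using hOB
  have hBO : ∀ b ∈ Bs, b ∈ oc z ∧ vec π b ∈ O := by
    rintro _ ⟨x, hx, rfl⟩
    exact ⟨ActData.conj_mem D hx.2 he, lin ρ x, N.lin_mem_Q hx, (hBvec x hx).symm⟩
  have hO : O.ncard = 16 := by
    have hg : Set.InjOn g O := fun a ha b hb h => by rw [← hgv a ha, h, hgv b hb]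
    have hg' : Set.InjOn (fun a => g a * z) O := fun a ha b hb h => hg ha hb (mul_right_cancel h)
    have hU : Bs = g '' O ∪ (fun a => g a * z) '' O := by
      refine Set.Subset.antisymm (fun b hb => ?_) ?_
      · obtain ⟨hbE, hbO⟩ := hBO b hb
        rcases D.vec_eq hbE (hBO _ (hgB _ hbO)).1 (hgv _ hbO).symm with h | h
        · exact Or.inl ⟨_, hbO, h.symm⟩
        · exact Or.inr ⟨_, hbO, h.symm⟩
      · rintro b (⟨a, ha, rfl⟩ | ⟨a, ha, rfl⟩)
        exacts [hgB a ha, hBz _ (hgB a ha)]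
    have hdis : Disjoint (g '' O) ((fun a => g a * z) '' O) := by
      rw [Set.disjoint_left]
      rintro _ ⟨a, ha, rfl⟩ ⟨b, hb, h⟩
      have hv := congrArg (vec π) h
      simp only at hv
      rw [vec_mul (hBO _ (hgB b hb)).1 D.z_mem, D.vec_z, add_zero, hgv a ha, hgv b hb] at hv
      subst hv
      exact D.z_ne (mul_eq_left.1 h)
    have hfO : O.Finite := by
      have : Finite V := hM.fin
      exact Set.toFinite O
    have h2 := Set.ncard_union_eq hdis (hfO.image _) (hfO.image _)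
    rw [← hU, hB32, hg.ncard_image, hg'.ncard_image] at h2
    omega
  have hK0 : (0 : V) ∈ kernelSet q (qSub B) (Rep.lin B Short.v0) := by
    simpa [vec_one] using N.vec_mem_kernel L (one_mem (oc z ⊓ oc u))
  have hKv : Rep.lin B Short.v0 ∈ kernelSet q (qSub B) (Rep.lin B Short.v0) := by
    rw [← N.vec_u]
    exact N.vec_u.symm ▸ N.vec_mem_kernel L ⟨N.conf.mem, LargeExtra.mem_oc_self (N.conf.setting D).ord⟩
  have hw0 : w ≠ 0 := fun h => hwK (h ▸ hK0)
  have hwv : w + Rep.lin B Short.v0 ≠ 0 := fun h => by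
    have : w = Rep.lin B Short.v0 := by
      calc w = w + Rep.lin B Short.v0 + Rep.lin B Short.v0 := by rw [add_assoc, D.two, add_zero]
        _ = Rep.lin B Short.v0 := by rw [h, zero_add]
    exact hwK (this ▸ hKv)
  have he' : e * u ∈ oc z := mul_mem he N.conf.mem
  have hvu : vec π (e * u) = w + Rep.lin B Short.v0 := by rw [vec_mul he N.conf.mem, N.vec_u]
  have hconj1 : IsConj z m ↔ IsConj z e := by
    have : IsConj m e := isConj_iff.2 ⟨s⁻¹, by rw [hedef, inv_inv]⟩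
    exact ⟨fun h => h.trans this, fun h => h.trans this.symm⟩
  have hconj2 : IsConj z (m * z) ↔ IsConj z (e * u) := by
    have : IsConj (m * z) (e * u) := isConj_iff.2 ⟨s⁻¹, by rw [hedef, ← hs2', inv_inv]; group⟩
    exact ⟨fun h => h.trans this, fun h => h.trans this.symm⟩
  rcases hM.one_translate hwp hwq hwK hO with ⟨h1, h2⟩ | ⟨h1, h2⟩
  · refine Or.inl ⟨hconj1.2 (N.isConj_of_reach he h1 hw0), fun h => ?_⟩
    obtain ⟨δ, hδ, hv⟩ := exists_reach_of_conj D L he'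
      (fun h' => hwv (by rw [← hvu, h', D.vec_z])) (hconj2.1 h)
    exact h2 δ hδ (by rw [← hvu]; exact hv)
  · refine Or.inr ⟨hconj2.2 (N.isConj_of_reach he' (by rw [hvu]; exact h1) (by rw [hvu]; exact hwv)), fun h => ?_⟩
    obtain ⟨δ, hδ, hv⟩ := exists_reach_of_conj D L he
      (fun h' => hw0 (by rw [hwdef, h', D.vec_z])) (hconj1.1 h)
    exact h2 δ hδ hv

/-- An element of order seven of `C_H(P)` without fixed points on `E` outside `⟨z⟩`, and an involution outside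
`C_H(P)` commuting with it, conjugate to `z`, whose product with `z` is not. -/
theorem exists_seven_invol (D : ActData z P π ρ q) (hM : Orbits.Model B ρ.range (gammaZero ρ) q)
    (L : LinFacts ρ.range (gammaZero ρ) q (Rep.lin B Short.v0) f₀ (qSub B)) {u₀ : G} (hc : Conf z u₀) :
    ∃ σ i : G, σ ∈ cSub z P ∧ orderOf σ = 7 ∧ (∀ e ∈ oc z, Commute σ e → e = 1 ∨ e = z) ∧
      i ∈ mSub z P ∧ i ∉ cSub z P ∧ i * i = 1 ∧ Commute σ i ∧ IsConj z i ∧ ¬ IsConj z (i * z) := by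
  obtain ⟨δ, hδ, γ, hγQ, hγ0, -, hcode, hcomm, h7, h1, hnofix⟩ := hM.exists_seven
  obtain ⟨u, N, hlift⟩ := exists_nconf_lift D L hc
  obtain ⟨m, hm, hmU, hact, hm2⟩ := hlift γ hγQ
  obtain ⟨c, hcC, hcδ⟩ := hδ
  have hc' : (c : G) ∈ cSub z P := mem_subgroupOf.1 hcC
  have hcact : act ρ (c : G) = δ := by rw [act_of_mem c.2, Subtype.coe_eta, hcδ]
  have hpow : ∀ n : ℕ, act ρ ((c : G) ^ n) = δ ^ n := by
    intro n
    induction n with
    | zero => rw [pow_zero, pow_zero, act_one]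
    | succ n ih => rw [pow_succ, pow_succ, act_mul ((mSub z P).pow_mem c.2 n) c.2, ih, hcact]
  obtain ⟨σ, hσdef⟩ : ∃ σ, σ = (c : G) ^ 8 := ⟨_, rfl⟩
  have hσC : σ ∈ cSub z P := hσdef ▸ pow_mem hc' 8
  have hσM := cSub_le_mSub z P hσC
  have hσact : act ρ σ = δ := by rw [hσdef, hpow, pow_succ, h7, one_mul]
  have hσ7 : σ ^ 7 = 1 := by
    rcases (D.act_eq_one ((mSub z P).pow_mem c.2 7)).1 (by rw [hpow, h7]) with h | h
    · rw [hσdef, ← pow_mul, mul_comm, pow_mul, h, one_pow]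
    · rw [hσdef, ← pow_mul, mul_comm, pow_mul, h, show (8 : ℕ) = 2 * 4 from rfl, pow_mul, pow_two, D.zz, one_pow]
  have hord : orderOf σ = 7 := by
    haveI : Fact (Nat.Prime 7) := ⟨by norm_num⟩
    exact orderOf_eq_prime hσ7 fun h => h1 (by rw [← hσact, h, act_one])
  have hfix : ∀ e ∈ oc z, Commute σ e → e = 1 ∨ e = z := by
    intro e he hce
    refine (D.vec_eq_zero he).1 (hnofix _ ?_)
    rw [← hσact, ← D.vec_conj hσM he, mul_inv_eq_iff_eq_mul.2 hce.eq]
  -- the lift commutes with the element of order seven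
  have hmσ : Commute σ m := by
    have h1' : act ρ (σ * m * σ⁻¹ * m⁻¹) = 1 := by
      rw [act_mul (mul_mem (mul_mem hσM hm) (inv_mem hσM)) (inv_mem hm),
        act_mul (mul_mem hσM hm) (inv_mem hσM), act_mul hσM hm, act_inv hσM, act_inv hm, hσact, hact, hcomm,
        mul_inv_cancel_right, mul_inv_cancel]
    rcases (D.act_eq_one (mul_mem (mul_mem (mul_mem hσM hm) (inv_mem hσM)) (inv_mem hm))).1 h1' with h | h
    · exact mul_inv_eq_iff_eq_mul.1 (mul_inv_eq_one.1 h)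
    · exfalso
      have e1 : m * σ⁻¹ * m⁻¹ = σ⁻¹ * z := by rw [← h]; group
      have e2 : (m * σ⁻¹ * m⁻¹) ^ 7 = (σ⁻¹ * z) ^ 7 := by rw [e1]
      rw [← MulAut.conj_apply, ← map_pow, inv_pow, hσ7, inv_one, map_one,
        (D.comm_z (inv_mem hσC.1)).mul_pow, inv_pow, hσ7, inv_one, one_mul, pow_succ,
        show (6 : ℕ) = 2 * 3 from rfl, pow_mul, pow_two z, D.zz, one_pow, one_mul] at e2
      exact D.z_ne e2.symm
  have hmC : m ∉ cSub z P := fun h => hγ0 (hact ▸ ⟨⟨m, hm⟩, mem_subgroupOf.2 h, (act_of_mem hm).symm⟩)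
  have hzM : z ∈ mSub z P := (D.inf_eq.ge (mem_zpowers z)).2
  have hmz : Commute m z := D.comm_z hm.1
  have hσz : Commute σ z := D.comm_z hσC.1
  rcases lift_cases D hM L N hγQ hγ0 hcode hm hmU hact hm2 with ⟨h, h'⟩ | ⟨h, h'⟩
  · exact ⟨σ, m, hσC, hord, hfix, hm, hmC, hm2, hmσ, h, h'⟩
  · refine ⟨σ, m * z, hσC, hord, hfix, mul_mem hm hzM, fun hh => hmC ?_, ?_, hmσ.mul_right hσz, h, ?_⟩
    · have hzC : z ∈ cSub z P :=
        ⟨mem_centralizer_singleton_iff.2 rfl, ((D.hJ.2.2.2.2.2.2.1).ge (mem_zpowers z)).2⟩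
      have := mul_mem hh hzC
      rwa [mul_assoc, D.zz, mul_one] at this
    · rw [hmz.symm.mul_mul_mul_comm, hm2, D.zz, one_mul]
    · rwa [mul_assoc, D.zz, mul_one]

end Cfsg.Agent.J4Type
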