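import Cfsg.Agent.J4Type.SevenQuot
import Cfsg.Agent.J4Type.SevenInv
import Cfsg.Agent.J4Type.CoverTheorem

/-!
# Elements of order seven in a simple group of Janko-four type

The data at an element of order seven, granted the structure of the centralisers of the involutions not
conjugate to `z`.
-/

set_option autoImplicit false

open Cfsg Subgroup

namespace Cfsg.Agent.J4Type

universe u

variable {G : Type u} [Group G] [Finite G] {z : G} {P : Subgroup G}

/-- The local structure at the subgroups of order seven of `C(z)`. -/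
theorem seven_structure [IsSimpleGroup G] (hG : ¬ IsMulCommutative G) (hJ : IsOfJankoFourTypeWith z P)
    (hcompl : ∀ y : G, orderOf y = 2 → ¬ IsConj z y → ∃ V K : Subgroup G, V ≤ centralizer ({y} : Set G) ∧
      K ≤ centralizer ({y} : Set G) ∧ centralizer ({y} : Set G) ≤ normalizer (V : Set G) ∧
      IsElementaryAbelian 2 V ∧ Nat.card ↥V = 2 ^ 11 ∧ K ⊓ V = ⊥ ∧ K ⊔ V = centralizer ({y} : Set G) ∧
      Nonempty (↥K ≃* MulAut ↥Spor.M22))
    (S : Subgroup G) (hS : Nat.card ↥S = 7) (hSz : S ≤ centralizer ({z} : Set G)) :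
    ¬ 49 ∣ Nat.card G ∧ SevenConcl S := by
  obtain ⟨B, hM⟩ := Orbits.exists_model_janko hJ
  obtain ⟨w, hc⟩ := exists_conf hG hJ
  have D := Base.actData hJ
  obtain ⟨σ, i, hσ, h7, hfix, hi, hiC, hi2, hσi, hiz, htn⟩ := exists_seven_invol D hM hM.linFacts hc
  obtain ⟨h84, h252, h14⟩ := seven_cards D hσ h7 hfix hi hiC hi2 hσi
  obtain ⟨-, -, -, -, hnorm⟩ := sixfold hG hJ
  obtain ⟨p, hp, hpo, hP⟩ := Base.exists_gen hJ
  have hp3 : p * p * p = 1 := Base.cube hJ hp
  have hp1 : p ≠ 1 := fun h => by rw [h, orderOf_one] at hpo; omega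
  have hσM := cSub_le_mSub z P hσ
  refine SevenData.local_structure
    (z := z) (p := p) (σ := σ) (i := i)
    { oz := hJ.1, o7 := h7, sz := D.comm_z hσ.1, si := hσi, iz := D.comm_z hi.1, p3 := hp3, p1 := hp1
      sp := (mem_centralizer_iff.1 hσ.2 p hp).symm
      pz := D.comm_z (Base.P_le hJ hp)
      pinv := ?_, i2 := hi2, iconj := hiz, tn := htn, card84 := h84, card252 := h252, pnorm := ?_, notdvd := ?_
      centp := ?_, cent7 := h14, compl := hcompl } S hS hSz
  · have h := D.inverts i hi hiC p hp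
    rwa [inv_eq_of_mul_eq_one_right hi2] at h
  · intro g hg
    have hgM : g ∈ mSub z P := norm_seven_le D hσ h7 hfix hg.1 (by
      rw [mul_inv_eq_iff_eq_mul.2 (mem_centralizer_singleton_iff.1 hg.2)]; exact mem_zpowers σ)
    rw [← hP]
    exact (mem_normalizer_iff.1 hgM.2 p).1 hp
  · rw [card_centralizer_z hJ]
    norm_num
  · intro g hg
    refine mem_centralizer_singleton_iff.1 (hnorm (centralizer_le_normalizer _ ?_))
    rw [hP, centralizer_zpowers_eq]
    exact mem_centralizer_singleton_iff.2 hg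

end Cfsg.Agent.J4Type
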