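import Cfsg.Agent.J4Type.Base
import Cfsg.Agent.ExtraPair.Basic

/-!
# An involution outside `E` with a large centraliser in `E` is conjugate into `C_H(P)`

If an involution `t ∈ H ∖ E` centralises at least `2⁹` elements of `E` and no element of `C_H(P)` outside `⟨z⟩`
squaring into `⟨z⟩` fixes more than `2⁹` elements of `E` modulo `⟨z⟩`, then `t` is `E`-conjugate into `C_H(P)`.
-/

set_option autoImplicit false

open Subgroup Cfsg

namespace Cfsg.Agent.J4Type

open Base

universe u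

variable {G : Type u} [Group G] [Finite G] {z : G} {P : Subgroup G}

/-- The elements of `E` fixed by `m` modulo the centre. -/
def fixModZ (z : G) (m : ↥(Hz z)) : Subgroup ↥(Ez z) where
  carrier := {a | cj z m a * a⁻¹ ∈ center ↥(Ez z)}
  one_mem' := by simp
  mul_mem' := fun {a b} ha hb => by
    show cj z m (a * b) * (a * b)⁻¹ ∈ center ↥(Ez z)
    rw [map_mul, show cj z m a * cj z m b * (a * b)⁻¹ = cj z m a * (cj z m b * b⁻¹) * a⁻¹ by group,
      mem_center_iff.1 hb (cj z m a), mul_assoc]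
    exact mul_mem hb ha
  inv_mem' := fun {a} ha => by
    show cj z m a⁻¹ * a⁻¹⁻¹ ∈ center ↥(Ez z)
    have h : cj z m a⁻¹ * a⁻¹⁻¹ = a⁻¹ * (cj z m a * a⁻¹)⁻¹ * a := by rw [map_inv]; group
    rw [h, mem_center_iff.1 (inv_mem ha) a⁻¹, inv_mul_cancel_right]
    exact inv_mem ha

theorem mem_fixModZ (hJ : IsOfJankoFourTypeWith z P) {m : ↥(Hz z)} {a : ↥(Ez z)} :
    a ∈ fixModZ z m ↔ (m : G) * a * (m : G)⁻¹ * (a : G)⁻¹ = 1 ∨
      (m : G) * a * (m : G)⁻¹ * (a : G)⁻¹ = z := by
  show cj z m a * a⁻¹ ∈ center ↥(Ez z) ↔ _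
  rw [center_Ez hJ, mem_zpowers_Ez hJ]
  rfl

/-- An involution of `H ∖ E` with a large centraliser in `E` is conjugate into `C_H(P)`. -/
theorem exists_conj_mem_cSub (hJ : IsOfJankoFourTypeWith z P)
    (hfix : ∀ m : ↥(Hz z), (m : G) ∈ CP z P → (m : G) ∉ zpowers z → (m : G) * m ∈ zpowers z →
      Nat.card (fixModZ z m) ≤ 2 ^ 9)
    {t : G} (ht : t ∈ Hz z) (htt : t * t = 1) (htE : t ∉ Ez z)
    (hlarge : 2 ^ 9 ≤ Nat.card ((centralizer ({t} : Set G)).subgroupOf (Ez z))) :
    ∃ e ∈ Ez z, e * t * e⁻¹ ∈ CP z P ∧ e * t * e⁻¹ ≠ z := by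
  classical
  obtain ⟨e, he, n, hn, rfl⟩ := mem_split hJ ht
  let m : ↥(Hz z) := ⟨n, hn.1⟩
  have hzc : ∀ a ∈ Ez z, a * z = z * a := fun a ha => mem_Hz.1 (Ez_le z ha)
  have hnz : n ∉ zpowers z := fun h => htE (mul_mem he (by
    rcases zpowers_cases hJ h with rfl | rfl
    · exact one_mem _
    · exact z_mem hJ))
  -- the square of `n`
  have hn2E : n * n ∈ Ez z := by
    have h1 : e * n * (e * n) = 1 := htt
    have h2 : n * n = (n * e * n⁻¹)⁻¹ * e⁻¹ := by
      calc n * n = (n * e * n⁻¹)⁻¹ * e⁻¹ * (e * n * (e * n)) := by group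
        _ = _ := by rw [h1, mul_one]
    rw [h2]
    exact mul_mem (inv_mem (Ez_conj hn.1 he)) (inv_mem he)
  have hn2 : n * n ∈ zpowers z := by
    rcases Ez_inter_NP hJ hn2E (mul_mem hn.2 hn.2) with h | h <;> rw [h]
    · exact one_mem _
    · exact mem_zpowers z
  -- the fixed points
  set S := (centralizer ({e * n} : Set G)).subgroupOf (Ez z) with hS
  set D := fixModZ z m with hD
  have hSD : S ≤ D := by
    intro s hs
    rw [hD, mem_fixModZ hJ]
    have h1 : (s : G) * (e * n) = e * n * s := mem_centralizer_singleton_iff.1 (mem_subgroupOf.1 hs)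
    have h2 : n * (s : G) * n⁻¹ * (s : G)⁻¹ = e⁻¹ * s * e * (s : G)⁻¹ := by
      calc n * (s : G) * n⁻¹ * (s : G)⁻¹ = e⁻¹ * (e * n * s) * n⁻¹ * (s : G)⁻¹ := by group
        _ = e⁻¹ * ((s : G) * (e * n)) * n⁻¹ * (s : G)⁻¹ := by rw [h1]
        _ = _ := by group
    show n * (s : G) * n⁻¹ * (s : G)⁻¹ = 1 ∨ n * (s : G) * n⁻¹ * (s : G)⁻¹ = z
    rw [h2]
    have := comm_cases hJ (inv_mem he) s.2
    rwa [inv_inv] at this
  obtain ⟨p, hp, hop, hP⟩ := exists_gen hJ
  let p' : ↥(Hz z) := ⟨p, P_le hJ hp⟩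
  -- elements fixed by `p` modulo the centre are central
  have hpfix : ∀ a : ↥(Ez z), cj z p' a * a⁻¹ ∈ center ↥(Ez z) → (a : G) = 1 ∨ (a : G) = z := by
    intro a ha
    refine mem_Ez_fix hJ a.2 (centralizer_of_gen hJ hP ?_)
    have h := (mem_fixModZ hJ (m := p') (a := a)).1 ha
    have h' : p * (a : G) * p⁻¹ * (a : G)⁻¹ = 1 ∨ p * (a : G) * p⁻¹ * (a : G)⁻¹ = z := h
    rcases h' with h1 | h1
    · exact (mul_inv_eq_iff_eq_mul.1 (mul_inv_eq_one.1 h1)).symm
    · exfalso
      have hpz : p * z = z * p := mem_Hz.1 (P_le hJ hp)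
      have e1 : p * (a : G) * p⁻¹ = z * a := mul_inv_eq_iff_eq_mul.1 h1
      have e2 : p * p * (a : G) * (p * p)⁻¹ = z * z * a := conj_sq hpz e1
      have e3 : p * p * p * (a : G) * (p * p * p)⁻¹ = z * a := by
        rw [zz hJ, one_mul] at e2
        calc p * p * p * (a : G) * (p * p * p)⁻¹ = p * (p * p * a * (p * p)⁻¹) * p⁻¹ := by group
          _ = z * a := by rw [e2, e1]
      rw [cube hJ hp, one_mul, inv_one, mul_one] at e3
      exact z_ne hJ (right_eq_mul.1 e3)
  -- `n` centralises `P`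
  have hnC : n ∈ CP z P := by
    by_contra hnC
    have hinv : n * p * n⁻¹ = p⁻¹ :=
      (conj_gen hJ hn hp hop hP).resolve_left fun h =>
        hnC ⟨hn.1, centralizer_of_gen hJ hP (mul_inv_eq_iff_eq_mul.1 h)⟩
    let D' := D.map (cj z p')
    have hinj : Function.Injective (cj z p') := fun a b h => by
      have := congrArg (fun w : ↥(Ez z) => (w : G)) h
      exact Subtype.ext (by simpa [cj] using this)
    have hinf : D ⊓ D' ≤ center ↥(Ez z) := by
      rintro a ⟨haD, b, hbD, rfl⟩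
      have hb : (b : G) = 1 ∨ (b : G) = z := by
        refine hpfix b ?_
        -- modulo the centre `p b ≡ m (p b) ≡ p⁻¹ (m b) ≡ p⁻¹ b`
        have q1 := (mem_fixModZ hJ).1 haD
        have q2 := (mem_fixModZ hJ).1 hbD
        have q1' : n * (p * (b : G) * p⁻¹) * n⁻¹ * (p * (b : G) * p⁻¹)⁻¹ ∈ zpowers z := by
          rcases q1 with h | h <;>
            · change n * (p * (b : G) * p⁻¹) * n⁻¹ * (p * (b : G) * p⁻¹)⁻¹ = _ at h
              rw [h]
              first | exact one_mem _ | exact mem_zpowers z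
        have q2' : n * (b : G) * n⁻¹ * (b : G)⁻¹ ∈ zpowers z := by
          rcases q2 with h | h <;>
            · change n * (b : G) * n⁻¹ * (b : G)⁻¹ = _ at h
              rw [h]
              first | exact one_mem _ | exact mem_zpowers z
        obtain ⟨c1, hc1, e1⟩ : ∃ c ∈ zpowers z, n * (p * (b : G) * p⁻¹) * n⁻¹ = c * (p * (b : G) * p⁻¹) :=
          ⟨_, q1', (inv_mul_cancel_right _ _).symm⟩
        obtain ⟨c2, hc2, e2⟩ : ∃ c ∈ zpowers z, n * (b : G) * n⁻¹ = c * b :=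
          ⟨_, q2', (inv_mul_cancel_right _ _).symm⟩
        have hcen : ∀ c ∈ zpowers z, ∀ g : G, g ∈ Hz z → g * c = c * g := fun c hc g hg => by
          obtain ⟨k, rfl⟩ := mem_zpowers_iff.1 hc
          exact comm_zpow hg k
        have e3 : c1 * (p * (b : G) * p⁻¹) = c2 * (p⁻¹ * b * p) := by
          rw [← e1]
          calc n * (p * (b : G) * p⁻¹) * n⁻¹
              = (n * p * n⁻¹) * (n * (b : G) * n⁻¹) * (n * p * n⁻¹)⁻¹ := by group
            _ = p⁻¹ * c2 * (b : G) * p := by rw [hinv, e2]; group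
            _ = c2 * p⁻¹ * (b : G) * p := by rw [hcen c2 hc2 p⁻¹ (inv_mem (P_le hJ hp))]
            _ = c2 * (p⁻¹ * b * p) := by group
        have e4 : p * (b : G) * p⁻¹ * (b : G)⁻¹ ∈ zpowers z := by
          have h5 : p * (p * (b : G) * p⁻¹) * p⁻¹ = c1⁻¹ * c2 * b := by
            have h6 : p * (b : G) * p⁻¹ = c1⁻¹ * c2 * (p⁻¹ * b * p) := by
              rw [mul_assoc c1⁻¹, ← e3, inv_mul_cancel_left]
            rw [h6, show p * (c1⁻¹ * c2 * (p⁻¹ * (b : G) * p)) * p⁻¹ =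
              p * (c1⁻¹ * c2) * (p⁻¹ * (b : G)) by group,
              hcen _ (mul_mem (inv_mem hc1) hc2) p (P_le hJ hp)]
            group
          have hc : c1⁻¹ * c2 ∈ zpowers z := mul_mem (inv_mem hc1) hc2
          set c := c1⁻¹ * c2
          have hpc : p * c = c * p := hcen c hc p (P_le hJ hp)
          have h7 : (b : G) = c * (p * (b : G) * p⁻¹) := by
            calc (b : G) = p * p * p * b * (p * p * p)⁻¹ := by rw [cube hJ hp]; group
              _ = p * (p * (p * (b : G) * p⁻¹) * p⁻¹) * p⁻¹ := by group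
              _ = p * (c * b) * p⁻¹ := by rw [h5]
              _ = p * c * (b : G) * p⁻¹ := by group
              _ = c * p * (b : G) * p⁻¹ := by rw [hpc]
              _ = c * (p * (b : G) * p⁻¹) := by group
          have h8 : p * (b : G) * p⁻¹ * (b : G)⁻¹ = c⁻¹ := by
            have h9 : p * (b : G) * p⁻¹ = c⁻¹ * b := eq_inv_mul_iff_mul_eq.2 h7.symm
            rw [h9, mul_inv_cancel_right]
          rw [h8]
          exact inv_mem hc
        show cj z p' b * b⁻¹ ∈ center ↥(Ez z)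
        rw [center_Ez hJ, mem_zpowers_Ez hJ]
        exact zpowers_cases hJ e4
      rw [center_Ez hJ, mem_zpowers_Ez hJ]
      show p * (b : G) * p⁻¹ = 1 ∨ p * (b : G) * p⁻¹ = z
      rcases hb with h | h <;> rw [h]
      · left; group
      · right; rw [mem_Hz.1 (P_le hJ hp), mul_inv_cancel_right]
    have hcard : Nat.card ↥(Ez z) = 2 ^ 13 := hJ.2.2.1
    have h1 : Nat.card (D ⊓ D' : Subgroup ↥(Ez z)) ≤ 2 := by
      refine le_trans (card_le_of_le hinf) ?_
      rw [hJ.2.1.2]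
    have h2 := Subgroup.index_inf_le (H := D) (K := D')
    have h3 := (D ⊓ D').card_mul_index
    have h4 := D.card_mul_index
    have h5 := D'.card_mul_index
    have h6 : Nat.card D' = Nat.card D := Subgroup.card_map_of_injective hinj
    have h7 : 2 ^ 9 ≤ Nat.card D := hlarge.trans (card_le_of_le hSD)
    rw [hcard] at h3 h4 h5
    rw [h6] at h5
    have h8 : D.index ≤ 16 := by nlinarith
    have h9 : D'.index ≤ 16 := by nlinarith
    nlinarith
  -- the centraliser is the whole fixed space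
  have hSeq : S = D := Subgroup.eq_of_le_of_card_ge hSD ((hfix m hnC hnz hn2).trans hlarge)
  -- the fixed space is centralised by `n`
  have hcomm : ∀ d ∈ D, n * (d : G) = (d : G) * n := by
    intro d hd
    have hnp : n * p = p * n := (mem_centralizer_iff.1 hnC.2 p hp).symm
    set d1 : ↥(Ez z) := cj z p' d with hd1
    set d2 : ↥(Ez z) := cj z p' d1 with hd2
    set x : ↥(Ez z) := d * d1 * d2 with hx
    obtain ⟨c, hc, hcd⟩ : ∃ c, (c = 1 ∨ c = z) ∧ n * (d : G) * n⁻¹ = c * d :=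
      ⟨_, (mem_fixModZ hJ).1 hd, (inv_mul_cancel_right _ _).symm⟩
    have hcc : ∀ g ∈ Hz z, g * c = c * g := fun g hg => by
      rcases hc with rfl | rfl
      · simp
      · exact mem_Hz.1 hg
    have e1 : n * (d1 : G) * n⁻¹ = c * d1 := by
      show n * (p * (d : G) * p⁻¹) * n⁻¹ = c * (p * (d : G) * p⁻¹)
      calc n * (p * (d : G) * p⁻¹) * n⁻¹ = (n * p) * (d : G) * (n * p)⁻¹ := by group
        _ = (p * n) * (d : G) * (p * n)⁻¹ := by rw [hnp]
        _ = p * (c * d) * p⁻¹ := by rw [← hcd]; group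
        _ = p * c * (d : G) * p⁻¹ := by group
        _ = c * (p * (d : G) * p⁻¹) := by rw [hcc p (P_le hJ hp)]; group
    have e2 : n * (d2 : G) * n⁻¹ = c * d2 := by
      show n * (p * (d1 : G) * p⁻¹) * n⁻¹ = c * (p * (d1 : G) * p⁻¹)
      calc n * (p * (d1 : G) * p⁻¹) * n⁻¹ = (n * p) * (d1 : G) * (n * p)⁻¹ := by group
        _ = (p * n) * (d1 : G) * (p * n)⁻¹ := by rw [hnp]
        _ = p * (c * d1) * p⁻¹ := by rw [← e1]; group
        _ = p * c * (d1 : G) * p⁻¹ := by group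
        _ = c * (p * (d1 : G) * p⁻¹) := by rw [hcc p (P_le hJ hp)]; group
    -- `x` is fixed by `p` modulo the centre
    have hxz : (x : G) = 1 ∨ (x : G) = z := by
      refine hpfix x ?_
      let θ : ↥(Ez z) →* ↥(Ez z) ⧸ center ↥(Ez z) := QuotientGroup.mk' _
      have hθ : ∀ a b, θ a * θ b = θ b * θ a := by
        intro a b
        refine commutatorElement_eq_one_iff_mul_comm.1 ?_
        rw [← map_commutatorElement]
        refine (QuotientGroup.eq_one_iff _).2 ?_
        rw [← hJ.2.1.1.2.2]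
        exact Subgroup.commutator_mem_commutator (mem_top a) (mem_top b)
      have e3 : cj z p' d2 = d := Subtype.ext (by
        show p * (p * (p * (d : G) * p⁻¹) * p⁻¹) * p⁻¹ = d
        calc p * (p * (p * (d : G) * p⁻¹) * p⁻¹) * p⁻¹ = p * p * p * (d : G) * (p * p * p)⁻¹ := by group
          _ = d := by rw [cube hJ hp]; group)
      refine (QuotientGroup.eq_one_iff _).1 ?_
      show θ (cj z p' x * x⁻¹) = 1
      have e6 : cj z p' x = d1 * d2 * d := by rw [hx, map_mul, map_mul, ← hd1, ← hd2, e3]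
      rw [map_mul θ, map_inv, mul_inv_eq_one, e6, map_mul θ (d1 * d2) d, hθ, ← map_mul, hx, mul_assoc]
    have e4 : n * (x : G) * n⁻¹ = x := by
      rcases hxz with h | h <;> rw [h]
      · group
      · rw [mem_Hz.1 hn.1, mul_inv_cancel_right]
    have e5 : n * (x : G) * n⁻¹ = c * c * c * x := by
      show n * ((d : G) * d1 * d2) * n⁻¹ = c * c * c * ((d : G) * d1 * d2)
      calc n * ((d : G) * d1 * d2) * n⁻¹
          = (n * (d : G) * n⁻¹) * (n * (d1 : G) * n⁻¹) * (n * (d2 : G) * n⁻¹) := by group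
        _ = c * ((d : G) * c) * d1 * (c * d2) := by rw [hcd, e1, e2]; group
        _ = c * c * ((d : G) * d1 * c) * d2 := by rw [hcc d (Ez_le z d.2)]; group
        _ = _ := by
          rw [hcc _ (mul_mem (Ez_le z d.2) (Ez_le z d1.2))]; group
    rw [e4, right_eq_mul] at e5
    have hc1 : c = 1 := hc.resolve_right fun h => by
      rw [h, zz hJ, one_mul] at e5
      exact z_ne hJ e5
    rw [hc1, one_mul] at hcd
    exact mul_inv_eq_iff_eq_mul.1 hcd
  -- `e` is a commutator with `n`, modulo the centre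
  have hcjcj : ∀ y, cj z m (cj z m y) = y := fun y => Subtype.ext (by
    show n * (n * (y : G) * n⁻¹) * n⁻¹ = y
    obtain ⟨k, hk⟩ := mem_zpowers_iff.1 hn2
    calc n * (n * (y : G) * n⁻¹) * n⁻¹ = n * n * y * (n * n)⁻¹ := by group
      _ = y := by rw [← hk, ← comm_zpow (Ez_le z y.2) k, mul_inv_cancel_right])
  have hmem : (⟨e, he⟩ : ↥(Ez z)) ∈ closure (Set.range fun q => cj z m q * q⁻¹) := by
    have hne : ∃ y, cj z m y ≠ y := by
      by_contra hall
      push Not at hall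
      have hcent : n ∈ Ez z := hJ.2.2.2.1 ⟨hn.1, mem_centralizer_iff.2 fun q hq => by
        have h := congrArg (fun w : ↥(Ez z) => (w : G)) (hall ⟨q, hq⟩)
        exact (mul_inv_eq_iff_eq_mul.1 h).symm⟩
      exact htE (mul_mem he hcent)
    refine (ExtraPair.closure_eq_center hJ.2.1 (cj z m) hcjcj hne _).2 ⟨?_, fun q hq => ?_⟩
    · rw [center_Ez hJ, mem_zpowers_Ez hJ]
      show n * e * n⁻¹ * e⁻¹ = 1 ∨ n * e * n⁻¹ * e⁻¹ = z
      have h1 : n * e * n⁻¹ = e⁻¹ * (n * n)⁻¹ := by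
        have h2 : e * n * (e * n) = 1 := htt
        calc n * e * n⁻¹ = e⁻¹ * (e * n * (e * n)) * (n * n)⁻¹ := by group
          _ = _ := by rw [h2, mul_one]
      obtain ⟨k, hk⟩ := mem_zpowers_iff.1 hn2
      have h3 : n * e * n⁻¹ * e⁻¹ = (e * e)⁻¹ * (z ^ k)⁻¹ := by
        have hc := comm_zpow (inv_mem (Ez_le z he)) (-k)
        rw [zpow_neg] at hc
        rw [h1, ← hk, mul_assoc, ← hc, ← mul_assoc, mul_inv_rev]
      rw [h3]
      refine zpowers_cases hJ (mul_mem (inv_mem ?_) (inv_mem (zpow_mem_zpowers z k)))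
      rcases sq_cases hJ he with h | h <;> rw [h]
      · exact one_mem _
      · exact mem_zpowers z
    · have hqD : q ∈ D := hq
      have h1 : (q : G) * (e * n) = e * n * q :=
        mem_centralizer_singleton_iff.1 (mem_subgroupOf.1 (hSeq.ge hqD :))
      refine Subtype.ext ?_
      show (q : G) * e = e * q
      calc (q : G) * e = (q : G) * (e * n) * n⁻¹ := by group
        _ = e * (n * q) * n⁻¹ := by rw [h1]; group
        _ = e * q := by rw [hcomm q hqD]; group
  obtain ⟨a, c, hc, hac⟩ : ∃ (a : ↥(Ez z)) (c : G), (c = 1 ∨ c = z) ∧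
      e = n * (a : G) * n⁻¹ * (a : G)⁻¹ * c := by
    have key : ∀ w ∈ closure (Set.range fun q => cj z m q * q⁻¹),
        ∃ a : ↥(Ez z), (cj z m a * a⁻¹)⁻¹ * w ∈ center ↥(Ez z) := by
      let θ : ↥(Ez z) →* ↥(Ez z) ⧸ center ↥(Ez z) := QuotientGroup.mk' _
      have hθ : ∀ a b, θ a * θ b = θ b * θ a := by
        intro a b
        refine commutatorElement_eq_one_iff_mul_comm.1 ?_
        rw [← map_commutatorElement]
        refine (QuotientGroup.eq_one_iff _).2 ?_
        rw [← hJ.2.1.1.2.2]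
        exact Subgroup.commutator_mem_commutator (mem_top a) (mem_top b)
      let Φ : ↥(Ez z) →* ↥(Ez z) ⧸ center ↥(Ez z) :=
        MonoidHom.mk' (fun a => θ (cj z m a * a⁻¹)) fun a b => by
          simp only [map_mul, map_inv, mul_inv_rev]
          rw [mul_assoc, ← mul_assoc (θ (cj z m b)), ← map_inv θ a, ← map_inv θ b,
            ← map_mul θ (cj z m b) b⁻¹, hθ (cj z m b * b⁻¹) a⁻¹, ← mul_assoc]
      intro w hw
      have hle : closure (Set.range fun q => cj z m q * q⁻¹) ≤ Φ.range.comap θ := by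
        rw [closure_le]
        rintro _ ⟨q, rfl⟩
        exact ⟨q, rfl⟩
      obtain ⟨a, ha⟩ := hle hw
      exact ⟨a, (QuotientGroup.eq).1 ha⟩
    obtain ⟨a, ha⟩ := key _ hmem
    rw [center_Ez hJ, mem_zpowers_Ez hJ] at ha
    refine ⟨a, _, ha, ?_⟩
    show e = n * (a : G) * n⁻¹ * (a : G)⁻¹ * ((n * (a : G) * n⁻¹ * (a : G)⁻¹)⁻¹ * e)
    rw [mul_inv_cancel_left]
  refine ⟨a, a.2, ?_⟩
  have hcH : ∀ g ∈ Hz z, g * c = c * g := fun g hg => by
    rcases hc with rfl | rfl
    · simp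
    · exact mem_Hz.1 hg
  obtain ⟨d, hd, hdd⟩ : ∃ d, (d = 1 ∨ d = z) ∧
      (a : G) * (n * (a : G) * n⁻¹ * (a : G)⁻¹) * (a : G)⁻¹ = d * (n * (a : G) * n⁻¹ * (a : G)⁻¹) := by
    have hv : n * (a : G) * n⁻¹ * (a : G)⁻¹ ∈ Ez z := mul_mem (Ez_conj hn.1 a.2) (inv_mem a.2)
    exact ⟨_, comm_cases hJ a.2 hv, (inv_mul_cancel_right _ _).symm⟩
  have hfin : (a : G) * (e * n) * (a : G)⁻¹ = d * c * n := by
    calc (a : G) * (e * n) * (a : G)⁻¹
        = (a : G) * (n * (a : G) * n⁻¹ * (a : G)⁻¹) * (c * n) * (a : G)⁻¹ := by rw [hac]; group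
      _ = (a : G) * (n * (a : G) * n⁻¹ * (a : G)⁻¹) * (a : G)⁻¹ * ((a : G) * c) * n * (a : G)⁻¹ := by group
      _ = d * (n * (a : G) * n⁻¹ * (a : G)⁻¹) * c * ((a : G) * n * (a : G)⁻¹) := by
          rw [hdd, hcH _ (Ez_le z a.2)]; group
      _ = d * ((n * (a : G) * n⁻¹ * (a : G)⁻¹) * c) * ((a : G) * n * (a : G)⁻¹) := by group
      _ = d * c * n := by
          rw [hcH _ (mul_mem (mul_mem (mul_mem hn.1 (Ez_le z a.2)) (inv_mem hn.1))
            (inv_mem (Ez_le z a.2)))]
          group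
  refine ⟨?_, fun h => ?_⟩
  · rw [hfin]
    refine mul_mem (mul_mem ?_ ?_) hnC
    · rcases hd with rfl | rfl
      · exact one_mem _
      · exact z_mem_CP hJ
    · rcases hc with rfl | rfl
      · exact one_mem _
      · exact z_mem_CP hJ
  · apply htE
    have e1 : e * n = (a : G)⁻¹ * z * a := by
      calc e * n = (a : G)⁻¹ * ((a : G) * (e * n) * (a : G)⁻¹) * a := by group
        _ = _ := congrArg (fun w => (a : G)⁻¹ * w * (a : G)) h
    rw [e1, mul_assoc, ← hzc a a.2, inv_mul_cancel_left]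
    exact z_mem hJ

end Cfsg.Agent.J4Type
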