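import Cfsg.Agent.J4Type.Split

/-!
# `C_H(P)` is perfect

If not, it contains a complement to `⟨z⟩`, and then an element of order four modulo `O₂` of the
stabiliser of `u` centralises more of `O₂(C(u)) ∩ C(z)` than any such element centralises of `C_E(u)`,
although an element exchanging `z` and `u` exchanges the two groups.
-/

set_option autoImplicit false

open Cfsg Subgroup

namespace Cfsg.Agent.J4Type

open LargeExtra (oc oc_le oc_conj_mem conj_mem_oc Setting)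

variable {G : Type*} [Group G] [Finite G] {z : G} {P : Subgroup G} {V : Type*} [AddCommGroup V]
  {π : ↥(oc z) →* Multiplicative V} {ρ : ↥(mSub z P) →* Equiv.Perm V} {q : V → ZMod 2}
  {v₀ f₀ : V} {Q₀ : Subgroup (Equiv.Perm V)}

variable (D : ActData z P π ρ q) (L : LinFacts ρ.range (gammaZero ρ) q v₀ f₀ Q₀)
include D L

theorem comm_image {γ : Equiv.Perm V} (hγ : γ ∈ gammaZero ρ) :
    ∃ c ∈ ⁅cSub z P, cSub z P⁆, act ρ c = γ := by
  set C' := (cSub z P).subgroupOf (mSub z P) with hC'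
  have h1 : γ ∈ (⁅C', C'⁆).map ρ := by
    rw [map_commutator]
    exact L.perfect.ge hγ
  obtain ⟨c, hc, rfl⟩ := h1
  refine ⟨(c : G), ?_, act_of_mem c.2⟩
  have h2 : (c : G) ∈ (⁅C', C'⁆).map (mSub z P).subtype := ⟨c, hc, rfl⟩
  rwa [map_commutator, hC', subgroupOf_map_subtype, inf_eq_left.2 (cSub_le_mSub z P)] at h2

omit L in
theorem comm_le : ⁅cSub z P, cSub z P⁆ ≤ cSub z P :=
  commutator_le.2 fun _ ha _ hb =>
    (cSub z P).mul_mem ((cSub z P).mul_mem ((cSub z P).mul_mem ha hb) ((cSub z P).inv_mem ha))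
      ((cSub z P).inv_mem hb)

omit L in
theorem comm_conj {m c : G} (hm : m ∈ mSub z P) (hc : c ∈ ⁅cSub z P, cSub z P⁆) :
    m * c * m⁻¹ ∈ ⁅cSub z P, cSub z P⁆ := by
  have hn : (cSub z P).map (MulAut.conj m).toMonoidHom ≤ cSub z P := by
    rintro _ ⟨d, hd, rfl⟩
    refine ⟨(centralizer ({z} : Set G)).mul_mem ((centralizer ({z} : Set G)).mul_mem hm.1 hd.1)
      ((centralizer ({z} : Set G)).inv_mem hm.1), mem_centralizer_iff.2 fun p hp => ?_⟩
    have hp' : m⁻¹ * p * m ∈ P := by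
      have := (mem_normalizer_iff.1 (inv_mem hm.2) p).1 hp
      rwa [inv_inv] at this
    have h := mem_centralizer_iff.1 hd.2 _ hp'
    show p * (m * d * m⁻¹) = m * d * m⁻¹ * p
    calc p * (m * d * m⁻¹) = m * (m⁻¹ * p * m * d) * m⁻¹ := by group
      _ = m * (d * (m⁻¹ * p * m)) * m⁻¹ := by rw [h]
      _ = m * d * m⁻¹ * p := by group
  have h := mem_map_of_mem (MulAut.conj m).toMonoidHom hc
  rw [map_commutator] at h
  exact commutator_mono hn hn h

namespace NConf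

variable {u : G} {D} (N : NConf D v₀ Q₀ u) {F : G}
  (hF : F ∈ oc z) (hsplit : ∀ x ∈ xSub z u, trans π P (F * x * F⁻¹) ∈ kernelSet q Q₀ v₀ ∧
    lin ρ (F * x * F⁻¹) = lin ρ x)
include N hF hsplit

/-- All elements of the split group lie in the conjugate of `X`. -/
theorem mem_split {k m : G} (hk : k ∈ oc z) (hkv : vec π k ∈ kernelSet q Q₀ v₀)
    (hm : m ∈ mSub z P) (hmQ : act ρ m ∈ Q₀) : F⁻¹ * (k * m) * F ∈ xSub z u := by
  obtain ⟨x, hx, hxl⟩ := N.exists_x hmQ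
  obtain ⟨hk', hl'⟩ := hsplit x hx
  have hH : F * x * F⁻¹ ∈ centralizer ({z} : Set G) :=
    mul_mem (mul_mem (oc_le z hF) hx.2) (inv_mem (oc_le z hF))
  obtain ⟨e, he, n, hn, hen, h1, h2⟩ := D.exists_parts hH
  rw [h2] at hk'
  have he' : e ∈ oc z ⊓ oc u := (N.mem_inter_iff L he).2 hk'
  have hkK : k ∈ oc z ⊓ oc u := (N.mem_inter_iff L hk).2 hkv
  have hzK : z ∈ oc z ⊓ oc u := ⟨D.z_mem, N.conf.z_mem D⟩
  have hmn : k * m * (e * n)⁻¹ ∈ oc z ⊓ oc u := by
    have h3 : act ρ (m * n⁻¹) = 1 := by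
      rw [act_mul hm (inv_mem hn), act_inv hn, ← h1, hl', hxl, mul_inv_cancel]
    have h4 : m * n⁻¹ ∈ oc z ⊓ oc u := by
      rcases (D.act_eq_one ((mSub z P).mul_mem hm ((mSub z P).inv_mem hn))).1 h3 with h | h <;>
        rw [h]
      exacts [one_mem _, hzK]
    rw [show k * m * (e * n)⁻¹ = k * (m * n⁻¹) * e⁻¹ by group]
    exact mul_mem (mul_mem hkK h4) (inv_mem he')
  have hconj : F⁻¹ * (k * m * (e * n)⁻¹) * F ∈ oc z ⊓ oc u := by
    rcases D.comm_cases (inv_mem hF) hmn.1 with h | h <;> rw [inv_inv] at h <;> rw [h]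
    exacts [hmn, mul_mem hmn hzK]
  have heq : F⁻¹ * (k * m) * F = F⁻¹ * (k * m * (e * n)⁻¹) * F * x := by
    rw [← hen]; group
  rw [heq]
  exact mul_mem (N.conf.inter_le_xSub D hconj) hx

end NConf

/-- The counting in `X`. -/
theorem card_centralizer {u F a : G} (N : NConf D v₀ Q₀ u) (hF : F ∈ oc z)
    (hsplit : ∀ x ∈ xSub z u, trans π P (F * x * F⁻¹) ∈ kernelSet q Q₀ v₀ ∧
      lin ρ (F * x * F⁻¹) = lin ρ x)
    (hz : z ∉ ⁅cSub z P, cSub z P⁆) (ha : a ∈ ⁅cSub z P, cSub z P⁆)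
    (hW : 32 ≤ {x : V × Equiv.Perm V | x.1 ∈ kernelSet q Q₀ v₀ ∧ x.2 ∈ Q₀ ∧ act ρ a x.1 = x.1 ∧
      act ρ a * x.2 = x.2 * act ρ a}.ncard) :
    64 ≤ {x : G | x ∈ xSub z u ∧ Commute x (F⁻¹ * a * F)}.ncard := by
  have haC := comm_le D ha
  have haM := cSub_le_mSub z P haC
  set W := {x : V × Equiv.Perm V | x.1 ∈ kernelSet q Q₀ v₀ ∧ x.2 ∈ Q₀ ∧ act ρ a x.1 = x.1 ∧
    act ρ a * x.2 = x.2 * act ρ a} with hWdef
  choose kf hkf hkv using D.exists_vec
  have hmf : ∀ γ : Equiv.Perm V, ∃ m ∈ mSub z P, γ ∈ Q₀ → act ρ m = γ := by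
    intro γ
    by_cases hγ : γ ∈ Q₀
    · obtain ⟨⟨m, hm⟩, he⟩ := L.Q_le hγ
      exact ⟨m, hm, fun _ => by rw [act_of_mem hm, he]⟩
    · exact ⟨1, one_mem _, fun h => absurd h hγ⟩
  choose mf hmf hmv using hmf
  let zb : Bool → G := fun b => if b then z else 1
  have hzb : ∀ b, zb b ∈ oc z ∧ vec π (zb b) = 0 ∧ ∀ y ∈ centralizer ({z} : Set G), Commute (zb b) y := by
    intro b
    rcases b with _ | _
    · exact ⟨one_mem _, vec_one, fun y _ => Commute.one_left y⟩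
    · exact ⟨D.z_mem, D.vec_z, fun y hy => (D.comm_z hy).symm⟩
  let f : (V × Equiv.Perm V) × Bool → G :=
    fun w => F⁻¹ * (kf w.1.1 * zb w.2 * mf w.1.2) * F
  have hkzv : ∀ v b, vec π (kf v * zb b) = v := fun v b => by
    rw [vec_mul (hkf v) (hzb b).1, hkv, (hzb b).2.1, add_zero]
  have himg : ∀ w ∈ W ×ˢ (Set.univ : Set Bool), f w ∈ {x : G | x ∈ xSub z u ∧ Commute x (F⁻¹ * a * F)} := by
    rintro ⟨⟨v, γ⟩, b⟩ ⟨⟨hv, hγ, hfix, hcom⟩, -⟩
    refine ⟨N.mem_split L hF hsplit (mul_mem (hkf v) (hzb b).1) (by rw [hkzv]; exact hv) (hmf γ)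
      (by rw [hmv γ hγ]; exact hγ), ?_⟩
    -- `a` commutes with the three factors
    have h1 : Commute a (kf v) :=
      D.commute_of_fix haM (hkf v) (by rw [hkv]; exact hfix) (Or.inl haC)
    have h2 : Commute a (mf γ) := by
      have hb : act ρ (a * mf γ * a⁻¹ * (mf γ)⁻¹) = 1 := by
        rw [act_mul ((mSub z P).mul_mem ((mSub z P).mul_mem haM (hmf γ)) ((mSub z P).inv_mem haM))
          ((mSub z P).inv_mem (hmf γ)), act_mul ((mSub z P).mul_mem haM (hmf γ))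
          ((mSub z P).inv_mem haM), act_mul haM (hmf γ), act_inv haM, act_inv (hmf γ), hmv γ hγ,
          hcom, mul_inv_cancel_right, mul_inv_cancel]
      have hmem : a * mf γ * a⁻¹ * (mf γ)⁻¹ ∈ ⁅cSub z P, cSub z P⁆ := by
        rw [show a * mf γ * a⁻¹ * (mf γ)⁻¹ = a * (mf γ * a⁻¹ * (mf γ)⁻¹) by group]
        exact mul_mem ha (comm_conj D (hmf γ) (inv_mem ha))
      rcases (D.act_eq_one (cSub_le_mSub z P (comm_le D hmem))).1 hb with h | h
      · exact mul_inv_eq_iff_eq_mul.1 (mul_inv_eq_one.1 h)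
      · exact absurd (h ▸ hmem) hz
    have h3 : Commute a (kf v * zb b * mf γ) :=
      (h1.mul_right ((hzb b).2.2 a haM.1).symm).mul_right h2
    show F⁻¹ * (kf v * zb b * mf γ) * F * (F⁻¹ * a * F) = F⁻¹ * a * F * (F⁻¹ * (kf v * zb b * mf γ) * F)
    calc _ = F⁻¹ * ((kf v * zb b * mf γ) * a) * F := by group
      _ = F⁻¹ * (a * (kf v * zb b * mf γ)) * F := by rw [h3.eq]
      _ = _ := by group
  have hinj : Set.InjOn f (W ×ˢ (Set.univ : Set Bool)) := by
    rintro ⟨⟨v, γ⟩, b⟩ ⟨⟨-, hγ, -, -⟩, -⟩ ⟨⟨v', γ'⟩, b'⟩ ⟨⟨-, hγ', -, -⟩, -⟩ heq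
    have heq' : kf v * zb b * mf γ = kf v' * zb b' * mf γ' := mul_left_cancel (mul_right_cancel heq)
    have h1 := D.parts (mul_mem (hkf v) (hzb b).1) (hmf γ)
    have h2 := D.parts (mul_mem (hkf v') (hzb b').1) (hmf γ')
    rw [heq', h2.1, h2.2, hkzv, hkzv, hmv γ hγ, hmv γ' hγ'] at h1
    obtain rfl := h1.1
    obtain rfl := h1.2
    have h3 := mul_left_cancel (mul_right_cancel heq')
    rcases b with _ | _ <;> rcases b' with _ | _
    · rfl
    · exact absurd h3.symm D.z_ne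
    · exact absurd h3 D.z_ne
    · rfl
  have : Finite G := inferInstance
  calc 64 ≤ W.ncard * 2 := by omega
    _ = (W ×ˢ (Set.univ : Set Bool)).ncard := by rw [Set.ncard_prod]; simp [Set.ncard_univ]
    _ ≤ _ := Set.ncard_le_ncard_of_injOn f himg hinj (Set.toFinite _)

/-- `z` lies in the commutator subgroup of `C_H(P)`. -/
theorem mem_commutator {u : G} (hc : Conf z u) : z ∈ ⁅cSub z P, cSub z P⁆ := by
  by_contra hz
  obtain ⟨u, N⟩ := exists_nconf L D hc
  have : Finite V := Finite.of_surjective _ (Multiplicative.toAdd.surjective.comp D.surj)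
  obtain ⟨F, hF, hsplit⟩ := N.split L
  obtain ⟨α, hα0, hαv, hα2, hW⟩ := L.witness
  obtain ⟨a, ha, rfl⟩ := comm_image D L hα0
  have haC := comm_le D ha
  have haM := cSub_le_mSub z P haC
  have hFH := oc_le z hF
  set a' := F⁻¹ * a * F with ha'
  have ha'H : a' ∈ centralizer ({z} : Set G) := mul_mem (mul_mem (inv_mem hFH) haM.1) hFH
  have hau : Commute a u := N.commute_lift L haM hαv
  have ha'u : Commute a' u := by
    have hua : Commute a (F * u * F⁻¹) := by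
      rcases D.comm_cases hF N.conf.mem with h | h <;> rw [h]
      · exact hau
      · exact hau.mul_right (D.comm_z haM.1)
    show F⁻¹ * a * F * u = u * (F⁻¹ * a * F)
    calc _ = F⁻¹ * (a * (F * u * F⁻¹)) * F := by group
      _ = F⁻¹ * ((F * u * F⁻¹) * a) * F := by rw [hua.eq]
      _ = _ := by group
  have hcard := card_centralizer D L N hF hsplit hz ha hW
  obtain ⟨s, hs1, hs2⟩ := N.conf.swap D
  set b := s * a' * s⁻¹ with hb
  have hbH : b ∈ centralizer ({z} : Set G) := mem_centralizer_singleton_iff.2 (by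
    calc b * z = s * (a' * u) * s⁻¹ := by rw [← hs2, hb]; group
      _ = s * (u * a') * s⁻¹ := by rw [ha'u.eq]
      _ = z * b := by rw [← hs2, hb]; group)
  have hbu : Commute b u := by
    show b * u = u * b
    calc b * u = s * (a' * z) * s⁻¹ := by rw [← hs1, hb]; group
      _ = s * (z * a') * s⁻¹ := by rw [(D.comm_z ha'H).eq]
      _ = u * b := by rw [← hs1, hb]; group
  set β := lin ρ b with hβ
  have hβv : β v₀ = v₀ := by
    rw [← N.vec_u, hβ, ← D.vec_conj_lin hbH N.conf.mem, mul_inv_eq_iff_eq_mul.2 hbu.eq]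
  have hβ2 : β * β ∉ Q₀ := by
    intro hmem
    obtain ⟨x, hx, hxl⟩ := N.exists_x hmem
    apply hα2
    have hbb : b * b ∈ centralizer ({z} : Set G) := mul_mem hbH hbH
    have hxi : x⁻¹ * (b * b) ∈ oc z := (D.lin_eq_one (mul_mem (inv_mem hx.2) hbb)).1 (by
      rw [(D.lin_mul (inv_mem hx.2) hbb).1, D.lin_inv hx.2, hxl, (D.lin_mul hbH hbH).1,
        inv_mul_cancel])
    set e := x⁻¹ * (b * b) with he
    have heu : Commute e u :=
      ((N.commute_u hx.1).inv_left).mul_left (hbu.mul_left hbu)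
    -- conjugate back by `s`
    have hy1 : s⁻¹ * x * s ∈ oc z := by
      have h := conj_mem_oc (g := s⁻¹) hx.1
      rwa [inv_inv, show s⁻¹ * u * s = z by rw [← hs1]; group] at h
    have hy2 : s⁻¹ * e * s ∈ oc u := by
      have h := conj_mem_oc (g := s⁻¹) hxi
      rwa [inv_inv, show s⁻¹ * z * s = u by rw [← hs2]; group] at h
    have hy2z : s⁻¹ * e * s ∈ centralizer ({z} : Set G) := mem_centralizer_singleton_iff.2 (by
      calc s⁻¹ * e * s * z = s⁻¹ * (e * u) * s := by rw [← hs1]; group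
        _ = s⁻¹ * (u * e) * s := by rw [heu.eq]
        _ = z * (s⁻¹ * e * s) := by rw [← hs1]; group)
    have heq : a' * a' = s⁻¹ * x * s * (s⁻¹ * e * s) := by rw [he, hb]; group
    have hl : lin ρ (a' * a') ∈ Q₀ := by
      rw [heq, (D.lin_mul (oc_le z hy1) hy2z).1, (D.lin_oc hy1).1, one_mul]
      exact N.lin_mem_Q ⟨hy2, hy2z⟩
    rwa [(D.lin_mul ha'H ha'H).1, ha', (D.lin_mul (mul_mem (inv_mem hFH) haM.1) hFH).1,
      (D.lin_mul (inv_mem hFH) haM.1).1, (D.lin_oc hF).1, D.lin_inv hFH, (D.lin_oc hF).1, inv_one,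
      one_mul, mul_one, (D.lin_mSub haM).1] at hl
  have hsmall := L.small β (hβ ▸ D.lin_mem hbH) hβv hβ2
  set S := {x : G | x ∈ xSub z u ∧ Commute x a'} with hS
  set T := {v : V | polar2 q v₀ v = 0 ∧ β v = v} with hT
  let g : G → V × Bool := fun x =>
    (vec π (s * x * s⁻¹), open scoped Classical in decide (s * x * s⁻¹ = Classical.choose (D.exists_vec (vec π (s * x * s⁻¹)))))
  have hSE : ∀ x ∈ S, s * x * s⁻¹ ∈ oc z ∧ Commute (s * x * s⁻¹) u ∧ Commute (s * x * s⁻¹) b := by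
    rintro x ⟨hx, hxa⟩
    refine ⟨?_, ?_, ?_⟩
    · have h := conj_mem_oc (g := s) hx.1
      rwa [hs2] at h
    · show s * x * s⁻¹ * u = u * (s * x * s⁻¹)
      calc _ = s * (x * z) * s⁻¹ := by rw [← hs1]; group
        _ = s * (z * x) * s⁻¹ := by rw [(D.comm_z hx.2).eq]
        _ = _ := by rw [← hs1]; group
    · show s * x * s⁻¹ * b = b * (s * x * s⁻¹)
      calc _ = s * (x * a') * s⁻¹ := by rw [hb]; group
        _ = s * (a' * x) * s⁻¹ := by rw [hxa.eq]
        _ = _ := by rw [hb]; group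
  have himg : ∀ x ∈ S, g x ∈ T ×ˢ (Set.univ : Set Bool) := by
    intro x hx
    obtain ⟨h1, h2, h3⟩ := hSE x hx
    refine ⟨⟨?_, ?_⟩, Set.mem_univ _⟩
    · show polar2 q v₀ (vec π (s * x * s⁻¹)) = 0
      rw [← N.vec_u, D.polar_eq N.conf.mem h1]; exact h2.symm
    · show β (vec π (s * x * s⁻¹)) = vec π (s * x * s⁻¹)
      rw [hβ, ← D.vec_conj_lin hbH h1, mul_inv_eq_iff_eq_mul.2 h3.symm.eq]
  have hinj : Set.InjOn g S := by
    intro x hx y hy hxy
    have hv : vec π (s * x * s⁻¹) = vec π (s * y * s⁻¹) := congrArg Prod.fst hxy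
    have hb' := congrArg Prod.snd hxy
    simp only [g, hv, decide_eq_decide] at hb'
    obtain ⟨hc, hcv⟩ := Classical.choose_spec (D.exists_vec (vec π (s * y * s⁻¹)))
    set c := Classical.choose (D.exists_vec (vec π (s * y * s⁻¹)))
    refine mul_left_cancel (a := s) (mul_right_cancel (b := s⁻¹) ?_)
    rcases D.vec_eq (hSE x hx).1 hc (hv.trans hcv.symm) with h1 | h1
    · exact h1.trans (hb'.1 h1).symm
    · rcases D.vec_eq (hSE y hy).1 hc hcv.symm with h2 | h2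
      · exact absurd ((hb'.2 h2).symm.trans h1) (fun h => D.z_ne (left_eq_mul.1 h))
      · exact h1.trans h2.symm
  have := Set.ncard_le_ncard_of_injOn g himg hinj (Set.toFinite _)
  rw [Set.ncard_prod, Set.ncard_univ, Nat.card_eq_fintype_card, Fintype.card_bool] at this
  omega

end Cfsg.Agent.J4Type
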