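import Mathlib
import Cfsg.Agent.Invol.ZStar

/-!
An involution `z` whose centraliser `H` looks like that of Janko-four type is not weakly closed in the
extraspecial 2-core `E` of `H`. The properties of `H` that are used are collected in `FusionData`;
they concern only the action of involutions of `H` on `E`.
-/

set_option autoImplicit false

namespace Cfsg.Agent.J4Type

variable {G : Type*} [Group G]

/-- The subgroup generated by `z` and the commutators of `t` with elements of `E`. -/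
def commSpan (z t : G) (E : Subgroup G) : Subgroup G :=
  Subgroup.closure (insert z {s | ∃ e ∈ E, e * t * e⁻¹ * t⁻¹ = s})

/-- What the fusion argument needs to know about `H = C(z)`: `H0` has index two in `H` and contains `E`;
the fields `outer` are about involutions of `H` outside `H0`, the fields `inner` about those of `H0`
outside `E`. -/
structure FusionData (z : G) (E H0 : Subgroup G) : Prop where
  ord : orderOf z = 2
  mem : z ∈ E
  E_le : E ≤ H0
  H0_le : H0 ≤ Subgroup.centralizer ({z} : Set G)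
  index : H0.relIndex (Subgroup.centralizer ({z} : Set G)) = 2
  normalize : ∀ h : G, h * z = z * h → ∀ e ∈ E, h * e * h⁻¹ ∈ E
  comm : ∀ e ∈ E, ∀ f ∈ E, e * f * e⁻¹ * f⁻¹ = 1 ∨ e * f * e⁻¹ * f⁻¹ = z
  /-- Three elements of `E` spanning a space of order eight on which `x ↦ [x, v]` is injective with
  involutory values. -/
  outer : ∀ v : G, v * z = z * v → orderOf v = 2 → v ∉ H0 →
    ∃ e ∈ E, ∃ f ∈ E, ∃ g ∈ E, ∀ x ∈ [e, f, g, e * f, e * g, f * g, e * (f * g)],
      x * v ≠ v * x ∧ (x * v * x⁻¹) * v = v * (x * v * x⁻¹)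
  inner_nonab : ∀ t ∈ H0, orderOf t = 2 → t ∉ E →
    ∃ a ∈ E, ∃ b ∈ E, a * t = t * a ∧ b * t = t * b ∧ a * b ≠ b * a
  inner_comm : ∀ t ∈ H0, orderOf t = 2 → t ∉ E → ∀ e ∈ E,
    (e * t * e⁻¹) * t = t * (e * t * e⁻¹)
  inner_big : ∀ t ∈ H0, orderOf t = 2 → t ∉ E → ∃ e ∈ E,
    e * t * e⁻¹ * t⁻¹ ≠ 1 ∧ e * t * e⁻¹ * t⁻¹ ≠ z
  inner_kernel : ∀ t ∈ H0, orderOf t = 2 → t ∉ E → ∀ h : G, h * z = z * h →
    (∀ x ∈ E, x * t = t * x → h * x = x * h) → h ∈ E ∨ h * t ∈ E
  inner_section : ∀ t ∈ H0, orderOf t = 2 → t ∉ E → ∀ F : Subgroup G, F ≤ commSpan z t E → z ∉ F →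
    F ≠ ⊥ → (∀ h : G, h * z = z * h → h * t = t * h → ∀ y ∈ F, h * y * h⁻¹ ∈ F) →
    ∃ e ∈ E, e * t * e⁻¹ * t⁻¹ ≠ 1 ∧ e * t * e⁻¹ * t⁻¹ ∈ F

private theorem ord_conj (g x : G) : orderOf (g * x * g⁻¹) = orderOf x :=
  MulEquiv.orderOf_eq (MulAut.conj g) x

namespace FusionData

variable {z : G} {E H0 : Subgroup G}

theorem sq (D : FusionData z E H0) : z * z = 1 := by
  have := pow_orderOf_eq_one z
  rwa [D.ord, pow_two] at this

theorem inv_eq (D : FusionData z E H0) : z⁻¹ = z := inv_eq_of_mul_eq_one_right D.sq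

theorem mem_cent {x : G} : x ∈ Subgroup.centralizer ({z} : Set G) ↔ x * z = z * x := by
  rw [Subgroup.mem_centralizer_singleton_iff]

theorem comm_z_of_mem (D : FusionData z E H0) {e : G} (he : e ∈ E) : e * z = z * e :=
  mem_cent.1 (D.H0_le (D.E_le he))

theorem mul_mem_iff (D : FusionData z E H0) {a b : G} (ha : a * z = z * a) (hb : b * z = z * b) :
    a * b ∈ H0 ↔ (a ∈ H0 ↔ b ∈ H0) :=
  Subgroup.mul_mem_iff_of_index_two (H := H0.subgroupOf (Subgroup.centralizer ({z} : Set G))) D.index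
    (a := ⟨a, mem_cent.2 ha⟩) (b := ⟨b, mem_cent.2 hb⟩)

/-- A commutator of elements of `C(z)` lies in `H0`. -/
theorem commutator_mem (D : FusionData z E H0) {a b : G} (ha : a * z = z * a) (hb : b * z = z * b) :
    a * b * a⁻¹ * b⁻¹ ∈ H0 := by
  have hca : Commute a z := ha
  have hcb : Commute b z := hb
  rw [D.mul_mem_iff ((hca.mul_left hcb).mul_left hca.inv_left).eq hcb.inv_left.eq,
    D.mul_mem_iff (hca.mul_left hcb).eq hca.inv_left.eq, D.mul_mem_iff ha hb,
    inv_mem_iff, inv_mem_iff]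
  tauto

theorem conj_cases (D : FusionData z E H0) {e f : G} (he : e ∈ E) (hf : f ∈ E) :
    e * f * e⁻¹ = f ∨ e * f * e⁻¹ = z * f := by
  rcases D.comm e he f hf with h | h
  · left; rwa [mul_inv_eq_one] at h
  · right; rwa [mul_inv_eq_iff_eq_mul] at h

/-- If `z` has a conjugate commuting with it outside `E`, but none in `H0` other than itself,
we get a contradiction from the outer data. -/
theorem outer_false (D : FusionData z E H0)
    (hno : ∀ g : G, g * z * g⁻¹ ∈ H0 → g * z * g⁻¹ = z)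
    {g : G} (hv : g * z * g⁻¹ * z = z * (g * z * g⁻¹)) (hne : g * z * g⁻¹ ≠ z) : False := by
  set v := g * z * g⁻¹ with hvdef
  have hv2 : orderOf v = 2 := (ord_conj g z).trans D.ord
  have hv0 : v ∉ H0 := fun h => hne (hno g h)
  obtain ⟨e, he, f, hf, k, hk, hall⟩ := D.outer v hv hv2 hv0
  -- `out y` says that `y` centralises `v` and lies outside the index-two subgroup of `C(v)`
  have hcomm_iff : ∀ y : G, y * v = v * y → g⁻¹ * y * g * z = z * (g⁻¹ * y * g) := by
    intro y hy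
    calc g⁻¹ * y * g * z = g⁻¹ * (y * v) * g := by rw [hvdef]; group
      _ = g⁻¹ * (v * y) * g := by rw [hy]
      _ = z * (g⁻¹ * y * g) := by rw [hvdef]; group
  let out : G → Prop := fun y => y * v = v * y ∧ g⁻¹ * y * g ∉ H0
  have hout_mul : ∀ a b, out a → out b → ¬ out (a * b) := by
    rintro a b ⟨ha1, ha2⟩ ⟨hb1, hb2⟩ ⟨-, h⟩
    apply h
    rw [show g⁻¹ * (a * b) * g = (g⁻¹ * a * g) * (g⁻¹ * b * g) by group,
      D.mul_mem_iff (hcomm_iff a ha1) (hcomm_iff b hb1)]
    tauto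
  have hzout : out z := by
    refine ⟨hv.symm, fun h => hne ?_⟩
    have := hno g⁻¹ (by simpa using h)
    rw [inv_inv] at this
    rw [hvdef]
    nth_rw 1 [← this]
    group
  let s : G → G := fun x => x * v * x⁻¹ * v⁻¹
  have hs_mem : ∀ x ∈ E, s x ∈ E := by
    intro x hx
    have : v * x⁻¹ * v⁻¹ ∈ E := D.normalize v hv _ (inv_mem hx)
    have h2 := mul_mem hx this
    show x * v * x⁻¹ * v⁻¹ ∈ E
    simpa [mul_assoc] using h2
  have hs_out : ∀ x ∈ E, x * v ≠ v * x → x * v * x⁻¹ * v = v * (x * v * x⁻¹) → out (s x) := by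
    intro x hx hne' hc
    have hsc : s x * v = v * s x := by
      show x * v * x⁻¹ * v⁻¹ * v = v * (x * v * x⁻¹ * v⁻¹)
      rw [inv_mul_cancel_right, ← mul_assoc v, ← hc, mul_inv_cancel_right]
    refine ⟨hsc, fun h => ?_⟩
    have h1 : g⁻¹ * (x * v * x⁻¹) * g ∈ H0 := by
      have h3 := mul_mem h (D.E_le D.mem)
      have h4 : g⁻¹ * s x * g * z = g⁻¹ * (x * v * x⁻¹) * g := by
        show g⁻¹ * (x * v * x⁻¹ * v⁻¹) * g * z = _
        nth_rw 2 [hvdef]
        rw [show g⁻¹ * (x * v * x⁻¹ * (g * z * g⁻¹)⁻¹) * g * z =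
          g⁻¹ * (x * v * x⁻¹) * g * (z⁻¹ * z) by group, inv_mul_cancel, mul_one]
      rwa [h4] at h3
    have h5 : (g⁻¹ * x * g) * z * (g⁻¹ * x * g)⁻¹ ∈ H0 := by
      have e1 : (g⁻¹ * x * g) * z * (g⁻¹ * x * g)⁻¹ = g⁻¹ * (x * v * x⁻¹) * g := by
        rw [hvdef]; group
      rwa [e1]
    have h6 := hno _ h5
    apply hne'
    calc x * v = g * ((g⁻¹ * x * g) * z * (g⁻¹ * x * g)⁻¹) * g⁻¹ * x := by rw [hvdef]; group
      _ = v * x := by rw [h6, hvdef]
  have hs_mul : ∀ a b : G, s (a * b) = a * s b * a⁻¹ * s a := by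
    intro a b; show a * b * v * (a * b)⁻¹ * v⁻¹ = a * (b * v * b⁻¹ * v⁻¹) * a⁻¹ * (a * v * a⁻¹ * v⁻¹)
    group
  have key : ∀ a ∈ E, ∀ b ∈ E, out (s a) → out (s b) → out (s (a * b)) →
      a * s b * a⁻¹ = z * s b := by
    intro a ha b hb oa ob oab
    rcases D.conj_cases ha (hs_mem b hb) with h | h
    · exfalso
      rw [hs_mul, h] at oab
      exact hout_mul _ _ ob oa oab
    · exact h
  have o : ∀ x ∈ [e, f, k, e * f, e * k, f * k, e * (f * k)], x ∈ E → out (s x) :=
    fun x hx hxE => hs_out x hxE (hall x hx).1 (hall x hx).2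
  have oe := o e (by simp) he
  have of' := o f (by simp) hf
  have ok := o k (by simp) hk
  have hef := key e he f hf oe of' (o _ (by simp) (mul_mem he hf))
  have hek := key e he k hk oe ok (o _ (by simp) (mul_mem he hk))
  have hfk := key f hf k hk of' ok (o _ (by simp) (mul_mem hf hk))
  have hefk := key e he (f * k) (mul_mem hf hk) oe (o _ (by simp) (mul_mem hf hk))
    (o _ (by simp) (mul_mem he (mul_mem hf hk)))
  rw [hs_mul f k, hfk] at hefk
  have hz : e * z * e⁻¹ = z := by rw [D.comm_z_of_mem he, mul_inv_cancel_right]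
  have hexp : e * (z * s k * s f) * e⁻¹ = z * (z * s k) * (z * s f) := by
    rw [show e * (z * s k * s f) * e⁻¹ = (e * z * e⁻¹) * (e * s k * e⁻¹) * (e * s f * e⁻¹) by group,
      hz, hek, hef]
  rw [hexp] at hefk
  have hcz : s k * z = z * s k := D.comm_z_of_mem (hs_mem k hk)
  have h7 : z * (z * s k) * (z * s f) = z * s k * s f := by
    rw [← mul_assoc z z, D.sq, one_mul, ← mul_assoc, hcz]
  rw [h7] at hefk
  have hz1 : z = 1 := by simpa [mul_assoc] using hefk
  have := D.ord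
  rw [hz1, orderOf_one] at this
  omega

/-- `z` is not weakly closed in `E`, provided it is not isolated in `G`. -/
theorem exists_conj_mem (D : FusionData z E H0)
    (hiso : ¬ Cfsg.IsIsolatedInvolution z) : ∃ g : G, g * z * g⁻¹ ∈ E ∧ g * z * g⁻¹ ≠ z := by
  by_contra hwc
  push Not at hwc
  -- an inner conjugate
  obtain ⟨g, ht0, htne⟩ : ∃ g : G, g * z * g⁻¹ ∈ H0 ∧ g * z * g⁻¹ ≠ z := by
    by_contra hno
    push Not at hno
    simp only [Cfsg.IsIsolatedInvolution, D.ord, true_and, not_forall] at hiso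
    obtain ⟨g, hg, hne⟩ := hiso
    exact D.outer_false hno hg.eq.symm hne
  set t := g * z * g⁻¹ with htdef
  have ht2 : orderOf t = 2 := (ord_conj g z).trans D.ord
  have htE : t ∉ E := fun h => htne (hwc g h)
  have htz : t * z = z * t := mem_cent.1 (D.H0_le ht0)
  have pull : ∀ y : G, y * t = t * y → g⁻¹ * y * g * z = z * (g⁻¹ * y * g) := by
    intro y hy
    calc g⁻¹ * y * g * z = g⁻¹ * (y * t) * g := by rw [htdef]; group
      _ = g⁻¹ * (t * y) * g := by rw [hy]
      _ = z * (g⁻¹ * y * g) := by rw [htdef]; group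
  -- the partner `u` is inner as well
  set u := g⁻¹ * z * g with hudef
  have hune : u ≠ z := by
    intro h; apply htne
    rw [htdef]; nth_rw 1 [← h]
    rw [hudef]; group
  have hu2 : orderOf u = 2 := by
    have := ord_conj g⁻¹ z
    rw [inv_inv] at this
    exact this.trans D.ord
  obtain ⟨a, ha, b, hb, hat, hbt, hab⟩ := D.inner_nonab t ht0 ht2 htE
  have hu0 : u ∈ H0 := by
    have h := D.commutator_mem (pull a hat) (pull b hbt)
    have habz : a * b * a⁻¹ * b⁻¹ = z := by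
      refine (D.comm a ha b hb).resolve_left fun h => hab ?_
      rwa [mul_inv_eq_one, mul_inv_eq_iff_eq_mul] at h
    have e1 : (g⁻¹ * a * g) * (g⁻¹ * b * g) * (g⁻¹ * a * g)⁻¹ * (g⁻¹ * b * g)⁻¹ = u := by
      rw [hudef, ← habz]; group
    rwa [e1] at h
  have huE : u ∉ E := by
    intro h; apply hune
    have := hwc g⁻¹ (by rwa [inv_inv])
    rwa [inv_inv] at this
  set W := commSpan z u E with hW
  have hWE : W ≤ E := by
    rw [hW, commSpan, Subgroup.closure_le]
    rintro x (hxz | ⟨e, he, rfl⟩)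
    · rw [hxz]; exact D.mem
    · have h1 : u * e⁻¹ * u⁻¹ ∈ E := D.normalize u (mem_cent.1 (D.H0_le hu0)) _ (inv_mem he)
      have h2 := mul_mem he h1
      show e * u * e⁻¹ * u⁻¹ ∈ E
      simpa [mul_assoc] using h2
  have hWu : ∀ w ∈ W, w * u = u * w := by
    intro w hw
    have : W ≤ Subgroup.centralizer ({u} : Set G) := by
      rw [hW, commSpan, Subgroup.closure_le]
      rintro x (hxz | ⟨e, he, rfl⟩)
      · rw [hxz]; exact Subgroup.mem_centralizer_singleton_iff.2 (mem_cent.1 (D.H0_le hu0)).symm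
      · refine Subgroup.mem_centralizer_singleton_iff.2 ?_
        have hc := D.inner_comm u hu0 hu2 huE e he
        rw [inv_mul_cancel_right, ← mul_assoc u, ← hc, mul_inv_cancel_right]
    exact Subgroup.mem_centralizer_singleton_iff.1 (this hw)
  have hWnorm : ∀ h : G, h * z = z * h → h * u = u * h → ∀ w ∈ W, h * w * h⁻¹ ∈ W := by
    intro h hz hu w hw
    have : W ≤ W.comap (MulAut.conj h).toMonoidHom := by
      rw [hW]
      conv_lhs => rw [commSpan]
      rw [Subgroup.closure_le]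
      rintro x (hxz | ⟨e, he, rfl⟩)
      · rw [hxz]; refine SetLike.mem_coe.2 (Subgroup.mem_comap.2 ?_)
        show h * z * h⁻¹ ∈ _
        rw [hz, mul_inv_cancel_right]
        exact Subgroup.subset_closure (Set.mem_insert _ _)
      · refine SetLike.mem_coe.2 (Subgroup.mem_comap.2 ?_)
        show h * (e * u * e⁻¹ * u⁻¹) * h⁻¹ ∈ _
        refine Subgroup.subset_closure (Set.mem_insert_of_mem _ ⟨h * e * h⁻¹, D.normalize h hz e he, ?_⟩)
        have hh : h * u * h⁻¹ = u := by rw [hu, mul_inv_cancel_right]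
        calc h * e * h⁻¹ * u * (h * e * h⁻¹)⁻¹ * u⁻¹
            = h * e * h⁻¹ * (h * u * h⁻¹) * (h * e * h⁻¹)⁻¹ * (h * u * h⁻¹)⁻¹ := by rw [hh]
          _ = h * (e * u * e⁻¹ * u⁻¹) * h⁻¹ := by group
    exact this hw
  by_cases hF : ∀ w ∈ W, g * w * g⁻¹ ∈ E → w = 1
  · -- `g W g⁻¹` meets `E` trivially, so it centralises `C_E(t)`
    obtain ⟨e, he, hs1, hsz⟩ := D.inner_big u hu0 hu2 huE
    have hsW : e * u * e⁻¹ * u⁻¹ ∈ W :=
      Subgroup.subset_closure (Set.mem_insert_of_mem _ ⟨e, he, rfl⟩)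
    set w := e * u * e⁻¹ * u⁻¹ with hwdef
    have hy : g * w * g⁻¹ * z = z * (g * w * g⁻¹) := by
      calc g * w * g⁻¹ * z = g * (w * u) * g⁻¹ := by rw [hudef]; group
        _ = g * (u * w) * g⁻¹ := by rw [hWu w hsW]
        _ = z * (g * w * g⁻¹) := by rw [hudef]; group
    have hcent : ∀ x ∈ E, x * t = t * x → g * w * g⁻¹ * x = x * (g * w * g⁻¹) := by
      intro x hx hxt
      have hxz := D.comm_z_of_mem hx
      have hxu : g⁻¹ * x * g * u = u * (g⁻¹ * x * g) := by
        calc g⁻¹ * x * g * u = g⁻¹ * (x * z) * g := by rw [hudef]; group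
          _ = g⁻¹ * (z * x) * g := by rw [hxz]
          _ = u * (g⁻¹ * x * g) := by rw [hudef]; group
      set d := w * ((g⁻¹ * x * g) * w⁻¹ * (g⁻¹ * x * g)⁻¹) with hd
      have hdW : d ∈ W := mul_mem hsW (hWnorm _ (pull x hxt) hxu _ (inv_mem hsW))
      have hdE : g * d * g⁻¹ ∈ E := by
        have h1 : g * w * g⁻¹ * x * (g * w * g⁻¹)⁻¹ ∈ E := D.normalize _ hy x hx
        have h2 := mul_mem h1 (inv_mem hx)
        have h3 : g * d * g⁻¹ = g * w * g⁻¹ * x * (g * w * g⁻¹)⁻¹ * x⁻¹ := by rw [hd]; group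
        rwa [h3]
      have hd1 := hF d hdW hdE
      calc g * w * g⁻¹ * x = g * d * g⁻¹ * x * (g * w * g⁻¹) := by rw [hd]; group
        _ = x * (g * w * g⁻¹) := by rw [hd1]; group
    rcases D.inner_kernel t ht0 ht2 htE _ hy hcent with h | h
    · exact hs1 (hF w hsW h)
    · have h' : g * (w * z) * g⁻¹ ∈ E := by
        have : g * (w * z) * g⁻¹ = g * w * g⁻¹ * t := by rw [htdef]; group
        rwa [this]
      have := hF (w * z) (mul_mem hsW (Subgroup.subset_closure (Set.mem_insert _ _))) h'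
      exact hsz (by rw [mul_eq_one_iff_eq_inv, D.inv_eq] at this; exact this)
  · -- a nontrivial section gives a conjugate of `z` in `E`
    push Not at hF
    obtain ⟨w₀, hw₀, hw₀E, hw₀1⟩ := hF
    set F := W ⊓ E.comap (MulAut.conj g).toMonoidHom with hFdef
    have hzF : z ∉ F := fun h => htE h.2
    have hFne : F ≠ ⊥ := fun h => hw₀1 (Subgroup.mem_bot.1 (h ▸ (⟨hw₀, hw₀E⟩ : w₀ ∈ F)))
    have hFn : ∀ h : G, h * z = z * h → h * u = u * h → ∀ y ∈ F, h * y * h⁻¹ ∈ F := by
      intro h hhz hhu y hy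
      refine ⟨hWnorm h hhz hhu y hy.1, ?_⟩
      show g * (h * y * h⁻¹) * g⁻¹ ∈ E
      have hgh : g * h * g⁻¹ * z = z * (g * h * g⁻¹) := by
        calc g * h * g⁻¹ * z = g * (h * u) * g⁻¹ := by rw [hudef]; group
          _ = g * (u * h) * g⁻¹ := by rw [hhu]
          _ = z * (g * h * g⁻¹) := by rw [hudef]; group
      have h1 := D.normalize _ hgh _ (show g * y * g⁻¹ ∈ E from hy.2)
      have e1 : g * h * g⁻¹ * (g * y * g⁻¹) * (g * h * g⁻¹)⁻¹ = g * (h * y * h⁻¹) * g⁻¹ := by group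
      rwa [e1] at h1
    obtain ⟨e, he, hs1, hsF⟩ := D.inner_section u hu0 hu2 huE F inf_le_left hzF hFne hFn
    have hsE : g * (e * u * e⁻¹ * u⁻¹) * g⁻¹ ∈ E := hsF.2
    have hconj : (g * e * g⁻¹) * z * (g * e * g⁻¹)⁻¹ = g * (e * u * e⁻¹ * u⁻¹) * g⁻¹ * z := by
      rw [hudef]; group
    have h8 := hwc (g * e * g⁻¹) (by rw [hconj]; exact mul_mem hsE D.mem)
    rw [hconj, mul_eq_right, mul_inv_eq_one, mul_eq_left] at h8
    exact hs1 h8

/-- In a non-abelian simple group `z` is not weakly closed in `E`. -/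
theorem exists_conj_mem_of_simple [Finite G] [IsSimpleGroup G] (hG : ¬ IsMulCommutative G)
    (D : FusionData z E H0) : ∃ g : G, g * z * g⁻¹ ∈ E ∧ g * z * g⁻¹ ≠ z := by
  refine D.exists_conj_mem fun hi => ?_
  have hO : Cfsg.oddCore G = ⊥ := by
    by_contra hne
    have := (IsSimpleGroup.eq_bot_or_eq_top_of_normal (Cfsg.oddCore G) inferInstance).resolve_left hne
    have h2 : ¬ 2 ∣ Nat.card (Cfsg.oddCore G) := Cfsg.Agent.Core.not_dvd_card_pPrimeCore
    rw [this, Subgroup.card_top, ← D.ord] at h2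
    exact h2 (orderOf_dvd_natCard z)
  have hzc : z ∈ Subgroup.center G := Subgroup.mem_center_iff.2 fun g => by
    have h := Cfsg.Agent.Invol.zstar hi g
    rw [hO, Subgroup.mem_bot, mul_inv_eq_one, mul_inv_eq_iff_eq_mul] at h
    exact h.symm
  have hz1 : z = 1 := by
    rcases IsSimpleGroup.eq_bot_or_eq_top_of_normal (Subgroup.center G) inferInstance with h | h
    · simpa [h] using hzc
    · exact absurd ⟨⟨fun a b => Subgroup.mem_center_iff.1 (h ▸ Subgroup.mem_top b) a⟩⟩ hG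
  have := D.ord
  rw [hz1, orderOf_one] at this
  omega

end FusionData

end Cfsg.Agent.J4Type
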