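import Cfsg.Agent.J4Type.BaseAct
import Cfsg.Agent.J4Type.Fusion

/-!
# The fusion data of a group of Janko-four type, from facts on the involutions of `H / E`

`InvolFacts` only speaks of a group acting linearly on a vector space with a quadratic form; it is applied
to `H / E` acting on `V = E / ⟨z⟩`.
-/

set_option autoImplicit false

open Subgroup Cfsg

namespace Cfsg.Agent.J4Type

/-- Facts on the involutions of `K ≅ 3.M₂₂.2` with its subgroup `K₀ ≅ 3.M₂₂` and scalar `w`. -/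
structure InvolFacts {K : Type*} [Group K] {V : Type*} [AddCommGroup V] (s : K →* AddMonoid.End V)
    (K₀ : Subgroup K) (q : V → ZMod 2) (w : K) : Prop where
  inner_iso : ∀ t ∈ K₀, t * t = 1 → t ≠ 1 → ∀ v, q (v + s t v) = 0
  inner_five : ∀ t ∈ K₀, t * t = 1 → t ≠ 1 → ∃ v : Fin 5 → V,
    (∀ i, s t (v i) = v i) ∧ ∀ i j, i ≠ j → polar2 q (v i) (v j) = 1
  inner_big : ∀ t ∈ K₀, t * t = 1 → t ≠ 1 → ∃ v, s t v ≠ v
  inner_move : ∀ t ∈ K₀, t * t = 1 → t ≠ 1 → ∀ k : K, k ≠ 1 → k ≠ t →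
    ∃ v u, s t v = v ∧ s t u = u ∧ s k v ≠ v ∧ s k u ≠ u ∧ s k (v + u) ≠ v + u
  inner_perp : ∀ t ∈ K₀, t * t = 1 → t ≠ 1 → ∀ x, (∀ u, s t u = u → polar2 q x u = 0) →
    ∃ v, x = v + s t v
  inner_swap : ∀ t ∈ K₀, t * t = 1 → t ≠ 1 → ∀ v, s t v ≠ v →
    polar2 q v (s w (v + s t v)) = 1 → ∃ k ∈ K₀, k * k = t ∧
      s t (v + s k v) ≠ v + s k v ∧
      polar2 q (v + s k v) (s w (v + s k v + s t (v + s k v))) = 0
  outer : ∀ t, t ∉ K₀ → t * t = 1 → ∃ a b c, ∀ d ∈ [a, b, c, a + b, a + c, b + c, a + (b + c)],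
    s t d ≠ d ∧ q (d + s t d) = 0

namespace Base

universe u

variable {G : Type u} [Group G] [Finite G] {z : G} {P : Subgroup G}

/-- `H / E`, as the image of `H` acting on `V`. -/
abbrev KBar (z : G) : Type u := ↥(Hz z) ⧸ (act z).ker

/-- Its action on `V`. -/
def sBar (z : G) : KBar z →* AddMonoid.End (V z) := QuotientGroup.lift (act z).ker (act z) le_rfl

/-- The image of `C_H(P)`. -/
def K0Bar (z : G) (P : Subgroup G) : Subgroup (KBar z) :=
  ((CP z P).subgroupOf (Hz z)).map (QuotientGroup.mk' _)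

/-- The image of an element of `H`. -/
def kmk {z : G} (h : G) (hh : h ∈ Hz z) : KBar z := QuotientGroup.mk (⟨h, hh⟩ : ↥(Hz z))

theorem sBar_kmk {h e : G} (hh : h ∈ Hz z) (he : e ∈ Ez z) :
    sBar z (kmk h hh) (bar ⟨e, he⟩) = bar ⟨h * e * h⁻¹, Ez_conj hh he⟩ := rfl

theorem kmk_mul {a b : G} (ha : a ∈ Hz z) (hb : b ∈ Hz z) :
    kmk (a * b) (mul_mem ha hb) = kmk a ha * kmk b hb := rfl

variable (hJ : IsOfJankoFourTypeWith z P)
include hJ

theorem kmk_eq_one {h : G} (hh : h ∈ Hz z) : kmk h hh = 1 ↔ h ∈ Ez z := by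
  constructor
  · intro e
    exact mem_Ez_of_act hJ hh (MonoidHom.mem_ker.1 ((QuotientGroup.eq_one_iff _).1 e))
  · intro he
    refine (QuotientGroup.eq_one_iff _).2 (MonoidHom.mem_ker.2 (AddMonoidHom.ext fun v => ?_))
    obtain ⟨e, rfl⟩ := bar_surjective z v
    refine (act_bar _ e).trans ((bar_eq hJ).2 ?_)
    show e.1 = h * e.1 * h⁻¹ ∨ e.1 = h * e.1 * h⁻¹ * z
    rcases comm_cases hJ he e.2 with h1 | h1
    · exact Or.inl (mul_inv_eq_one.1 h1).symm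
    · right
      rw [mul_inv_eq_iff_eq_mul.1 h1, mul_assoc z, mem_Hz.1 (Ez_le z e.2), ← mul_assoc, zz hJ, one_mul]

theorem sq_of_qf {e : G} (he : e ∈ Ez z) :
    (qf z (bar ⟨e, he⟩) = 0 → e * e = 1) ∧ (qf z (bar ⟨e, he⟩) ≠ 0 → e * e = z) :=
  (actData hJ).square ⟨e, he⟩

theorem comm_eq_polar {a b : G} (ha : a ∈ Ez z) (hb : b ∈ Ez z) :
    (polar2 (qf z) (bar ⟨a, ha⟩) (bar ⟨b, hb⟩) = 0 → a * b = b * a) ∧
      (polar2 (qf z) (bar ⟨a, ha⟩) (bar ⟨b, hb⟩) = 1 → a * b ≠ b * a) := by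
  have hab := mul_mem ha hb
  have e0 : bar (⟨a * b, hab⟩ : ↥(Ez z)) = bar ⟨a, ha⟩ + bar ⟨b, hb⟩ := bar_mul ⟨a, ha⟩ ⟨b, hb⟩
  have val : ∀ {x : G} (hx : x ∈ Ez z), x * x = if qf z (bar ⟨x, hx⟩) = 0 then 1 else z := by
    intro x hx
    split_ifs with h
    · exact (sq_of_qf hJ hx).1 h
    · exact (sq_of_qf hJ hx).2 h
  have za : z * a = a * z := (mem_Hz.1 (Ez_le z ha)).symm
  have hiff : a * b = b * a ↔ a * b * (a * b) = a * a * (b * b) :=
    ⟨fun h => by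
        calc a * b * (a * b) = a * (b * a) * b := by group
          _ = a * (a * b) * b := by rw [h]
          _ = a * a * (b * b) := by group,
      fun h => (mul_left_cancel (mul_right_cancel (show a * (b * a) * b = a * (a * b) * b by
        simpa [mul_assoc] using h))).symm⟩
  rw [ne_eq, hiff, val hab, val ha, val hb, e0]
  have hne := z_ne hJ
  have hzz := zz hJ
  unfold polar2
  generalize qf z (bar ⟨a, ha⟩ + bar ⟨b, hb⟩) = x
  generalize qf z (bar ⟨a, ha⟩) = y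
  generalize qf z (bar ⟨b, hb⟩) = w
  have h11 : (1 : ZMod 2) + 1 = 0 := by decide
  rcases (by decide : ∀ a : ZMod 2, a = 0 ∨ a = 1) x with rfl | rfl <;>
    rcases (by decide : ∀ a : ZMod 2, a = 0 ∨ a = 1) y with rfl | rfl <;>
      rcases (by decide : ∀ a : ZMod 2, a = 0 ∨ a = 1) w with rfl | rfl <;>
        simp [hne, hne.symm, hzz, h11]

/-- The commutator with an element of `H`, on `V`. -/
theorem bar_comm {h e : G} (hh : h ∈ Hz z) (he : e ∈ Ez z) (hs : e * h * e⁻¹ * h⁻¹ ∈ Ez z) :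
    bar (⟨e * h * e⁻¹ * h⁻¹, hs⟩ : ↥(Ez z)) = bar ⟨e, he⟩ + sBar z (kmk h hh) (bar ⟨e, he⟩) := by
  have h1 : (⟨e * h * e⁻¹ * h⁻¹, hs⟩ : ↥(Ez z)) =
      ⟨e, he⟩ * ⟨h * e⁻¹ * h⁻¹, Ez_conj hh (inv_mem he)⟩ := Subtype.ext (by
    show e * h * e⁻¹ * h⁻¹ = e * (h * e⁻¹ * h⁻¹); group)
  have h2 : bar (⟨e⁻¹, inv_mem he⟩ : ↥(Ez z)) = bar ⟨e, he⟩ := by
    refine (bar_eq hJ).2 ?_
    rcases sq_cases hJ he with h | h
    · exact Or.inl (inv_eq_of_mul_eq_one_right h).symm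
    · refine Or.inr ?_
      show e = e⁻¹ * z
      exact eq_inv_mul_iff_mul_eq.2 h
  rw [h1, bar_mul, ← sBar_kmk hh (inv_mem he), h2]

theorem comm_mem {h e : G} (hh : h ∈ Hz z) (he : e ∈ Ez z) : e * h * e⁻¹ * h⁻¹ ∈ Ez z := by
  have := mul_mem he (Ez_conj hh (inv_mem he))
  rwa [show e * h * e⁻¹ * h⁻¹ = e * (h * e⁻¹ * h⁻¹) by group]

theorem eq_of_two {v w : V z} (h : (0 : V z) = v + w) : w = v := by
  have := congrArg (v + ·) h
  rwa [add_zero, ← add_assoc, two_V hJ, zero_add, eq_comm] at this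

variable {q' : G} (hq : q' ∈ P) (hq1 : q' ≠ 1)
include hq hq1

/-- The key step for `inner_section`, for an involution in `C_H(P)`. -/
theorem section_aux (hF : InvolFacts (sBar z) (K0Bar z P) (qf z) (kmk q' (P_le hJ hq)))
    {c : G} (hc : c ∈ CP z P) (hc2 : c * c = 1) (hcE : c ∉ Ez z) (F : Subgroup G)
    (hn : ∀ h : G, h * z = z * h → h * c = c * h → ∀ y ∈ F, h * y * h⁻¹ ∈ F)
    {y : G} (hy : y ∈ F) (hyE : y ∈ Ez z) (hy0 : bar (⟨y, hyE⟩ : ↥(Ez z)) ≠ 0)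
    (hyI : ∃ v, bar (⟨y, hyE⟩ : ↥(Ez z)) = v + sBar z (kmk c hc.1) v) :
    ∃ e ∈ Ez z, e * c * e⁻¹ * c⁻¹ ≠ 1 ∧ e * c * e⁻¹ * c⁻¹ ∈ F := by
  set T := sBar z (kmk c hc.1) with hT
  set w := kmk q' (P_le hJ hq) with hw
  have hcK : kmk c hc.1 ∈ K0Bar z P := mem_map_of_mem _ (mem_subgroupOf.2 hc : (⟨c, hc.1⟩ : ↥(Hz z)) ∈ _)
  have hc21 : kmk c hc.1 * kmk c hc.1 = 1 := by
    rw [← kmk_mul, kmk_eq_one hJ, hc2]; exact one_mem _
  have hc1 : kmk c hc.1 ≠ 1 := fun h => hcE ((kmk_eq_one hJ hc.1).1 h)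
  have hqc : q' * c = c * q' := mem_centralizer_iff.1 hc.2 q' hq
  have hcz : c * z = z * c := mem_Hz.1 hc.1
  have hqz : q' * z = z * q' := mem_Hz.1 (P_le hJ hq)
  -- one vector: a nontrivial commutator in `F`, unless `b(v, w(v + tv)) = 1`
  have main : ∀ (y : G), y ∈ F → ∀ (e : G) (he : e ∈ Ez z), T (bar ⟨e, he⟩) ≠ bar ⟨e, he⟩ →
      (e * c * e⁻¹ * c⁻¹ = y ∨ e * c * e⁻¹ * c⁻¹ = y * z) →
      polar2 (qf z) (bar ⟨e, he⟩) (sBar z w (bar ⟨e, he⟩ + T (bar ⟨e, he⟩))) = 0 →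
      ∃ f ∈ Ez z, f * c * f⁻¹ * c⁻¹ ≠ 1 ∧ f * c * f⁻¹ * c⁻¹ ∈ F := by
    intro y hy e he hne hcase hb
    have hsE := comm_mem hJ hc.1 he
    have hs1 : e * c * e⁻¹ * c⁻¹ ≠ 1 := by
      intro h
      apply hne
      show bar (⟨c * e * c⁻¹, Ez_conj hc.1 he⟩ : ↥(Ez z)) = bar ⟨e, he⟩
      refine congrArg bar (Subtype.ext ?_)
      show c * e * c⁻¹ = e
      exact mul_inv_eq_iff_eq_mul.2 (mul_inv_eq_iff_eq_mul.1 (mul_inv_eq_one.1 h)).symm
    rcases hcase with h | h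
    · exact ⟨e, he, hs1, h ▸ hy⟩
    -- conjugate by `q'`
    have he' := Ez_conj (P_le hJ hq) he
    set e' := q' * e * q'⁻¹ with he'def
    have hs' : e' * c * e'⁻¹ * c⁻¹ = q' * y * q'⁻¹ * z := by
      calc e' * c * e'⁻¹ * c⁻¹ = q' * e * (q'⁻¹ * c * q') * e⁻¹ * (q'⁻¹ * c * q')⁻¹ * q'⁻¹ := by
            rw [he'def]; group
        _ = q' * (e * c * e⁻¹ * c⁻¹) * q'⁻¹ := by
            rw [mul_assoc q'⁻¹ c q', ← hqc, inv_mul_cancel_left]; group
        _ = q' * y * (z * q'⁻¹) := by rw [h]; group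
        _ = q' * y * q'⁻¹ * z := by
            rw [(show Commute q' z from hqz).inv_left.eq.symm, ← mul_assoc]
    have hcomm : e * (e' * c * e'⁻¹ * c⁻¹) = e' * c * e'⁻¹ * c⁻¹ * e := by
      refine (comm_eq_polar hJ he (comm_mem hJ hc.1 he')).1 ?_
      rw [bar_comm hJ hc.1 he', ← hT]
      have h1 : bar (⟨e', he'⟩ : ↥(Ez z)) = sBar z w (bar ⟨e, he⟩) := (sBar_kmk (P_le hJ hq) he).symm
      have h2 : T (sBar z w (bar ⟨e, he⟩)) = sBar z w (T (bar ⟨e, he⟩)) := by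
        show (sBar z (kmk c hc.1) * sBar z w) _ = (sBar z w * sBar z (kmk c hc.1)) _
        rw [← map_mul, ← map_mul, hw, ← kmk_mul, ← kmk_mul]
        simp only [← hqc]
      rw [h1, h2, ← map_add]
      exact hb
    have hee := mul_mem he he'
    refine ⟨e * e', hee, ?_, ?_⟩
    · intro h0
      -- `(1 + w)(v + tv) = 0` would give a fixed point of `w`
      set X : ↥(Ez z) := ⟨e * c * e⁻¹ * c⁻¹, hsE⟩
      have hX : e * e' * c * (e * e')⁻¹ * c⁻¹ = e' * c * e'⁻¹ * c⁻¹ * (e * c * e⁻¹ * c⁻¹) := by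
        calc e * e' * c * (e * e')⁻¹ * c⁻¹ = e * (e' * c * e'⁻¹ * c⁻¹) * (c * e⁻¹ * c⁻¹) := by group
          _ = _ := by rw [hcomm]; group
      rw [hX] at h0
      have h3 : q' * X.1 * q'⁻¹ * X.1 = 1 := by
        have : q' * X.1 * q'⁻¹ = e' * c * e'⁻¹ * c⁻¹ := by
          show q' * (e * c * e⁻¹ * c⁻¹) * q'⁻¹ = _
          rw [h, hs']
          calc q' * (y * z) * q'⁻¹ = q' * y * (z * q'⁻¹) := by group
            _ = q' * y * q'⁻¹ * z := by rw [(show Commute q' z from hqz).inv_left.eq.symm, ← mul_assoc]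
        rw [this]; exact h0
      have h4 : q' * X.1 * q'⁻¹ = X.1 ∨ q' * X.1 * q'⁻¹ = X.1 * z := by
        have h5 := eq_inv_of_mul_eq_one_left h3
        rcases sq_cases hJ hsE with h6 | h6
        · exact Or.inl (h5.trans (inv_eq_of_mul_eq_one_right h6))
        · refine Or.inr (h5.trans ?_)
          refine inv_eq_of_mul_eq_one_right ?_
          rw [← mul_assoc, h6, zz hJ]
      rcases free hJ hq hq1 hsE h4 with h5 | h5
      · exact hs1 h5
      · apply hne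
        have h6 := bar_comm hJ hc.1 he hsE
        rw [(bar_eq_zero hJ).2 (Or.inr h5), ← hT] at h6
        exact eq_of_two hJ h6
    · have hX : e * e' * c * (e * e')⁻¹ * c⁻¹ = e' * c * e'⁻¹ * c⁻¹ * (e * c * e⁻¹ * c⁻¹) := by
        calc e * e' * c * (e * e')⁻¹ * c⁻¹ = e * (e' * c * e'⁻¹ * c⁻¹) * (c * e⁻¹ * c⁻¹) := by group
          _ = _ := by rw [hcomm]; group
      rw [hX, hs', h]
      have : q' * y * q'⁻¹ * z * (y * z) = q' * y * q'⁻¹ * y := by
        have hyz : y * z = z * y := mem_Hz.1 (Ez_le z (by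
          have := comm_mem hJ hc.1 he
          rw [h] at this
          simpa [mul_assoc, zz hJ] using mul_mem this (z_mem hJ)))
        rw [hyz, ← mul_assoc, mul_assoc _ z z, zz hJ, mul_one]
      rw [this]
      exact mul_mem (hn q' hqz hqc y hy) hy
  -- the vector under `y`, and the swapped one
  obtain ⟨v, hv⟩ := hyI
  obtain ⟨⟨e, he⟩, rfl⟩ := bar_surjective z v
  have hTe : T (bar ⟨e, he⟩) ≠ bar ⟨e, he⟩ := by
    intro h
    apply hy0
    rw [hv, h, two_V hJ]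
  have hcase : e * c * e⁻¹ * c⁻¹ = y ∨ e * c * e⁻¹ * c⁻¹ = y * z := by
    rw [hT, ← bar_comm hJ hc.1 he (comm_mem hJ hc.1 he)] at hv
    exact (bar_eq hJ).1 hv
  by_cases hb : polar2 (qf z) (bar ⟨e, he⟩) (sBar z w (bar ⟨e, he⟩ + T (bar ⟨e, he⟩))) = 0
  · exact main y hy e he hTe hcase hb
  have hb1 : polar2 (qf z) (bar ⟨e, he⟩) (sBar z w (bar ⟨e, he⟩ + T (bar ⟨e, he⟩))) = 1 := by
    revert hb; generalize polar2 (qf z) (bar ⟨e, he⟩) _ = x; revert x; decide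
  obtain ⟨k, hk, hkk, hu1, hu0⟩ := hF.inner_swap _ hcK hc21 hc1 _ hTe hb1
  obtain ⟨⟨k0, hk0⟩, hk0C, rfl⟩ := mem_map.1 hk
  have hk0C' : k0 ∈ CP z P := mem_subgroupOf.1 hk0C
  -- `k0² ∈ {c, cz}`, so `k0` centralises `c`
  have hkc : k0 * c = c * k0 := by
    have hE : k0 * k0 * c ∈ Ez z := by
      refine (kmk_eq_one hJ (mul_mem (mul_mem hk0 hk0) hc.1)).1 ?_
      show QuotientGroup.mk' _ ⟨k0, hk0⟩ * QuotientGroup.mk' _ ⟨k0, hk0⟩ * kmk c hc.1 = 1
      rw [hkk, hc21]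
    have h' : k0 * (k0 * k0 * c) = k0 * k0 * c * k0 := by
      rcases mem_Ez_fix hJ hE (mul_mem (mul_mem hk0C'.2 hk0C'.2) hc.2) with h | h <;> rw [h]
      · rw [mul_one, one_mul]
      · exact mem_Hz.1 hk0
    exact mul_left_cancel (a := k0 * k0) (by rw [← mul_assoc, ← mul_assoc]; simpa [mul_assoc] using h')
  set u := e * (k0 * e * k0⁻¹) with hudef
  have huE : u ∈ Ez z := mul_mem he (Ez_conj hk0 he)
  have hub : bar (⟨u, huE⟩ : ↥(Ez z)) = bar ⟨e, he⟩ + sBar z (QuotientGroup.mk' _ ⟨k0, hk0⟩) (bar ⟨e, he⟩) :=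
    bar_mul ⟨e, he⟩ ⟨k0 * e * k0⁻¹, Ez_conj hk0 he⟩
  refine main (y * (k0 * y * k0⁻¹)) (mul_mem hy (hn k0 (mem_Hz.1 hk0) hkc y hy)) u huE
    (by rw [hub]; exact hu1) ?_ (by rw [hub]; exact hu0)
  refine (bar_eq hJ (a := ⟨y * (k0 * y * k0⁻¹), mul_mem hyE (Ez_conj hk0 hyE)⟩)
    (b := ⟨_, comm_mem hJ hc.1 huE⟩)).1 ?_
  rw [bar_comm hJ hc.1 huE, ← hT, hub, show bar (⟨y * (k0 * y * k0⁻¹), mul_mem hyE (Ez_conj hk0 hyE)⟩ : ↥(Ez z)) =
    bar ⟨y, hyE⟩ + sBar z (QuotientGroup.mk' _ ⟨k0, hk0⟩) (bar ⟨y, hyE⟩) from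
    bar_mul ⟨y, hyE⟩ ⟨k0 * y * k0⁻¹, Ez_conj hk0 hyE⟩, hv, map_add, map_add]
  have hTk : sBar z (QuotientGroup.mk' _ ⟨k0, hk0⟩) (T (bar ⟨e, he⟩)) =
      T (sBar z (QuotientGroup.mk' _ ⟨k0, hk0⟩) (bar ⟨e, he⟩)) := by
    show (sBar z (kmk k0 hk0) * sBar z (kmk c hc.1)) _ = (sBar z (kmk c hc.1) * sBar z (kmk k0 hk0)) _
    rw [← map_mul, ← map_mul, ← kmk_mul, ← kmk_mul]
    simp only [hkc]
  rw [hTk]
  abel

/-- The fusion data. -/
theorem fusionData (hF : InvolFacts (sBar z) (K0Bar z P) (qf z) (kmk q' (P_le hJ hq))) :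
    FusionData z (Ez z) (Ez z ⊔ CP z P) := by
  have hle : Ez z ⊔ CP z P ≤ Hz z := sup_le (Ez_le z) inf_le_left
  have K0_iff : ∀ {h : G} (hh : h ∈ Hz z), kmk h hh ∈ K0Bar z P ↔ h ∈ Ez z ⊔ CP z P := by
    intro h hh
    constructor
    · intro hk
      obtain ⟨⟨c, hc⟩, hcC, hck⟩ := mem_map.1 hk
      have hcC' : c ∈ CP z P := mem_subgroupOf.1 hcC
      have hE : h * c⁻¹ ∈ Ez z := by
        refine (kmk_eq_one hJ (mul_mem hh (inv_mem hc))).1 ?_
        show kmk h hh * (kmk c hc)⁻¹ = 1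
        rw [mul_inv_eq_one]
        exact hck.symm
      exact (mem_H0 hJ).2 ⟨_, hE, c, hcC', (inv_mul_cancel_right h c).symm⟩
    · intro hh0
      obtain ⟨e, he, c, hc, rfl⟩ := (mem_H0 hJ).1 hh0
      rw [show kmk (e * c) hh = kmk e (Ez_le z he) * kmk c hc.1 from rfl, (kmk_eq_one hJ _).2 he, one_mul]
      exact mem_map_of_mem _ (mem_subgroupOf.2 hc : (⟨c, hc.1⟩ : ↥(Hz z)) ∈ _)
  have sqt : ∀ {t : G} (ht : t ∈ Hz z), orderOf t = 2 → kmk t ht * kmk t ht = 1 := by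
    intro t ht h2
    have h3 : t * t = 1 := by rw [← pow_two, ← h2, pow_orderOf_eq_one]
    rw [← kmk_mul, kmk_eq_one hJ, h3]; exact one_mem _
  have net : ∀ {t : G} (ht : t ∈ Hz z), t ∉ Ez z → kmk t ht ≠ 1 :=
    fun ht h e => h ((kmk_eq_one hJ ht).1 e)
  -- fixed vectors lift to elements commuting with `t` up to `z`
  have fixlift : ∀ {t e : G} (ht : t ∈ Hz z) (he : e ∈ Ez z),
      sBar z (kmk t ht) (bar ⟨e, he⟩) = bar ⟨e, he⟩ →
      e * t * e⁻¹ * t⁻¹ = 1 ∨ e * t * e⁻¹ * t⁻¹ = z := by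
    intro t e ht he h
    refine (bar_eq_zero hJ (a := ⟨_, comm_mem hJ ht he⟩)).1 ?_
    rw [bar_comm hJ ht he, h, two_V hJ]
  have commsq : ∀ {t e : G} (ht : t ∈ Hz z) (he : e ∈ Ez z), orderOf t = 2 →
      qf z (bar ⟨e, he⟩ + sBar z (kmk t ht) (bar ⟨e, he⟩)) = 0 →
      e * t * e⁻¹ * t = t * (e * t * e⁻¹) := by
    intro t e ht he h2 h0
    have hsE := comm_mem hJ ht he
    have hs := (sq_of_qf hJ hsE).1 (by rw [bar_comm hJ ht he]; exact h0)
    have ht1 : t⁻¹ = t := by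
      refine inv_eq_of_mul_eq_one_right ?_
      rw [← pow_two, ← h2, pow_orderOf_eq_one]
    rw [ht1] at hs
    have h3 := inv_eq_of_mul_eq_one_right hs
    calc e * t * e⁻¹ * t = (e * t * e⁻¹ * t)⁻¹ := h3.symm
      _ = t⁻¹ * e * t⁻¹ * e⁻¹ := by group
      _ = t * (e * t * e⁻¹) := by rw [ht1]; group
  refine ⟨hJ.1, z_mem hJ, le_sup_left, hle, relIndex_H0 hJ, fun h hh e he => Ez_conj (mem_Hz.2 hh) he,
    fun e he f hf => comm_cases hJ he hf, ?_, ?_, ?_, ?_, ?_, ?_⟩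
  · intro v hv hv2 hv0
    have hvH : v ∈ Hz z := mem_Hz.2 hv
    obtain ⟨a, b, c, hall⟩ := hF.outer _ (fun h => hv0 ((K0_iff hvH).1 h)) (sqt hvH hv2)
    obtain ⟨⟨e, he⟩, rfl⟩ := bar_surjective z a
    obtain ⟨⟨f, hf⟩, rfl⟩ := bar_surjective z b
    obtain ⟨⟨g, hg⟩, rfl⟩ := bar_surjective z c
    refine ⟨e, he, f, hf, g, hg, ?_⟩
    have step : ∀ (x : G) (hx : x ∈ Ez z) (d : V z), bar ⟨x, hx⟩ = d →
        sBar z (kmk v hvH) d ≠ d ∧ qf z (d + sBar z (kmk v hvH) d) = 0 →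
        x * v ≠ v * x ∧ x * v * x⁻¹ * v = v * (x * v * x⁻¹) := by
      rintro x hx d rfl ⟨h1, h2⟩
      refine ⟨fun h => h1 ?_, commsq hvH hx hv2 h2⟩
      exact congrArg bar (Subtype.ext (show v * x * v⁻¹ = x by rw [← h, mul_inv_cancel_right]))
    intro x hx
    simp only [List.mem_cons, List.not_mem_nil, or_false] at hx
    rcases hx with rfl | rfl | rfl | rfl | rfl | rfl | rfl
    · exact step _ he _ rfl (hall _ (by simp))
    · exact step _ hf _ rfl (hall _ (by simp))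
    · exact step _ hg _ rfl (hall _ (by simp))
    · exact step _ (mul_mem he hf) _ (bar_mul ⟨e, he⟩ ⟨f, hf⟩) (hall _ (by simp))
    · exact step _ (mul_mem he hg) _ (bar_mul ⟨e, he⟩ ⟨g, hg⟩) (hall _ (by simp))
    · exact step _ (mul_mem hf hg) _ (bar_mul ⟨f, hf⟩ ⟨g, hg⟩) (hall _ (by simp))
    · exact step _ (mul_mem he (mul_mem hf hg)) _
        ((bar_mul ⟨e, he⟩ ⟨f * g, mul_mem hf hg⟩).trans (congrArg (bar ⟨e, he⟩ + ·) (bar_mul ⟨f, hf⟩ ⟨g, hg⟩)))
        (hall _ (by simp))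
  · intro t ht0 ht2 htE
    obtain ⟨v, hfix, hb⟩ := hF.inner_five _ ((K0_iff (hle ht0)).2 ht0) (sqt _ ht2) (net _ htE)
    choose e he using fun i => bar_surjective z (v i)
    have hc : ∀ i, (e i).1 * t = t * (e i).1 ∨ (e i).1 * t = z * (t * (e i).1) := by
      intro i
      rcases fixlift (hle ht0) (e i).2 (by rw [he i]; exact hfix i) with h | h
      · exact Or.inl (mul_inv_eq_iff_eq_mul.1 (mul_inv_eq_one.1 h))
      · refine Or.inr ?_
        rw [← mul_assoc]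
        exact mul_inv_eq_iff_eq_mul.1 (mul_inv_eq_iff_eq_mul.1 h)
    have hne : ∀ i j, i ≠ j → (e i).1 * (e j).1 ≠ (e j).1 * (e i).1 := fun i j hij =>
      (comm_eq_polar hJ (e i).2 (e j).2).2 (by rw [he i, he j]; exact hb i j hij)
    classical
    let φ : Fin 5 → Bool := fun i => decide ((e i).1 * t = t * (e i).1)
    obtain ⟨i, j, k, hij, hik, hjk, h1, h2⟩ : ∃ i j k : Fin 5, i ≠ j ∧ i ≠ k ∧ j ≠ k ∧ φ i = φ j ∧ φ i = φ k :=
      (by decide : ∀ f : Fin 5 → Bool, ∃ i j k : Fin 5, i ≠ j ∧ i ≠ k ∧ j ≠ k ∧ f i = f j ∧ f i = f k) φ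
    cases hφ : φ i
    · -- all three anticommute with `t`; take products
      have hφj : φ j = false := h1.symm.trans hφ
      have hφk : φ k = false := h2.symm.trans hφ
      have g : ∀ l, φ l = false → (e l).1 * t = z * (t * (e l).1) :=
        fun l hl => (hc l).resolve_left (by simpa [φ] using hl)
      have hz : ∀ x ∈ Ez z, x * z = z * x := fun x hx => mem_Hz.1 (Ez_le z hx)
      have prod : ∀ a b, φ a = false → φ b = false → (e a).1 * (e b).1 * t = t * ((e a).1 * (e b).1) := by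
        intro a b ha hb'
        rw [mul_assoc, g b hb', ← mul_assoc, hz _ (e a).2, mul_assoc z, ← mul_assoc (e a).1, g a ha,
          mul_assoc z, ← mul_assoc z z, zz hJ, one_mul, mul_assoc]
      refine ⟨(e i).1 * (e j).1, mul_mem (e i).2 (e j).2, (e i).1 * (e k).1, mul_mem (e i).2 (e k).2,
        prod i j hφ hφj, prod i k hφ hφk, ?_⟩
      have anti : ∀ a b, a ≠ b → (e b).1 * (e a).1 = z * ((e a).1 * (e b).1) := fun a b hab => by
        have h := (comm_cases hJ (e b).2 (e a).2).resolve_left fun h =>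
          hne b a (Ne.symm hab) (mul_inv_eq_iff_eq_mul.1 (mul_inv_eq_one.1 h))
        rw [← mul_assoc]
        exact mul_inv_eq_iff_eq_mul.1 (mul_inv_eq_iff_eq_mul.1 h)
      have hzi : (e i).1 * z = z * (e i).1 := hz _ (e i).2
      have hzj : (e j).1 * z = z * (e j).1 := hz _ (e j).2
      have hzk : (e k).1 * z = z * (e k).1 := hz _ (e k).2
      generalize hA : (e i).1 = A at hzi ⊢
      generalize hB : (e j).1 = B at hzj ⊢
      generalize hC : (e k).1 = C at hzk ⊢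
      have hBA : B * A = z * (A * B) := hA ▸ hB ▸ anti i j hij
      have hCA : C * A = z * (A * C) := hA ▸ hC ▸ anti i k hik
      have hBC : B * C = z * (C * B) := hB ▸ hC ▸ anti k j (Ne.symm hjk)
      have L1 : A * B * (A * C) = A * A * (C * B) := by
        calc A * B * (A * C) = A * (B * A) * C := by group
          _ = A * z * (A * B) * C := by rw [hBA]; group
          _ = z * (A * A * (B * C)) := by rw [hzi]; group
          _ = z * (A * A * z * (C * B)) := by rw [hBC]; group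
          _ = z * z * (A * A * (C * B)) := by
            rw [mul_assoc A A z, hzi, ← mul_assoc A z A, hzi]; group
          _ = A * A * (C * B) := by rw [zz hJ, one_mul]
      have L2 : A * C * (A * B) = z * (A * A * (C * B)) := by
        calc A * C * (A * B) = A * (C * A) * B := by group
          _ = A * z * (A * C) * B := by rw [hCA]; group
          _ = z * (A * A * (C * B)) := by rw [hzi]; group
      rw [L1, L2]
      exact fun h => z_ne hJ (right_eq_mul.1 h)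
    · refine ⟨(e i).1, (e i).2, (e j).1, (e j).2, ?_, ?_, hne i j hij⟩
      · simpa [φ] using hφ
      · simpa [φ] using h1.symm.trans hφ
  · intro t ht0 ht2 htE e he
    exact commsq (hle ht0) he ht2 (hF.inner_iso _ ((K0_iff (hle ht0)).2 ht0) (sqt _ ht2) (net _ htE) _)
  · intro t ht0 ht2 htE
    obtain ⟨v, hv⟩ := hF.inner_big _ ((K0_iff (hle ht0)).2 ht0) (sqt _ ht2) (net _ htE)
    obtain ⟨⟨e, he⟩, rfl⟩ := bar_surjective z v
    have hs : ¬ (e * t * e⁻¹ * t⁻¹ = 1 ∨ e * t * e⁻¹ * t⁻¹ = z) := fun h => hv (eq_of_two hJ (by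
      rw [← bar_comm hJ (hle ht0) he (comm_mem hJ (hle ht0) he)]
      exact ((bar_eq_zero hJ).2 h).symm))
    exact ⟨e, he, fun h => hs (Or.inl h), fun h => hs (Or.inr h)⟩
  · intro t ht0 ht2 htE h hh hcent
    have hhH : h ∈ Hz z := mem_Hz.2 hh
    by_contra hno
    push Not at hno
    obtain ⟨v, u, hv, hu, kv, ku, kvu⟩ := hF.inner_move _ ((K0_iff (hle ht0)).2 ht0) (sqt _ ht2)
      (net _ htE) (kmk h hhH) (fun e => hno.1 ((kmk_eq_one hJ hhH).1 e)) (fun e => hno.2 (by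
        refine (kmk_eq_one hJ (mul_mem hhH (hle ht0))).1 ?_
        rw [show kmk (h * t) (mul_mem hhH (hle ht0)) = kmk h hhH * kmk t (hle ht0) from rfl, e, sqt _ ht2]))
    obtain ⟨⟨a, ha⟩, rfl⟩ := bar_surjective z v
    obtain ⟨⟨b, hb⟩, rfl⟩ := bar_surjective z u
    have fin : ∀ (x : G) (hx : x ∈ Ez z), x * t = t * x → sBar z (kmk h hhH) (bar ⟨x, hx⟩) = bar ⟨x, hx⟩ :=
      fun x hx hxt => congrArg bar (Subtype.ext (show h * x * h⁻¹ = x by
        rw [hcent x hx hxt, mul_inv_cancel_right]))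
    have hz : ∀ x ∈ Ez z, x * z = z * x := fun x hx => mem_Hz.1 (Ez_le z hx)
    rcases fixlift (hle ht0) ha hv with h1 | h1
    · exact kv (fin a ha (mul_inv_eq_iff_eq_mul.1 (mul_inv_eq_one.1 h1)))
    rcases fixlift (hle ht0) hb hu with h2 | h2
    · exact ku (fin b hb (mul_inv_eq_iff_eq_mul.1 (mul_inv_eq_one.1 h2)))
    have g1 : a * t = z * t * a := mul_inv_eq_iff_eq_mul.1 (mul_inv_eq_iff_eq_mul.1 h1)
    have g2 : b * t = z * t * b := mul_inv_eq_iff_eq_mul.1 (mul_inv_eq_iff_eq_mul.1 h2)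
    apply kvu
    rw [← bar_mul]
    refine fin (a * b) (mul_mem ha hb) ?_
    rw [mul_assoc, g2, ← mul_assoc, ← mul_assoc, hz a ha, mul_assoc z, g1, ← mul_assoc, ← mul_assoc,
      zz hJ, one_mul, mul_assoc]
  · intro t ht0 ht2 htE F hFW hzF hFne hn
    have htH := hle ht0
    have htK := (K0_iff htH).2 ht0
    -- `F` lies over the image of `1 + t`
    let W : Subgroup ↥(Ez z) :=
      { carrier := {x | ∃ v, bar x = v + sBar z (kmk t htH) v}
        one_mem' := ⟨0, by simp [bar]⟩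
        mul_mem' := by
          rintro x y ⟨v, hv⟩ ⟨u, hu⟩
          exact ⟨v + u, by rw [bar_mul, hv, hu, map_add]; abel⟩
        inv_mem' := by
          rintro x ⟨v, hv⟩
          refine ⟨v, ?_⟩
          rw [← hv, ← add_zero (bar x⁻¹), ← two_V hJ (bar x), ← add_assoc, ← bar_mul, inv_mul_cancel]
          simp [bar] }
    have hWspan : commSpan z t (Ez z) ≤ W.map (Ez z).subtype := by
      refine (closure_le _).2 ?_
      rintro x (hx | ⟨e, he, hx⟩)
      · rw [hx]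
        exact mem_map.2 ⟨⟨z, z_mem hJ⟩, ⟨0, by rw [(bar_eq_zero hJ).2 (Or.inr rfl), map_zero, add_zero]⟩, rfl⟩
      · rw [← hx]
        exact mem_map.2 ⟨⟨_, comm_mem hJ htH he⟩, ⟨bar ⟨e, he⟩, bar_comm hJ htH he _⟩, rfl⟩
    obtain ⟨y, hy, hy1⟩ : ∃ y ∈ F, y ≠ 1 := by
      by_contra h
      push Not at h
      exact hFne ((eq_bot_iff_forall F).2 h)
    obtain ⟨⟨y', hyE⟩, hyI, hy'⟩ := mem_map.1 (hWspan (hFW hy))
    replace hy' : y' = y := hy'
    subst hy'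
    obtain ⟨v0, hv0⟩ := hyI
    obtain ⟨⟨e1, he1⟩, rfl⟩ := bar_surjective z v0
    have hy0 : bar (⟨y', hyE⟩ : ↥(Ez z)) ≠ 0 := fun h =>
      ((bar_eq_zero hJ).1 h).elim hy1 fun h => hzF (h ▸ hy)
    by_cases hl : ∃ e ∈ Ez z, e * t * e⁻¹ * t⁻¹ = z
    · -- `z` is itself a commutator
      obtain ⟨e0, he0, hz0⟩ := hl
      have hcase : e1 * t * e1⁻¹ * t⁻¹ = y' ∨ e1 * t * e1⁻¹ * t⁻¹ = y' * z :=
        (bar_eq hJ (a := ⟨y', hyE⟩) (b := ⟨_, comm_mem hJ htH he1⟩)).1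
          (hv0.trans (bar_comm hJ htH he1 _).symm)
      rcases hcase with h | h
      · exact ⟨e1, he1, h ▸ hy1, h ▸ hy⟩
      · have h3 : e1 * e0 * t * (e1 * e0)⁻¹ * t⁻¹ = y' := by
          calc e1 * e0 * t * (e1 * e0)⁻¹ * t⁻¹
              = e1 * (e0 * t * e0⁻¹ * t⁻¹) * (t * e1⁻¹ * t⁻¹) := by group
            _ = e1 * z * (t * e1⁻¹ * t⁻¹) := by rw [hz0]
            _ = z * (e1 * t * e1⁻¹ * t⁻¹) := by rw [mem_Hz.1 (Ez_le z he1)]; group
            _ = y' := by rw [h, mem_Hz.1 (Ez_le z hyE), ← mul_assoc, zz hJ, one_mul]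
        exact ⟨e1 * e0, mul_mem he1 he0, h3 ▸ hy1, h3 ▸ hy⟩
    · -- `t` is conjugate under `E` to an element of `C_H(P)`
      push Not at hl
      obtain ⟨e, he, c, hc, htec⟩ := (mem_H0 hJ).1 ht0
      have hkc : kmk t htH = kmk c hc.1 := by
        simp only [htec]
        rw [show kmk (e * c) (mul_mem (Ez_le z he) hc.1) = kmk e (Ez_le z he) * kmk c hc.1 from rfl,
          (kmk_eq_one hJ _).2 he, one_mul]
      have hqc : q' * c = c * q' := mem_centralizer_iff.1 hc.2 q' hq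
      have hfix : ∀ x (hx : x ∈ Ez z), sBar z (kmk c hc.1) (bar ⟨x, hx⟩) = bar ⟨x, hx⟩ → x * c = c * x := by
        intro x hx hfx
        have hwz : q' * z = z * q' := mem_Hz.1 (P_le hJ hq)
        have hq3 := cube hJ hq
        rcases fixlift hc.1 hx hfx with h | h
        · exact mul_inv_eq_iff_eq_mul.1 (mul_inv_eq_one.1 h)
        exfalso
        set x2 := q' * x * q'⁻¹ with hx2
        set x3 := q' * x2 * q'⁻¹ with hx3
        have hx2E : x2 ∈ Ez z := Ez_conj (P_le hJ hq) hx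
        have hx3E : x3 ∈ Ez z := Ez_conj (P_le hJ hq) hx2E
        have cx : ∀ r, r * c * r⁻¹ * c⁻¹ = z → q' * r * q'⁻¹ * c * (q' * r * q'⁻¹)⁻¹ * c⁻¹ = z := by
          intro r hr
          calc q' * r * q'⁻¹ * c * (q' * r * q'⁻¹)⁻¹ * c⁻¹
              = q' * r * (q'⁻¹ * (c * q')) * r⁻¹ * (q'⁻¹ * (c * q'))⁻¹ * q'⁻¹ := by group
            _ = q' * (r * c * r⁻¹ * c⁻¹) * q'⁻¹ := by rw [← hqc, inv_mul_cancel_left]; group
            _ = z := by rw [hr, hwz, mul_inv_cancel_right]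
        have c2 := cx x h
        have c3 := cx x2 c2
        have hprod : x * x2 * x3 = 1 ∨ x * x2 * x3 = z := by
          have hP3 : bar (⟨x * x2 * x3, mul_mem (mul_mem hx hx2E) hx3E⟩ : ↥(Ez z)) = 0 := by
            have e3 : q' * x3 * q'⁻¹ = x := by
              calc q' * x3 * q'⁻¹ = q' * q' * q' * x * (q' * q' * q')⁻¹ := by rw [hx3, hx2]; group
                _ = x := by rw [hq3]; group
            set wq := sBar z (kmk q' (P_le hJ hq)) with hwq
            have h12 : wq (bar ⟨x, hx⟩) = bar ⟨x2, hx2E⟩ := sBar_kmk _ hx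
            have h23 : wq (bar ⟨x2, hx2E⟩) = bar ⟨x3, hx3E⟩ := sBar_kmk _ hx2E
            have h31 : wq (bar ⟨x3, hx3E⟩) = bar ⟨x, hx⟩ :=
              (sBar_kmk _ hx3E).trans (congrArg bar (Subtype.ext e3))
            have hsum : bar (⟨x * x2 * x3, mul_mem (mul_mem hx hx2E) hx3E⟩ : ↥(Ez z)) =
                bar ⟨x, hx⟩ + bar ⟨x2, hx2E⟩ + bar ⟨x3, hx3E⟩ :=
              (bar_mul ⟨x * x2, mul_mem hx hx2E⟩ ⟨x3, hx3E⟩).trans
                (congrArg (· + bar ⟨x3, hx3E⟩) (bar_mul ⟨x, hx⟩ ⟨x2, hx2E⟩))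
            have hwfix : wq (bar ⟨x * x2 * x3, mul_mem (mul_mem hx hx2E) hx3E⟩) =
                bar ⟨x * x2 * x3, mul_mem (mul_mem hx hx2E) hx3E⟩ := by
              rw [hsum, map_add, map_add, h12, h23, h31]; abel
            rw [hwq, sBar_kmk] at hwfix
            refine (bar_eq_zero hJ).2 (free hJ hq hq1 (mul_mem (mul_mem hx hx2E) hx3E) ?_)
            exact (bar_eq hJ).1 hwfix.symm
          exact (bar_eq_zero hJ).1 hP3
        have hc3 : x * x2 * x3 * c * (x * x2 * x3)⁻¹ * c⁻¹ = z := by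
          calc x * x2 * x3 * c * (x * x2 * x3)⁻¹ * c⁻¹
              = x * (x2 * (x3 * c * x3⁻¹ * c⁻¹) * (c * x2⁻¹ * c⁻¹)) * (c * x⁻¹ * c⁻¹) := by group
            _ = x * z * (x2 * c * x2⁻¹ * c⁻¹) * (c * x⁻¹ * c⁻¹) * 1 := by
                  rw [c3, mem_Hz.1 (Ez_le z hx2E)]; group
            _ = x * (c * x⁻¹ * c⁻¹) := by rw [c2, mul_assoc x z z, zz hJ]; group
            _ = z := by rw [← h]; group
        rcases hprod with hp | hp
        · rw [hp] at hc3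
          exact z_ne hJ (by rw [← hc3]; group)
        · rw [hp, (mem_Hz.1 hc.1).symm] at hc3
          exact z_ne hJ (by rw [← hc3]; group)
      have hperp : ∀ u, sBar z (kmk t htH) u = u → polar2 (qf z) (bar ⟨e, he⟩) u = 0 := by
        intro u hu
        obtain ⟨⟨x, hx⟩, rfl⟩ := bar_surjective z u
        have hxc := hfix x hx (hkc ▸ hu)
        have hxt : x * t = t * x := by
          rcases fixlift htH hx hu with h | h
          · exact mul_inv_eq_iff_eq_mul.1 (mul_inv_eq_one.1 h)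
          · exact absurd h (hl x hx)
        rcases (by decide : ∀ a : ZMod 2, a = 0 ∨ a = 1) (polar2 (qf z) (bar ⟨e, he⟩) (bar ⟨x, hx⟩)) with h | h
        · exact h
        · refine absurd ?_ ((comm_eq_polar hJ he hx).2 h)
          apply mul_right_cancel (b := c)
          calc e * x * c = e * c * x := by rw [mul_assoc, hxc, ← mul_assoc]
            _ = x * e * c := by rw [← htec, ← hxt, htec, mul_assoc]
      obtain ⟨v, hv⟩ := hF.inner_perp _ htK (sqt _ ht2) (net _ htE) _ hperp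
      obtain ⟨⟨d, hd⟩, rfl⟩ := bar_surjective z v
      -- `t = d c' d⁻¹`
      set c' := d⁻¹ * t * d with hc'
      have hc'E : c' * c⁻¹ = 1 ∨ c' * c⁻¹ = z := by
        have hdc : d * c * d⁻¹ * c⁻¹ = e ∨ d * c * d⁻¹ * c⁻¹ = e * z :=
          (bar_eq hJ (a := ⟨e, he⟩) (b := ⟨_, comm_mem hJ hc.1 hd⟩)).1
            (by rw [bar_comm hJ hc.1 hd, ← hkc]; exact hv)
        rcases hdc with h | h
        · left; rw [hc', htec, ← h]; group
        · right
          have h1 : e = d * c * d⁻¹ * c⁻¹ * z := by rw [h, mul_assoc, zz hJ, mul_one]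
          have hzc : z * c = c * z := (mem_Hz.1 hc.1).symm
          have hzd : z * d = d * z := (mem_Hz.1 (Ez_le z hd)).symm
          rw [hc', htec, h1]
          calc d⁻¹ * (d * c * d⁻¹ * c⁻¹ * z * c) * d * c⁻¹
              = c * d⁻¹ * c⁻¹ * (z * c) * d * c⁻¹ := by group
            _ = c * d⁻¹ * (z * d) * c⁻¹ := by rw [hzc]; group
            _ = c * z * c⁻¹ := by rw [hzd]; group
            _ = z := by rw [← hzc, mul_inv_cancel_right]
      have hc'C : c' ∈ CP z P := by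
        have : c' = c' * c⁻¹ * c := by group
        rw [this]
        rcases hc'E with h | h <;> rw [h]
        · rwa [one_mul]
        · exact mul_mem (z_mem_CP hJ) hc
      have hdz : d * z = z * d := mem_Hz.1 (Ez_le z hd)
      have htt : t * t = 1 := by rw [← pow_two, ← ht2, pow_orderOf_eq_one]
      have hc'2 : c' * c' = 1 := by
        calc c' * c' = d⁻¹ * (t * t) * d := by rw [hc']; group
          _ = 1 := by rw [htt]; group
      have hc'nE : c' ∉ Ez z := by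
        intro h
        have := mul_mem (mul_mem hd h) (inv_mem hd)
        rw [hc', show d * (d⁻¹ * t * d) * d⁻¹ = t by group] at this
        exact htE this
      let F' : Subgroup G := F.comap (MulAut.conj d).toMonoidHom
      have hy'' : d⁻¹ * y' * d ∈ F' := show d * (d⁻¹ * y' * d) * d⁻¹ ∈ F by
        rwa [show d * (d⁻¹ * y' * d) * d⁻¹ = y' by group]
      have hy''E : d⁻¹ * y' * d ∈ Ez z := mul_mem (mul_mem (inv_mem hd) hyE) hd
      have hbar : bar (⟨d⁻¹ * y' * d, hy''E⟩ : ↥(Ez z)) = bar ⟨y', hyE⟩ := by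
        have e3 : (⟨d⁻¹ * y' * d, hy''E⟩ : ↥(Ez z)) = ⟨d, hd⟩⁻¹ * ⟨y', hyE⟩ * ⟨d, hd⟩ := rfl
        rw [e3, bar_mul, bar_mul]
        have : bar (⟨d, hd⟩⁻¹ : ↥(Ez z)) + bar ⟨d, hd⟩ = 0 := by rw [← bar_mul, inv_mul_cancel]; simp [bar]
        rw [add_comm (bar _) (bar ⟨y', hyE⟩), add_assoc, this, add_zero]
      have hkc' : kmk c' hc'C.1 = kmk t htH := by
        rw [hkc, show kmk c' hc'C.1 = kmk (c' * c⁻¹ * c) (mul_mem (mul_mem hc'C.1 (inv_mem hc.1)) hc.1) from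
          congrArg QuotientGroup.mk (Subtype.ext (show c' = c' * c⁻¹ * c by group))]
        rw [show kmk (c' * c⁻¹ * c) _ = kmk (c' * c⁻¹) (mul_mem hc'C.1 (inv_mem hc.1)) * kmk c hc.1 from rfl,
          (kmk_eq_one hJ _).2 (by rcases hc'E with h | h <;> rw [h] <;> [exact one_mem _; exact z_mem hJ]), one_mul]
      obtain ⟨f, hf, hf1, hfF⟩ := section_aux hJ hq hq1 hF hc'C hc'2 hc'nE F' (fun h hhz hhc r hr => by
          show d * (h * r * h⁻¹) * d⁻¹ ∈ F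
          have h1 : d * h * d⁻¹ * z = z * (d * h * d⁻¹) :=
            (((show Commute d z from hdz).mul_left hhz).mul_left (show Commute d z from hdz).inv_left).eq
          have h2 : d * h * d⁻¹ * t = t * (d * h * d⁻¹) := by
            calc d * h * d⁻¹ * t = d * (h * c') * d⁻¹ := by rw [hc']; group
              _ = d * (c' * h) * d⁻¹ := by rw [hhc]
              _ = t * (d * h * d⁻¹) := by rw [hc']; group
          have := hn _ h1 h2 _ (show d * r * d⁻¹ ∈ F from hr)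
          rwa [show d * h * d⁻¹ * (d * r * d⁻¹) * (d * h * d⁻¹)⁻¹ = d * (h * r * h⁻¹) * d⁻¹ by group] at this)
        hy'' hy''E (hbar ▸ hy0) ⟨bar ⟨e1, he1⟩, by rw [hbar, hkc']; exact hv0⟩
      have hfd : d * f * d⁻¹ * t * (d * f * d⁻¹)⁻¹ * t⁻¹ = d * (f * c' * f⁻¹ * c'⁻¹) * d⁻¹ := by
        rw [hc']; group
      refine ⟨d * f * d⁻¹, mul_mem (mul_mem hd hf) (inv_mem hd), ?_, ?_⟩ <;> rw [hfd]
      · intro h
        rw [mul_inv_eq_one, mul_eq_left] at h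
        exact hf1 h
      · exact hfF

end Base

end Cfsg.Agent.J4Type
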