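import Cfsg.Agent.J4Type.Act

/-!
# The map `H → V ⋊ Γ`
-/

set_option autoImplicit false

open Cfsg Subgroup

namespace Cfsg.Agent.J4Type

open LargeExtra (oc oc_le)

variable {G : Type*} [Group G] [Finite G] {z : G} {P : Subgroup G} {V : Type*} [AddCommGroup V]
  {π : ↥(oc z) →* Multiplicative V} {ρ : ↥(mSub z P) →* Equiv.Perm V} {q : V → ZMod 2}

/-- A factor in `M` of an element of `H = E M`. -/
noncomputable def mPart (P : Subgroup G) (z h : G) : G :=
  open scoped Classical in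
  if hh : ∃ e ∈ oc z, ∃ m ∈ mSub z P, h = e * m then hh.choose_spec.2.choose else 1

/-- The linear part. -/
noncomputable def lin (ρ : ↥(mSub z P) →* Equiv.Perm V) (h : G) : Equiv.Perm V :=
  act ρ (mPart P z h)

/-- The translation part. -/
noncomputable def trans (π : ↥(oc z) →* Multiplicative V) (P : Subgroup G) (h : G) : V :=
  vec π (h * (mPart P z h)⁻¹)

namespace ActData

variable (D : ActData z P π ρ q)
include D

theorem mPart_spec {h : G} (hh : h ∈ centralizer ({z} : Set G)) :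
    mPart P z h ∈ mSub z P ∧ h * (mPart P z h)⁻¹ ∈ oc z := by
  have he := D.decomp h hh
  obtain ⟨hm, heq⟩ := he.choose_spec.2.choose_spec
  have hdef : mPart P z h = he.choose_spec.2.choose := dif_pos he
  rw [hdef]
  refine ⟨hm, ?_⟩
  rw [mul_inv_eq_of_eq_mul heq]
  exact he.choose_spec.1

/-- Uniqueness of the two parts. -/
theorem parts {e m : G} (he : e ∈ oc z) (hm : m ∈ mSub z P) :
    lin ρ (e * m) = act ρ m ∧ trans π P (e * m) = vec π e := by
  have hh : e * m ∈ centralizer ({z} : Set G) := mul_mem (oc_le z he) hm.1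
  obtain ⟨hm', he'⟩ := D.mPart_spec hh
  have hd : m * (mPart P z (e * m))⁻¹ ∈ oc z ⊓ mSub z P := by
    refine ⟨?_, (mSub z P).mul_mem hm ((mSub z P).inv_mem hm')⟩
    have := mul_mem (inv_mem he) he'
    rwa [← mul_assoc, inv_mul_cancel_left] at this
  rw [D.inf_eq, D.mem_zp] at hd
  set m' := mPart P z (e * m) with hm'def
  rcases hd with hd | hd
  · have : m = m' := mul_inv_eq_one.1 hd
    refine ⟨by rw [lin, ← hm'def, this], ?_⟩
    rw [trans, ← hm'def, this, mul_inv_cancel_right]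
  · have hz : z ∈ mSub z P := (D.inf_eq.ge (mem_zpowers z)).2
    have hmm : m = z * m' := mul_inv_eq_iff_eq_mul.1 hd
    refine ⟨?_, ?_⟩
    · rw [lin, ← hm'def, hmm, act_mul hz hm', (D.act_eq_one hz).2 (Or.inr rfl), one_mul]
    · rw [trans, ← hm'def, mul_assoc, hd, vec_mul he D.z_mem, D.vec_z, add_zero]

theorem exists_parts {h : G} (hh : h ∈ centralizer ({z} : Set G)) :
    ∃ e ∈ oc z, ∃ m ∈ mSub z P, h = e * m ∧ lin ρ h = act ρ m ∧ trans π P h = vec π e := by
  obtain ⟨e, he, m, hm, rfl⟩ := D.decomp h hh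
  exact ⟨e, he, m, hm, rfl, D.parts he hm⟩

theorem lin_mul {a b : G} (ha : a ∈ centralizer ({z} : Set G)) (hb : b ∈ centralizer ({z} : Set G)) :
    lin ρ (a * b) = lin ρ a * lin ρ b ∧
      trans π P (a * b) = trans π P a + lin ρ a (trans π P b) := by
  obtain ⟨e, he, m, hm, rfl, h1, h2⟩ := D.exists_parts ha
  obtain ⟨f, hf, n, hn, rfl, h3, h4⟩ := D.exists_parts hb
  have hc := conj_mem D hm.1 hf
  have heq : e * m * (f * n) = e * (m * f * m⁻¹) * (m * n) := by group
  obtain ⟨h5, h6⟩ := D.parts (mul_mem he hc) (mul_mem hm hn)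
  rw [heq, h5, h6, h1, h2, h3, h4, act_mul hm hn, vec_mul he hc, D.vec_conj hm hf]
  exact ⟨rfl, rfl⟩

theorem lin_mem {h : G} (hh : h ∈ centralizer ({z} : Set G)) : lin ρ h ∈ ρ.range := by
  obtain ⟨e, he, m, hm, rfl, h1, -⟩ := D.exists_parts hh
  rw [h1, act_of_mem hm]
  exact ⟨_, rfl⟩

theorem lin_oc {e : G} (he : e ∈ oc z) : lin ρ e = 1 ∧ trans π P e = vec π e := by
  have h := D.parts he (one_mem (mSub z P))
  rwa [mul_one, act_one] at h

theorem lin_mSub {m : G} (hm : m ∈ mSub z P) : lin ρ m = act ρ m ∧ trans π P m = 0 := by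
  have h := D.parts (one_mem (oc z)) hm
  rwa [one_mul, vec_one] at h

theorem lin_eq_one {h : G} (hh : h ∈ centralizer ({z} : Set G)) : lin ρ h = 1 ↔ h ∈ oc z := by
  refine ⟨fun hl => ?_, fun he => (D.lin_oc he).1⟩
  obtain ⟨e, he, m, hm, rfl, h1, -⟩ := D.exists_parts hh
  rw [h1, D.act_eq_one hm] at hl
  rcases hl with rfl | rfl
  · exact mul_mem he (one_mem _)
  · exact mul_mem he D.z_mem

/-- The linear part as a homomorphism. -/
noncomputable def linHom : ↥(centralizer ({z} : Set G)) →* Equiv.Perm V where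
  toFun h := lin ρ (h : G)
  map_one' := (D.lin_oc (one_mem _)).1
  map_mul' a b := (D.lin_mul a.2 b.2).1

theorem lin_inv {a : G} (ha : a ∈ centralizer ({z} : Set G)) : lin ρ a⁻¹ = (lin ρ a)⁻¹ :=
  (linHom D).map_inv ⟨a, ha⟩

theorem lin_add {h : G} (hh : h ∈ centralizer ({z} : Set G)) (v w : V) :
    lin ρ h (v + w) = lin ρ h v + lin ρ h w := by
  obtain ⟨e, he, m, hm, rfl, h1, -⟩ := D.exists_parts hh
  rw [h1, D.act_add hm]

/-- Conjugation of `E` by an element of `H`. -/
theorem vec_conj_lin {h e : G} (hh : h ∈ centralizer ({z} : Set G)) (he : e ∈ oc z) :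
    vec π (h * e * h⁻¹) = lin ρ h (vec π e) := by
  obtain ⟨f, hf, m, hm, rfl, h1, -⟩ := D.exists_parts hh
  have hc := conj_mem D hm.1 he
  rw [h1, show f * m * e * (f * m)⁻¹ = f * (m * e * m⁻¹) * f⁻¹ by group,
    vec_mul (mul_mem hf hc) (inv_mem hf), vec_mul hf hc, D.vec_inv hf, D.vec_conj hm he]
  rw [add_assoc, add_comm (act ρ m (vec π e)), ← add_assoc, D.two, zero_add]

end ActData

end Cfsg.Agent.J4Type
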