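import Cfsg.Agent.LargeExtra.SingularSubgroup

/-!
# Two orthogonal conjugates in an extraspecial setting of order `2 ^ 13`
-/

set_option autoImplicit false

open Cfsg Subgroup

namespace Cfsg.Agent.J4Type

open LargeExtra (oc oc_le Setting)

variable {G : Type*} [Group G] [Finite G]

theorem card_cent {z x : G} (S : Setting z) (hx : x ∈ oc z) (hx1 : x ≠ 1) (hxz : x ≠ z) :
    2 * Nat.card ↥(oc z ⊓ centralizer ({x} : Set G)) = Nat.card ↥(oc z) := by
  obtain ⟨y, hy, hyx⟩ := S.exists_mover hx hx1 hxz
  set Y := oc z ⊓ centralizer ({x} : Set G) with hY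
  have hidx : (Y.subgroupOf (oc z)).index = 2 := by
    rw [index_eq_two_iff]
    refine ⟨⟨y, hy⟩, fun b => ?_⟩
    simp only [mem_subgroupOf, Subgroup.coe_mul, hY, mem_inf, mem_centralizer_singleton_iff]
    have hb : (b : G) * x * (b : G)⁻¹ = x ∨ (b : G) * x * (b : G)⁻¹ = x * z := by
      rcases S.commutator_cases b.2 hx with h | h
      · exact Or.inl (mul_inv_eq_one.1 h)
      · right; rw [mul_inv_eq_iff_eq_mul] at h
        exact h.trans (S.comm_z hx).eq.symm
    have hne : x * z ≠ x := fun h => S.ne_one (mul_eq_left.1 h)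
    have hby : (b : G) * y * x * ((b : G) * y)⁻¹ = (b : G) * x * (b : G)⁻¹ * z := by
      have hzb : (b : G) * z * (b : G)⁻¹ = z := mul_inv_eq_iff_eq_mul.2 (S.comm_z b.2).eq
      rw [show (b : G) * y * x * ((b : G) * y)⁻¹ = (b : G) * (y * x * y⁻¹) * (b : G)⁻¹ by group, hyx,
        show (b : G) * (x * z) * (b : G)⁻¹ = (b : G) * x * (b : G)⁻¹ * ((b : G) * z * (b : G)⁻¹) by
          group, hzb]
    rcases hb with h | h
    · refine Or.inr ⟨⟨b.2, mul_inv_eq_iff_eq_mul.1 h⟩, ?_⟩
      rintro ⟨-, h'⟩
      exact hne ((hby.trans (by rw [h])).symm.trans (mul_inv_eq_iff_eq_mul.2 h'))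
    · refine Or.inl ⟨⟨mul_mem b.2 hy, mul_inv_eq_iff_eq_mul.1 ?_⟩, ?_⟩
      · rw [hby, h, mul_assoc, S.sq_one, mul_one]
      · rintro ⟨-, h'⟩
        exact hne (h.symm.trans (mul_inv_eq_iff_eq_mul.2 h'))
  have h := (Y.subgroupOf (oc z)).card_mul_index
  rw [hidx, Nat.card_congr (subgroupOfEquivOfLe (inf_le_left : Y ≤ oc z)).toEquiv] at h
  rw [← h, mul_comm]

/-- An abelian subgroup of exponent two through `z` is small. -/
theorem card_elem_le {z : G} (S : Setting z) {K : Subgroup G} (hK : K ≤ oc z) (hzK : z ∈ K)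
    (hcomm : ∀ a ∈ K, ∀ b ∈ K, Commute a b) (hsq : ∀ a ∈ K, a * a = 1) :
    Nat.card K * Nat.card K ≤ 2 * Nat.card ↥(oc z) := by
  classical
  have : Fintype G := Fintype.ofFinite G
  suffices hmain : ∀ s : Finset G, (∀ a ∈ s, a ∈ K) →
      Nat.card ↥(closure (insert z (s : Set G))) *
        Nat.card ↥(oc z ⊓ centralizer (insert z (s : Set G))) ≤ 2 * Nat.card ↥(oc z) by
    have h := hmain (Finset.univ.filter (· ∈ K)) (fun a ha => (Finset.mem_filter.1 ha).2)
    have hs : insert z ((Finset.univ.filter (· ∈ K) : Finset G) : Set G) = (K : Set G) := by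
      ext a
      simp only [Set.mem_insert_iff, Finset.coe_filter, Finset.mem_univ, true_and, Set.mem_setOf_eq,
        SetLike.mem_coe, or_iff_right_iff_imp]
      rintro rfl; exact hzK
    rw [hs, closure_eq] at h
    refine le_trans (Nat.mul_le_mul_left _ (card_le_of_le ?_)) h
    exact le_inf hK fun a ha => mem_centralizer_iff.2 fun b hb => (hcomm b hb a ha).eq
  intro s
  induction s using Finset.induction_on with
  | empty =>
    intro _
    rw [Finset.coe_empty, show insert z (∅ : Set G) = {z} by simp, ← zpowers_eq_closure,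
      Nat.card_zpowers, S.ord]
    exact Nat.mul_le_mul_left _ (card_le_of_le inf_le_left)
  | @insert a t hat ih =>
    intro hs
    have ht : ∀ b ∈ t, b ∈ K := fun b hb => hs b (Finset.mem_insert_of_mem hb)
    have haK : a ∈ K := hs a (Finset.mem_insert_self a t)
    set A := closure (insert z (t : Set G)) with hA
    have hAK : A ≤ K := (closure_le _).2 (Set.insert_subset hzK ht)
    have hset : insert z ((insert a t : Finset G) : Set G) = insert a (insert z (t : Set G)) := by
      rw [Finset.coe_insert, Set.insert_comm]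
    rw [hset]
    by_cases haA : a ∈ A
    · have h1 : closure (insert a (insert z (t : Set G))) = A :=
        le_antisymm ((closure_le _).2 (Set.insert_subset haA subset_closure))
          (closure_mono (Set.subset_insert _ _))
      rw [h1]
      exact le_trans (Nat.mul_le_mul_left _ (card_le_of_le
        (inf_le_inf_left _ (centralizer_le (Set.subset_insert _ _))))) (ih ht)
    · -- adjoining `a` doubles the group and at least halves the centraliser
      have hup : Nat.card ↥(closure (insert a (insert z (t : Set G)))) ≤ 2 * Nat.card A := by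
        let f : Bool × A → G := fun x => (if x.1 then a else 1) * x.2
        have hsub : ∀ g ∈ closure (insert a (insert z (t : Set G))), g ∈ Set.range f := by
          intro g hg
          induction hg using closure_induction with
          | mem g hg =>
            rcases hg with rfl | hg
            · exact ⟨(true, 1), by simp [f]⟩
            · exact ⟨(false, ⟨g, subset_closure hg⟩), by simp [f]⟩
          | one => exact ⟨(false, 1), by simp [f]⟩
          | mul x y _ _ hx hy =>
            obtain ⟨⟨i, u⟩, rfl⟩ := hx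
            obtain ⟨⟨j, v⟩, rfl⟩ := hy
            have hc : (u : G) * a = a * u := (hcomm _ (hAK u.2) _ haK).eq
            rcases i <;> rcases j
            · exact ⟨(false, u * v), by simp [f]⟩
            · exact ⟨(true, u * v), by simp [f, ← mul_assoc, hc]⟩
            · exact ⟨(true, u * v), by simp [f, mul_assoc]⟩
            · refine ⟨(false, u * v), ?_⟩
              simp only [f, Subgroup.coe_mul, if_true, Bool.false_eq_true, if_false, one_mul]
              rw [show a * (u : G) * (a * (v : G)) = a * ((u : G) * a) * v by group, hc,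
                ← mul_assoc a a, hsq a haK, one_mul]
          | inv x _ hx =>
            obtain ⟨⟨i, u⟩, rfl⟩ := hx
            have hu : (u : G)⁻¹ = u := inv_eq_of_mul_eq_one_right (hsq _ (hAK u.2))
            refine ⟨(i, u), ?_⟩
            rcases i
            · simp [f, hu]
            · simp [f, hu, inv_eq_of_mul_eq_one_right (hsq a haK), (hcomm _ (hAK u.2) _ haK).eq]
        calc Nat.card ↥(closure (insert a (insert z (t : Set G))))
            ≤ Nat.card (Set.range f) :=
              Nat.card_mono (Set.toFinite _) hsub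
          _ ≤ Nat.card (Bool × A) := Finite.card_range_le f
          _ = 2 * Nat.card A := by rw [Nat.card_prod]; simp
      set C := oc z ⊓ centralizer (insert z (t : Set G)) with hC
      set C' := oc z ⊓ centralizer (insert a (insert z (t : Set G))) with hC'
      have hle : C' ≤ C := inf_le_inf_left _ (centralizer_le (Set.subset_insert _ _))
      have hlt : C' ≠ C := by
        intro heq
        obtain ⟨y, hy, hyA, hya⟩ := S.exists_mover_fixing (hAK.trans hK)
          (subset_closure (Set.mem_insert _ _)) (hK haK) haA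
        have hyC : y ∈ C' := by
          rw [heq]
          exact ⟨hy, mem_centralizer_iff.2 fun b hb => (hyA b (subset_closure hb)).eq.symm⟩
        have h2 : a * y = y * a := mem_centralizer_iff.1 hyC.2 a (Set.mem_insert _ _)
        rw [← h2, mul_inv_cancel_right, right_eq_mul] at hya
        exact S.ne_one hya
      have hdvd : 2 * Nat.card C' ≤ Nat.card C := by
        obtain ⟨k, hk⟩ := card_dvd_of_le hle
        rcases lt_or_ge k 2 with hk2 | hk2
        · interval_cases k
          · exact absurd hk (by rw [mul_zero]; exact Nat.card_pos.ne')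
          · exact absurd (eq_of_le_of_card_ge hle (by omega)) hlt
        · rw [hk, mul_comm 2]; exact Nat.mul_le_mul_left _ hk2
      calc _ ≤ 2 * Nat.card A * Nat.card C' := Nat.mul_le_mul_right _ hup
        _ = Nat.card A * (2 * Nat.card C') := by ring
        _ ≤ Nat.card A * Nat.card C := Nat.mul_le_mul_left _ hdvd
        _ ≤ _ := ih ht

/-- An element exchanging two orthogonal conjugates. -/
theorem exists_swap {z u : G} (Sz : Setting z) (Su : Setting u) (hu : u ∈ oc z) (hz : z ∈ oc u)
    (hne : u ≠ z) : ∃ s : G, s * z * s⁻¹ = u ∧ s * u * s⁻¹ = z := by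
  obtain ⟨f, hf, hfu⟩ := Sz.exists_mover hu Su.ne_one hne
  obtain ⟨g, hg, hgz⟩ := Su.exists_mover hz Sz.ne_one (Ne.symm hne)
  have hfz : f * z * f⁻¹ = z := mul_inv_eq_iff_eq_mul.2 (Sz.comm_z hf).eq
  have hgu : g * u * g⁻¹ = u := mul_inv_eq_iff_eq_mul.2 (Su.comm_z hg).eq
  have hzu : z * u = u * z := (Sz.comm_z hu).eq.symm
  refine ⟨g * f * g, ?_, ?_⟩
  · rw [show g * f * g * z * (g * f * g)⁻¹ = g * (f * (g * z * g⁻¹) * f⁻¹) * g⁻¹ by group, hgz,
      show f * (z * u) * f⁻¹ = (f * z * f⁻¹) * (f * u * f⁻¹) by group, hfz, hfu,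
      ← mul_assoc z u, hzu, mul_assoc u z z, Sz.sq_one, mul_one, hgu]
  · rw [show g * f * g * u * (g * f * g)⁻¹ = g * (f * (g * u * g⁻¹) * f⁻¹) * g⁻¹ by group, hgu, hfu,
      show g * (u * z) * g⁻¹ = (g * u * g⁻¹) * (g * z * g⁻¹) by group, hgu, hgz, hzu, ← mul_assoc,
      Su.sq_one, one_mul]

end Cfsg.Agent.J4Type
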