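import Cfsg.Agent.J4Type.Split

/-!
# A conjugate of `z` other than `z` centralising `P`
-/

set_option autoImplicit false

open Cfsg Subgroup

namespace Cfsg.Agent.J4Type

open LargeExtra (oc oc_le oc_conj_mem conj_mem_oc Setting)

variable {G : Type*} [Group G] [Finite G] {z : G} {P : Subgroup G} {V : Type*} [AddCommGroup V]
  {π : ↥(oc z) →* Multiplicative V} {ρ : ↥(mSub z P) →* Equiv.Perm V} {q : V → ZMod 2}
  {v₀ f₀ : V} {Q₀ : Subgroup (Equiv.Perm V)}

/-- An element of `M` with linear part in `Γ₀` lies in `C_H(P)`. -/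
theorem mem_cSub_of_act (D : ActData z P π ρ q) {m : G} (hm : m ∈ mSub z P)
    (h : act ρ m ∈ gammaZero ρ) : m ∈ cSub z P := by
  obtain ⟨c, hc, he⟩ := h
  rw [SetLike.mem_coe, mem_subgroupOf] at hc
  have hzC : z ∈ cSub z P := by
    refine ⟨mem_centralizer_singleton_iff.2 rfl, ?_⟩
    exact ((D.hJ.2.2.2.2.2.2.1).ge (mem_zpowers z)).2
  have h1 : act ρ ((c : G)⁻¹ * m) = 1 := by
    rw [act_mul (inv_mem c.2) hm, act_inv c.2, act_of_mem c.2, Subtype.coe_eta, he, inv_mul_cancel]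
  rcases (D.act_eq_one ((mSub z P).mul_mem ((mSub z P).inv_mem c.2) hm)).1 h1 with h2 | h2
  · rw [← eq_of_inv_mul_eq_one h2]; exact hc
  · rw [inv_mul_eq_iff_eq_mul.1 h2]; exact mul_mem hc hzC

theorem exists_conj_cSub (D : ActData z P π ρ q)
    (L : LinFacts ρ.range (gammaZero ρ) q v₀ f₀ Q₀) {u : G} (hc : Conf z u) :
    ∃ g : G, g * z * g⁻¹ ∈ cSub z P ∧ g * z * g⁻¹ ≠ z := by
  classical
  obtain ⟨u, N⟩ := exists_nconf L D hc
  have hV : Finite V := Finite.of_surjective _ (Multiplicative.toAdd.surjective.comp D.surj)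
  obtain ⟨F, hF, hsplit⟩ := N.split L
  obtain ⟨v₁, hv₁p, hv₁K, ⟨γ₁, ⟨⟨n, hn⟩, hγ₁⟩, hγ₁v⟩, horb⟩ := L.second
  rw [← hγ₁, ← act_of_mem hn, ← N.vec_u, ← D.vec_conj hn N.conf.mem] at hγ₁v
  set f := n * u * n⁻¹ with hf
  have hfE : f ∈ oc z := ActData.conj_mem D hn.1 N.conf.mem
  have hfu : Commute f u := ((D.polar_eq N.conf.mem hfE).1 (by rw [N.vec_u, hγ₁v]; exact hv₁p)).symm
  obtain ⟨s, hs1, hs2⟩ := N.conf.swap D
  set x := s * f * s⁻¹ with hxdef
  have hx : x ∈ xSub z u := by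
    refine ⟨?_, mem_centralizer_singleton_iff.2 ?_⟩
    · have h := conj_mem_oc (g := s) hfE
      rwa [hs1] at h
    · calc x * z = s * (f * u) * s⁻¹ := by rw [hxdef, ← hs2]; group
        _ = s * (u * f) * s⁻¹ := by rw [hfu.eq]
        _ = z * x := by rw [hxdef, ← hs2]; group
  set γ := lin ρ x with hγdef
  have hγQ : γ ∈ Q₀ := N.lin_mem_Q hx
  have hγ1 : γ ≠ 1 := by
    intro h
    have hxE := (D.lin_eq_one hx.2).1 h
    apply hv₁K
    rw [← hγ₁v]
    refine N.vec_mem_kernel L ⟨hfE, ?_⟩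
    have h' := conj_mem_oc (g := s⁻¹) hxE
    rwa [inv_inv, show s⁻¹ * z * s = u by rw [← hs2]; group,
      show s⁻¹ * x * s = f by rw [hxdef]; group] at h'
  -- the commutators of `x` with `C_E(u)` are governed by the orbit of `v₁`
  set Y := oc z ⊓ centralizer ({u} : Set G) with hY
  let h : G → V := fun r => lin ρ (s⁻¹ * r * s) v₁
  have hYX : ∀ r ∈ Y, s⁻¹ * r * s ∈ xSub z u := by
    intro r hr
    refine ⟨?_, mem_centralizer_singleton_iff.2 ?_⟩
    · have h' := conj_mem_oc (g := s⁻¹) hr.1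
      rwa [inv_inv, show s⁻¹ * z * s = u by rw [← hs2]; group] at h'
    · calc s⁻¹ * r * s * z = s⁻¹ * (r * u) * s := by rw [← hs1]; group
        _ = s⁻¹ * (u * r) * s := by rw [mem_centralizer_singleton_iff.1 hr.2]
        _ = z * (s⁻¹ * r * s) := by rw [← hs1]; group
  let c : G → G := fun r => r * x * r⁻¹ * x⁻¹
  have hcmem : ∀ r ∈ oc z, c r ∈ oc z := by
    intro r hr
    show r * x * r⁻¹ * x⁻¹ ∈ oc z
    rw [show r * x * r⁻¹ * x⁻¹ = r * (x * r⁻¹ * x⁻¹) by group]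
    exact mul_mem hr (ActData.conj_mem D hx.2 (inv_mem hr))
  have hcvec : ∀ r ∈ oc z, vec π (c r) = γ (vec π r) + vec π r := by
    intro r hr
    show vec π (r * x * r⁻¹ * x⁻¹) = _
    rw [show r * x * r⁻¹ * x⁻¹ = r * (x * r⁻¹ * x⁻¹) by group,
      vec_mul hr (ActData.conj_mem D hx.2 (inv_mem hr)), D.vec_conj_lin hx.2 (inv_mem hr), D.vec_inv hr,
      add_comm]
  have hsame : ∀ r ∈ Y, ∀ r' ∈ Y, h r = h r' → c r = c r' ∨ c r = u * c r' := by
    intro r hr r' hr' heq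
    have hX := hYX r hr
    have hX' := hYX r' hr'
    have e1 : vec π ((s⁻¹ * r * s) * f * (s⁻¹ * r * s)⁻¹)
        = vec π ((s⁻¹ * r' * s) * f * (s⁻¹ * r' * s)⁻¹) := by
      rw [D.vec_conj_lin hX.2 hfE, D.vec_conj_lin hX'.2 hfE, hγ₁v]; exact heq
    rcases D.vec_eq (ActData.conj_mem D hX.2 hfE) (ActData.conj_mem D hX'.2 hfE) e1 with h1 | h1
    · left
      show r * x * r⁻¹ * x⁻¹ = r' * x * r'⁻¹ * x⁻¹
      calc r * x * r⁻¹ * x⁻¹
          = s * ((s⁻¹ * r * s) * f * (s⁻¹ * r * s)⁻¹) * s⁻¹ * x⁻¹ := by rw [hxdef]; group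
        _ = _ := by rw [h1, hxdef]; group
    · right
      show r * x * r⁻¹ * x⁻¹ = u * (r' * x * r'⁻¹ * x⁻¹)
      calc r * x * r⁻¹ * x⁻¹
          = s * ((s⁻¹ * r * s) * f * (s⁻¹ * r * s)⁻¹) * s⁻¹ * x⁻¹ := by rw [hxdef]; group
        _ = s * ((s⁻¹ * r' * s) * f * (s⁻¹ * r' * s)⁻¹ * z) * s⁻¹ * x⁻¹ := by rw [h1]
        _ = s * (z * ((s⁻¹ * r' * s) * f * (s⁻¹ * r' * s)⁻¹)) * s⁻¹ * x⁻¹ := by
          rw [(D.comm_z (oc_le z (ActData.conj_mem D hX'.2 hfE))).eq]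
        _ = _ := by rw [← hs1, hxdef]; group
  have hone : (1 : G) ∈ Y := one_mem _
  have hh1 : h 1 = v₁ := by
    show lin ρ (s⁻¹ * 1 * s) v₁ = v₁
    rw [mul_one, inv_mul_cancel, (D.lin_oc (one_mem _)).1, Equiv.Perm.one_apply]
  have hc1 : c 1 = 1 := by show 1 * x * 1⁻¹ * x⁻¹ = 1; group
  set O := {w : V | ∃ δ ∈ Q₀, δ v₁ = w} with hO
  have hOf : O.Finite := Set.toFinite _
  let φ : V → V := fun w => if hw : ∃ r ∈ Y, h r = w then vec π (c hw.choose) else 0
  have hφ : ∀ r ∈ Y, vec π (c r) = φ (h r) ∨ vec π (c r) = φ (h r) + v₀ := by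
    intro r hr
    have hw : ∃ r' ∈ Y, h r' = h r := ⟨r, hr, rfl⟩
    obtain ⟨hr', heq⟩ := hw.choose_spec
    have hφe : φ (h r) = vec π (c hw.choose) := dif_pos hw
    rw [hφe]
    rcases hsame r hr _ hr' heq.symm with h' | h' <;> rw [h']
    · exact Or.inl rfl
    · right; rw [vec_mul N.conf.mem (hcmem _ hr'.1), N.vec_u, add_comm]
  have hcov : ∀ w₁, (∀ r ∈ Y, h r = w₁ → φ w₁ = φ v₁ ∨ φ w₁ = φ v₁ + v₀) →
      w₁ ∈ O → w₁ ≠ v₁ → (commSet q γ v₀).ncard ≤ 6 ∨ ∀ r ∈ Y, h r ≠ w₁ := by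
    intro w₁ hw₁ hw₁O hne
    by_cases hex : ∀ r ∈ Y, h r ≠ w₁
    · exact Or.inr hex
    left
    push Not at hex
    obtain ⟨r₁, hr₁, hr₁w⟩ := hex
    have hd : φ w₁ = φ v₁ ∨ φ w₁ = φ v₁ + v₀ := hw₁ r₁ hr₁ hr₁w
    set O' := O \ {w₁} with hO'
    have hsub : commSet q γ v₀ ⊆ φ '' O' ∪ (fun w => φ w + v₀) '' O' := by
      rintro w ⟨v, hv, hw⟩
      obtain ⟨r, hr, rfl⟩ := D.exists_vec v
      have hrY : r ∈ Y := ⟨hr, mem_centralizer_singleton_iff.2
        ((D.polar_eq N.conf.mem hr).1 (by rw [N.vec_u]; exact hv)).eq.symm⟩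
      rw [← hcvec r hr] at hw
      have hv1O : v₁ ∈ O' := ⟨⟨1, one_mem _, rfl⟩, fun e => hne (Set.mem_singleton_iff.1 e).symm⟩
      have hrO : h r ∈ O := ⟨_, N.lin_mem_Q (hYX r hrY), rfl⟩
      have hgo : ∃ w' ∈ O', vec π (c r) = φ w' ∨ vec π (c r) = φ w' + v₀ := by
        by_cases e : h r = w₁
        · refine ⟨v₁, hv1O, ?_⟩
          have h0 := hφ r hrY
          rw [e] at h0
          rcases hd with d | d <;> rw [d] at h0
          · exact h0
          · rcases h0 with h0 | h0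
            · exact Or.inr h0
            · left; rw [h0, add_assoc, D.two, add_zero]
        · exact ⟨h r, ⟨hrO, e⟩, hφ r hrY⟩
      obtain ⟨w', hw', hcase⟩ := hgo
      rcases hcase with e | e <;> rw [e] at hw <;> rcases hw with rfl | rfl
      · exact Or.inl ⟨w', hw', rfl⟩
      · exact Or.inr ⟨w', hw', rfl⟩
      · exact Or.inr ⟨w', hw', rfl⟩
      · exact Or.inl ⟨w', hw', by rw [add_assoc, D.two, add_zero]⟩
    have h3 : O'.ncard ≤ 3 := by
      have := Set.ncard_diff_singleton_add_one hw₁O hOf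
      rw [hO']; omega
    calc (commSet q γ v₀).ncard ≤ (φ '' O' ∪ (fun w => φ w + v₀) '' O').ncard :=
          Set.ncard_le_ncard hsub (Set.toFinite _)
      _ ≤ (φ '' O').ncard + ((fun w => φ w + v₀) '' O').ncard := Set.ncard_union_le _ _
      _ ≤ O'.ncard + O'.ncard := add_le_add (Set.ncard_image_le (hOf.subset Set.sdiff_subset))
          (Set.ncard_image_le (hOf.subset Set.sdiff_subset))
      _ ≤ 6 := by omega
  have hγ0 : γ ∈ gammaZero ρ := by
    by_contra hno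
    have h8 := L.outerQ γ hγQ hno
    have hsub : commSet q γ v₀ ⊆ φ '' O ∪ (fun w => φ w + v₀) '' O := by
      rintro w ⟨v, hv, hw⟩
      obtain ⟨r, hr, rfl⟩ := D.exists_vec v
      have hrY : r ∈ Y := ⟨hr, mem_centralizer_singleton_iff.2
        ((D.polar_eq N.conf.mem hr).1 (by rw [N.vec_u]; exact hv)).eq.symm⟩
      rw [← hcvec r hr] at hw
      have hrO : h r ∈ O := ⟨_, N.lin_mem_Q (hYX r hrY), rfl⟩
      rcases hφ r hrY with e | e <;> rw [e] at hw <;> rcases hw with rfl | rfl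
      · exact Or.inl ⟨_, hrO, rfl⟩
      · exact Or.inr ⟨_, hrO, rfl⟩
      · exact Or.inr ⟨_, hrO, rfl⟩
      · exact Or.inl ⟨_, hrO, by rw [add_assoc, D.two, add_zero]⟩
    have := Set.ncard_le_ncard hsub (Set.toFinite _)
    have h1 := Set.ncard_union_le (φ '' O) ((fun w => φ w + v₀) '' O)
    have h2 := Set.ncard_image_le (f := φ) hOf
    have h3 := Set.ncard_image_le (f := fun w => φ w + v₀) hOf
    have h4 : O.ncard ≤ 4 := horb
    omega
  obtain ⟨h8, himg⟩ := L.innerQ γ hγQ hγ0 hγ1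
  have hfixcomm : ∀ r ∈ Y, γ (vec π r) = vec π r → Commute r x := by
    intro r hr hfix
    have hc0 : vec π (c r) = 0 := by rw [hcvec r hr.1, hfix, D.two]
    have hc10 : vec π (c 1) = 0 := by rw [hc1, vec_one]
    have hwv : h r = v₁ := by
      by_contra hne
      have hcond : ∀ r' ∈ Y, h r' = h r → φ (h r) = φ v₁ ∨ φ (h r) = φ v₁ + v₀ := by
        intro _ _ _
        have a := hφ r hr
        have b := hφ 1 hone
        rw [hc0] at a
        rw [hc10, hh1] at b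
        rcases a with a | a <;> rcases b with b | b
        · exact Or.inl (a.symm.trans b)
        · exact Or.inr (a.symm.trans b)
        · exact Or.inr (by rw [← b, zero_add, ← D.neg_self v₀]; exact eq_neg_of_add_eq_zero_left a.symm)
        · exact Or.inl (add_right_cancel (a.symm.trans b))
      rcases hcov (h r) hcond ⟨_, N.lin_mem_Q (hYX r hr), rfl⟩ hne with h6 | h6
      · omega
      · exact h6 r hr rfl
    rcases hsame r hr 1 hone (hwv.trans hh1.symm) with e | e <;> rw [hc1] at e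
    · exact mul_inv_eq_iff_eq_mul.1 (mul_inv_eq_one.1 e)
    · exfalso
      rw [e, mul_one, N.vec_u] at hc0
      exact L.ne_zero hc0
  -- in the split group `x` becomes `k m`
  obtain ⟨hker, hlin⟩ := hsplit x hx
  have hFH := oc_le z hF
  have hx' : F * x * F⁻¹ ∈ centralizer ({z} : Set G) :=
    mul_mem (mul_mem hFH hx.2) (inv_mem hFH)
  obtain ⟨k, hk, m, hm, hkm, h1, h2⟩ := D.exists_parts hx'
  rw [h2] at hker
  have hmγ : act ρ m = γ := h1.symm.trans hlin
  have hmC : m ∈ cSub z P := mem_cSub_of_act D hm (by rw [hmγ]; exact hγ0)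
  obtain ⟨w, hw⟩ := himg _ hker (fun v hv hfix => by
    obtain ⟨r, hr, rfl⟩ := D.exists_vec v
    have hrY : r ∈ Y := ⟨hr, mem_centralizer_singleton_iff.2
      ((D.polar_eq N.conf.mem hr).1 (by rw [N.vec_u]; exact hv)).eq.symm⟩
    have hrx := hfixcomm r hrY hfix
    have hrF : Commute r (F * x * F⁻¹) := by
      have : Commute (F * r * F⁻¹) (F * x * F⁻¹) := by
        show F * r * F⁻¹ * (F * x * F⁻¹) = F * x * F⁻¹ * (F * r * F⁻¹)
        calc _ = F * (r * x) * F⁻¹ := by group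
          _ = F * (x * r) * F⁻¹ := by rw [hrx.eq]
          _ = _ := by group
      rcases D.comm_cases hF hr with e | e <;> rw [e] at this
      · exact this
      · have hzx : Commute z (F * x * F⁻¹) := (D.comm_z hx').symm
        have := this.mul_left hzx
        rwa [mul_assoc, D.zz, mul_one] at this
    have hrm : Commute r m :=
      (D.commute_of_fix hm hr (by rw [hmγ]; exact hfix) (Or.inl hmC)).symm
    rw [hkm] at hrF
    have hrk : Commute r k := by
      have := hrF.mul_right hrm.inv_right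
      rwa [mul_inv_cancel_right] at this
    exact (D.polar_eq hk hr).2 hrk.symm)
  obtain ⟨w, hwE, rfl⟩ := D.exists_vec w
  have hwm : w * m * w⁻¹ = w * (m * w⁻¹ * m⁻¹) * m := by group
  have hvk : vec π (w * (m * w⁻¹ * m⁻¹)) = vec π k := by
    rw [vec_mul hwE (ActData.conj_mem D hm.1 (inv_mem hwE)), D.vec_conj hm (inv_mem hwE), D.vec_inv hwE,
      hmγ, add_comm, hw]
  have hy : ∃ y ∈ cSub z P, y ≠ z ∧ w⁻¹ * (F * x * F⁻¹) * w = y := by
    have hzC : z ∈ cSub z P :=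
      ⟨mem_centralizer_singleton_iff.2 rfl, ((D.hJ.2.2.2.2.2.2.1).ge (mem_zpowers z)).2⟩
    have hne : ∀ b : G, act ρ b = 1 → m * b ∈ mSub z P → b ∈ mSub z P → m * b ≠ z := by
      intro b hb hmb hbM h'
      apply hγ1
      have := congrArg (act ρ) h'
      rw [act_mul hm hbM, hb, mul_one, hmγ,
        (D.act_eq_one (D.inf_eq.ge (mem_zpowers z)).2).2 (Or.inr rfl)] at this
      exact this
    rcases D.vec_eq (mul_mem hwE (ActData.conj_mem D hm.1 (inv_mem hwE))) hk hvk with e | e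
    · refine ⟨m, hmC, ?_, ?_⟩
      · have := hne 1 act_one (by rwa [mul_one]) (one_mem _)
        rwa [mul_one] at this
      · rw [hkm, ← e]; group
    · have hzM := (D.inf_eq.ge (mem_zpowers z)).2
      refine ⟨m * z, mul_mem hmC hzC, hne z ((D.act_eq_one hzM).2 (Or.inr rfl))
        (mul_mem hm hzM) hzM, ?_⟩
      have hk' : k = w * (m * w⁻¹ * m⁻¹) * z := by rw [e, mul_assoc, D.zz, mul_one]
      rw [hkm, hk']
      calc w⁻¹ * (w * (m * w⁻¹ * m⁻¹) * z * m) * w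
          = m * w⁻¹ * m⁻¹ * (z * m) * w := by group
        _ = m * w⁻¹ * (z * w) := by rw [← (D.comm_z hm.1).eq]; group
        _ = m * z := by rw [← (D.comm_z (oc_le z hwE)).eq]; group
  obtain ⟨y, hyC, hyz, hyeq⟩ := hy
  obtain ⟨g, hg⟩ := N.conf.conj
  refine ⟨w⁻¹ * F * s * n * g, ?_, ?_⟩
  all_goals
    rw [show w⁻¹ * F * s * n * g * z * (w⁻¹ * F * s * n * g)⁻¹
      = w⁻¹ * (F * (s * (n * (g * z * g⁻¹) * n⁻¹) * s⁻¹) * F⁻¹) * w by group, hg]
    show _
    rw [← hf, ← hxdef, hyeq]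
  · exact hyC
  · exact hyz

end Cfsg.Agent.J4Type
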