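import Cfsg.Agent.J4Type.DuadStab
import Cfsg.Agent.S5005

/-!
# Elements of order seven of the automorphism group of M22

Their centralisers have order 14 as soon as one of them commutes with an involution, and their normalisers
have order 42.
-/

set_option autoImplicit false

open Cfsg Subgroup

namespace Cfsg.Agent.J4Type

/-- Conjugate subgroups have centralisers of one order. -/
theorem card_centralizer_conj {K : Type*} [Group K] (g : K) (S : Subgroup K) :
    Nat.card ↥(centralizer ((S.map (MulAut.conj g).toMonoidHom : Subgroup K) : Set K)) =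
      Nat.card ↥(centralizer (S : Set K)) := by
  have h : centralizer ((S.map (MulAut.conj g).toMonoidHom : Subgroup K) : Set K) =
      (centralizer (S : Set K)).map (MulAut.conj g).toMonoidHom := by
    ext x
    rw [mem_centralizer_iff]
    constructor
    · intro hx
      refine ⟨g⁻¹ * x * g, mem_centralizer_iff.2 fun s hs => ?_, by simp [mul_assoc]⟩
      have := hx (g * s * g⁻¹) ⟨s, hs, by simp⟩
      calc s * (g⁻¹ * x * g) = g⁻¹ * (g * s * g⁻¹ * x) * g := by group
        _ = g⁻¹ * (x * (g * s * g⁻¹)) * g := by rw [this]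
        _ = g⁻¹ * x * g * s := by group
    · rintro ⟨c, hc, rfl⟩ _ ⟨s, hs, rfl⟩
      have := mem_centralizer_iff.1 hc s hs
      simp only [MulEquiv.coe_toMonoidHom, MulAut.conj_apply]
      calc g * s * g⁻¹ * (g * c * g⁻¹) = g * (s * c) * g⁻¹ := by group
        _ = g * c * g⁻¹ * (g * s * g⁻¹) := by rw [this]; group
  rw [h, card_map_of_injective (MulAut.conj g).injective]

/-- The centraliser of an element is that of the cyclic group it generates. -/
theorem centralizer_zpowers_eq {K : Type*} [Group K] (g : K) :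
    centralizer ((zpowers g : Subgroup K) : Set K) = centralizer ({g} : Set K) := by
  rw [zpowers_eq_closure, centralizer_closure]

namespace AutSeven

instance : Finite (MulAut ↥Spor.M22) :=
  Finite.of_injective (fun f => (f : ↥Spor.M22 → ↥Spor.M22)) DFunLike.coe_injective

theorem conj_inj : Function.Injective (MulAut.conj : ↥Spor.M22 →* MulAut ↥Spor.M22) :=
  (injective_iff_map_eq_one _).2 fun x hx => by
    have hx' : x ∈ center ↥Spor.M22 := mem_center_iff.2 fun y => by
      have e : x * y * x⁻¹ = y := by rw [← MulAut.conj_apply, hx]; rfl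
      exact (mul_inv_eq_iff_eq_mul.1 e).symm
    rwa [m22_center, mem_bot] at hx'

theorem inn_index : (Inn ↥Spor.M22).index = 2 := by rw [index_eq_card]; exact S2062.result

theorem card_m22_seven (g : ↥Spor.M22) (hg : orderOf g = 7) :
    Nat.card ↥(centralizer ({g} : Set ↥Spor.M22)) = 7 ∧ Nat.card (Sylow 7 ↥Spor.M22) = 21120 := by
  haveI : Fact (Nat.Prime 7) := ⟨by norm_num⟩
  obtain ⟨S, hS⟩ := (IsPGroup.of_card (p := 7) (n := 1) (G := zpowers g)
    (by rw [Nat.card_zpowers, hg, pow_one])).exists_le_sylow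
  obtain ⟨e, he, hc, he', hn⟩ := S5005.sylow_data (Or.inr (Or.inl rfl)) S
  have hgS : zpowers g = (S : Subgroup ↥Spor.M22) := eq_of_le_of_card_ge hS (by
    rw [he.card, Nat.card_zpowers, hg])
  refine ⟨by rw [← centralizer_zpowers_eq, hgS]; exact hc, ?_⟩
  rcases he' with ⟨h, -⟩ | ⟨-, h⟩ | ⟨h, -⟩
  · omega
  · subst h
    have hn' : Nat.card (Sylow 7 ↥Spor.M22) * (3 * 7) = 443520 := hn
    omega
  · omega

theorem exists_inner {τ : MulAut ↥Spor.M22} (hτ : orderOf τ = 7) :
    ∃ g : ↥Spor.M22, MulAut.conj g = τ ∧ orderOf g = 7 := by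
  have h2 := Subgroup.mul_self_mem_of_index_two inn_index (τ ^ 4)
  rw [← pow_add, show 4 + 4 = 7 + 1 from rfl, pow_succ, ← hτ, pow_orderOf_eq_one, one_mul] at h2
  obtain ⟨g, rfl⟩ := h2
  exact ⟨g, rfl, by rw [← orderOf_injective _ conj_inj g, hτ]⟩

/-- The centraliser has order 7 or 14, and the inner part order 7. -/
theorem card_cent_cases {τ : MulAut ↥Spor.M22} (hτ : orderOf τ = 7) :
    Nat.card ↥(centralizer ({τ} : Set (MulAut ↥Spor.M22))) = 7 ∨
      Nat.card ↥(centralizer ({τ} : Set (MulAut ↥Spor.M22))) = 14 := by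
  obtain ⟨g, hgτ, hg⟩ := exists_inner hτ
  set C := centralizer ({τ} : Set (MulAut ↥Spor.M22)) with hC
  have h7 : Nat.card ↥((Inn ↥Spor.M22).subgroupOf C) = 7 := by
    rw [← (card_m22_seven g hg).1]
    refine (Nat.card_congr (Equiv.ofBijective
      (fun x : centralizer ({g} : Set ↥Spor.M22) => (⟨⟨MulAut.conj (x : ↥Spor.M22), by
        rw [hC, mem_centralizer_singleton_iff, ← hgτ, ← map_mul, ← map_mul,
          mem_centralizer_singleton_iff.1 x.2]⟩, mem_subgroupOf.2 ⟨_, rfl⟩⟩ :
          ↥((Inn ↥Spor.M22).subgroupOf C))) ⟨fun a b h => ?_, fun y => ?_⟩)).symm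
    · exact Subtype.ext (conj_inj (congrArg (fun w : ↥((Inn ↥Spor.M22).subgroupOf C) =>
        ((w : ↥C) : MulAut ↥Spor.M22)) h))
    · obtain ⟨x, hx⟩ := mem_subgroupOf.1 y.2
      refine ⟨⟨x, ?_⟩, Subtype.ext (Subtype.ext hx)⟩
      rw [mem_centralizer_singleton_iff]
      apply conj_inj
      have := mem_centralizer_singleton_iff.1 y.1.2
      rw [map_mul, map_mul, hgτ, hx]
      exact this
  have hd : ((Inn ↥Spor.M22).subgroupOf C).index ∣ 2 := by
    rw [← inn_index]
    have : (Inn ↥Spor.M22).Normal := ⟨fun x hx a => by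
      obtain ⟨g, rfl⟩ := hx
      exact ⟨a g, MulEquiv.ext fun y => by simp⟩⟩
    exact relIndex_dvd_index_of_normal _ _
  have hm := ((Inn ↥Spor.M22).subgroupOf C).card_mul_index
  rw [h7] at hm
  rcases (Nat.dvd_prime Nat.prime_two).1 hd with h | h <;> rw [h] at hm <;> omega

theorem sylow_seven {τ : MulAut ↥Spor.M22} (hτ : orderOf τ = 7) :
    ∃ S : Sylow 7 (MulAut ↥Spor.M22), (S : Subgroup _) = zpowers τ := by
  haveI : Fact (Nat.Prime 7) := ⟨by norm_num⟩
  obtain ⟨S, hS⟩ := (IsPGroup.of_card (p := 7) (n := 1) (G := zpowers τ)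
    (by rw [Nat.card_zpowers, hτ, pow_one])).exists_le_sylow
  refine ⟨S, (eq_of_le_of_card_ge hS ?_).symm⟩
  rw [Sylow.card_eq_multiplicity, card_mulAut_m22, Nat.card_zpowers, hτ,
    show (887040 : ℕ) = 7 * 126720 by norm_num, Nat.factorization_mul (by norm_num) (by norm_num),
    Finsupp.add_apply, (by norm_num : Nat.Prime 7).factorization_self,
    Nat.factorization_eq_zero_of_not_dvd (by norm_num : ¬ 7 ∣ 126720)]
  norm_num

/-- All centralisers of elements of order seven have order 14 if one is even. -/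
theorem card_cent {τ₀ β : MulAut ↥Spor.M22} (hτ₀ : orderOf τ₀ = 7) (hc : β * τ₀ = τ₀ * β) (hβ : β * β = 1)
    (hβ1 : β ≠ 1) {τ : MulAut ↥Spor.M22} (hτ : orderOf τ = 7) :
    Nat.card ↥(centralizer ({τ} : Set (MulAut ↥Spor.M22))) = 14 := by
  have h0 : Nat.card ↥(centralizer ({τ₀} : Set (MulAut ↥Spor.M22))) = 14 := by
    refine (card_cent_cases hτ₀).resolve_left fun h => ?_
    have hd := _root_.orderOf_dvd_natCard
      (⟨β, mem_centralizer_singleton_iff.2 hc⟩ : centralizer ({τ₀} : Set (MulAut ↥Spor.M22)))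
    haveI : Fact (Nat.Prime 2) := ⟨Nat.prime_two⟩
    rw [orderOf_mk, orderOf_eq_prime (by rw [pow_two, hβ]) hβ1, h] at hd
    omega
  haveI : Fact (Nat.Prime 7) := ⟨by norm_num⟩
  obtain ⟨S, hS⟩ := sylow_seven hτ
  obtain ⟨S₀, hS₀⟩ := sylow_seven hτ₀
  obtain ⟨g, hg⟩ := MulAction.exists_smul_eq (MulAut ↥Spor.M22) S₀ S
  rw [← centralizer_zpowers_eq, ← hS, ← hg, Sylow.coe_subgroup_smul]
  rw [← centralizer_zpowers_eq, ← hS₀] at h0
  rw [← h0]
  exact card_centralizer_conj g _

/-- The normaliser has order 42. -/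
theorem card_norm {τ : MulAut ↥Spor.M22} (hτ : orderOf τ = 7) :
    Nat.card ↥(normalizer ((zpowers τ : Subgroup _) : Set (MulAut ↥Spor.M22))) = 42 := by
  haveI : Fact (Nat.Prime 7) := ⟨by norm_num⟩
  obtain ⟨g, rfl, hg⟩ := exists_inner hτ
  obtain ⟨S, hS⟩ := sylow_seven hτ
  have hn : Nat.card (Sylow 7 (MulAut ↥Spor.M22)) = 21120 := by
    rw [← (card_m22_seven g hg).2]
    refine (Nat.card_congr (Equiv.ofBijective
      (fun T : Sylow 7 ↥Spor.M22 => Classical.choose ((T.isPGroup'.map (MulAut.conj (G := ↥Spor.M22))).exists_le_sylow))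
      ⟨fun T T' h => ?_, fun U => ?_⟩)).symm
    · have key : ∀ T : Sylow 7 ↥Spor.M22, ((Classical.choose
          ((T.isPGroup'.map (MulAut.conj (G := ↥Spor.M22))).exists_le_sylow) : Sylow 7 _) : Subgroup _).comap
          (MulAut.conj (G := ↥Spor.M22)) = T := fun T => T.is_maximal'
        ((Sylow.isPGroup' _).comap_of_injective _ conj_inj)
        (le_trans (le_comap_map _ _) (comap_mono (Classical.choose_spec
          ((T.isPGroup'.map (MulAut.conj (G := ↥Spor.M22))).exists_le_sylow))))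
      exact Sylow.ext (by rw [← key T, ← key T', show (Classical.choose
          ((T.isPGroup'.map (MulAut.conj (G := ↥Spor.M22))).exists_le_sylow)) = _ from h])
    · obtain ⟨σ, hσ⟩ : ∃ σ, orderOf σ = 7 ∧ (U : Subgroup (MulAut ↥Spor.M22)) = zpowers σ := by
        obtain ⟨b, hb⟩ := MulAction.exists_smul_eq (MulAut ↥Spor.M22) S U
        refine ⟨b * MulAut.conj g * b⁻¹, ?_, ?_⟩
        · exact (orderOf_injective (MulAut.conj b).toMonoidHom (MulAut.conj b).injective _).trans hτ
        · rw [← hb, Sylow.coe_subgroup_smul, hS]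
          exact MonoidHom.map_zpowers (MulAut.conj b).toMonoidHom (MulAut.conj g)
      obtain ⟨x, hx, hxo⟩ := exists_inner hσ.1
      obtain ⟨T, hT⟩ := (IsPGroup.of_card (p := 7) (n := 1) (G := zpowers x)
        (by rw [Nat.card_zpowers, hxo, pow_one])).exists_le_sylow
      refine ⟨T, ?_⟩
      have hle := Classical.choose_spec
        ((T.isPGroup'.map (MulAut.conj (G := ↥Spor.M22))).exists_le_sylow)
      refine Sylow.ext (eq_of_le_of_card_ge ?_ ?_).symm
      · rw [hσ.2, ← hx, zpowers_le]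
        exact hle ⟨x, hT (mem_zpowers x), rfl⟩
      · rw [Sylow.card_eq_multiplicity, Sylow.card_eq_multiplicity]
  have h := Sylow.card_eq_index_normalizer S
  have hm := (normalizer (((S : Subgroup (MulAut ↥Spor.M22))) : Set (MulAut ↥Spor.M22))).card_mul_index
  have h' : Nat.card (Sylow 7 (MulAut ↥Spor.M22)) =
    (normalizer (((S : Subgroup (MulAut ↥Spor.M22))) : Set (MulAut ↥Spor.M22))).index := h
  rw [card_mulAut_m22, ← h', hn] at hm
  rw [← hS]
  omega

end AutSeven

end Cfsg.Agent.J4Type
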