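import Cfsg.Agent.J4Type.SevenAut
import Cfsg.Agent.J4Type.BaseAct
import Cfsg.Agent.J4Type.Hom

/-!
# The centraliser and normaliser in `H` of an element of order seven of `C_H(P)`
-/

set_option autoImplicit false

open Cfsg Subgroup

namespace Cfsg.Agent.J4Type

open LargeExtra (oc oc_le)

universe u

variable {G : Type u} [Group G] {z : G} {P : Subgroup G}

/-- `N_H(P)` maps onto the automorphism group of M22 with kernel `P × ⟨z⟩`. -/
theorem exists_mu [Finite G] (hJ : IsOfJankoFourTypeWith z P) : ∃ μ : ↥(mSub z P) →* MulAut ↥Spor.M22,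
    Function.Surjective μ ∧ ∀ n, μ n = 1 ↔ ∃ e ∈ zpowers z, ∃ q ∈ P, (n : G) = e * q := by
  obtain ⟨N, hEN, hNH, hHN, hcard, ⟨hNn, ⟨f⟩⟩, hPN⟩ := hJ.2.2.2.2.1
  have := hNn
  let μ : ↥(mSub z P) →* MulAut ↥Spor.M22 :=
    f.toMonoidHom.comp ((QuotientGroup.mk' _).comp (inclusion inf_le_left))
  refine ⟨μ, fun a => ?_, fun n => ?_⟩
  · obtain ⟨b, hb⟩ := QuotientGroup.mk_surjective (f.symm a)
    obtain ⟨e, he, n, hn, hbe⟩ := Base.mem_split hJ b.2
    refine ⟨⟨n, hn⟩, ?_⟩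
    have h1 : QuotientGroup.mk' (N.subgroupOf (centralizer ({z} : Set G))) ⟨n, hn.1⟩ = f.symm a := by
      rw [← hb]
      refine QuotientGroup.eq.2 (mem_subgroupOf.2 ?_)
      show n⁻¹ * b.1 ∈ N
      rw [hbe, ← mul_assoc]
      have := (mem_normalizer_iff.1 (hHN ((centralizer ({z} : Set G)).inv_mem hn.1)) e).1 (hEN he)
      simpa using this
    show f (QuotientGroup.mk' _ ⟨n, hn.1⟩) = a
    rw [h1, f.apply_symm_apply]
  · have h0 : μ n = 1 ↔ n.1 ∈ N := by
      show f (QuotientGroup.mk' _ (⟨n.1, n.2.1⟩ : ↥(centralizer ({z} : Set G)))) = 1 ↔ _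
      rw [EmbeddingLike.map_eq_one_iff, QuotientGroup.mk'_apply, QuotientGroup.eq_one_iff, mem_subgroupOf]
    rw [h0]
    constructor
    · intro hn
      obtain ⟨e, he, q, hq, h⟩ := Base.mem_N_split hJ hEN hNH hPN hcard hn
      refine ⟨e, ?_, q, hq, h⟩
      have hen : e ∈ normalizer (P : Set G) := by
        rw [show e = n.1 * q⁻¹ by rw [h, mul_inv_cancel_right]]
        exact mul_mem n.2.2 (inv_mem (le_normalizer hq))
      rcases Base.Ez_inter_NP hJ he hen with h1 | h1 <;> rw [h1]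
      · exact one_mem _
      · exact mem_zpowers z
    · rintro ⟨e, he, q, hq, h⟩
      rw [h]
      exact mul_mem (hEN (zpowers_le.2 (Base.z_mem hJ) he)) (hPN hq)

theorem card_centralizer_z [Finite G] (hJ : IsOfJankoFourTypeWith z P) :
    Nat.card ↥(centralizer ({z} : Set G)) = 3 * 2 ^ 13 * 887040 := by
  obtain ⟨N, hEN, hNH, hHN, hcard, ⟨hNn, ⟨f⟩⟩, hPN⟩ := hJ.2.2.2.2.1
  rw [← (N.subgroupOf (centralizer ({z} : Set G))).card_mul_index,
    Nat.card_congr (subgroupOfEquivOfLe hNH).toEquiv, index_eq_card, Nat.card_congr f.toEquiv,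
    card_mulAut_m22, hcard, hJ.2.2.1]

theorem mem_normalizer_zpowers [Finite G] {σ n : G} :
    n ∈ normalizer ((zpowers σ : Subgroup G) : Set G) ↔ n * σ * n⁻¹ ∈ zpowers σ := by
  refine ⟨fun h => (mem_normalizer_iff.1 h σ).1 (mem_zpowers σ), fun h => ?_⟩
  have hle : (zpowers σ).map (MulAut.conj n).toMonoidHom = zpowers σ := by
    refine eq_of_le_of_card_ge ?_ (le_of_eq (card_map_of_injective (MulAut.conj n).injective).symm)
    rw [MonoidHom.map_zpowers, zpowers_le]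
    exact h
  rw [mem_normalizer_iff]
  intro x
  constructor
  · exact fun hx => hle ▸ ⟨x, hx, rfl⟩
  · intro hx
    rw [← hle] at hx
    obtain ⟨y, hy, hyx⟩ := hx
    rwa [← mul_left_cancel (mul_right_cancel (show n * y * n⁻¹ = n * x * n⁻¹ from hyx))]

variable [Finite G] {V : Type*} [AddCommGroup V] {π : ↥(oc z) →* Multiplicative V}
  {ρ : ↥(mSub z P) →* Equiv.Perm V} {q : V → ZMod 2}

/-- The normaliser in `H` of the subgroup of order seven lies in `M`. -/
theorem norm_seven_le (D : ActData z P π ρ q) {σ : G} (hσ : σ ∈ cSub z P) (h7 : orderOf σ = 7)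
    (hfix : ∀ e ∈ oc z, Commute σ e → e = 1 ∨ e = z) {h : G} (hh : h ∈ centralizer ({z} : Set G))
    (hn : h * σ * h⁻¹ ∈ zpowers σ) : h ∈ mSub z P := by
  obtain ⟨e, he, m, hm, rfl⟩ := D.decomp h hh
  set τ := e * m * σ * (e * m)⁻¹ with hτ
  have hσM := cSub_le_mSub z P hσ
  have hτM : τ ∈ mSub z P := zpowers_le.2 hσM hn
  have hτ7 : τ ^ 7 = 1 := by
    rw [hτ, ← MulAut.conj_apply, ← map_pow, ← h7, pow_orderOf_eq_one, map_one]
  have hme : e⁻¹ * τ * e = m * σ * m⁻¹ := by rw [hτ]; group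
  have hd : e⁻¹ * τ * e * τ⁻¹ ∈ zpowers z := by
    refine D.inf_eq.le ⟨?_, ?_⟩
    · rw [show e⁻¹ * τ * e * τ⁻¹ = e⁻¹ * (τ * e * τ⁻¹) by group]
      exact (oc z).mul_mem ((oc z).inv_mem he) (ActData.conj_mem D hτM.1 he)
    · rw [hme]
      exact (mSub z P).mul_mem ((mSub z P).mul_mem ((mSub z P).mul_mem hm hσM) ((mSub z P).inv_mem hm))
        ((mSub z P).inv_mem hτM)
  have hce : Commute τ e := by
    rcases D.mem_zp.1 hd with h1 | h1
    · show τ * e = e * τ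
      calc τ * e = e * (e⁻¹ * τ * e * τ⁻¹) * τ := by group
        _ = e * τ := by rw [h1, mul_one]
    · exfalso
      have h2 : e⁻¹ * τ * e⁻¹⁻¹ = z * τ := by rw [inv_inv, ← h1]; group
      have h3 : (e⁻¹ * τ * e⁻¹⁻¹) ^ 7 = (z * τ) ^ 7 := by rw [h2]
      rw [conj_pow, hτ7, mul_one, mul_inv_cancel, (D.comm_z hτM.1).symm.mul_pow, hτ7, mul_one] at h3
      rw [pow_succ, show (6 : ℕ) = 2 * 3 from rfl, pow_mul, pow_two, D.zz, one_pow, one_mul] at h3
      exact D.z_ne h3.symm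
  haveI : Fact (Nat.Prime 7) := ⟨by norm_num⟩
  have hgen : σ ∈ zpowers τ := by
    have hτ1 : τ ≠ 1 := fun h1 => by
      rw [hτ, conj_eq_one_iff] at h1
      rw [h1, orderOf_one] at h7
      omega
    have : zpowers τ = zpowers σ := eq_of_le_of_card_ge (zpowers_le.2 hn) (by
      rw [Nat.card_zpowers, Nat.card_zpowers, h7, orderOf_eq_prime hτ7 hτ1])
    rw [this]
    exact mem_zpowers σ
  obtain ⟨k, hk⟩ := mem_zpowers_iff.1 hgen
  rcases hfix e he (hk ▸ hce.zpow_left k) with h1 | h1 <;> rw [h1]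
  · rwa [one_mul]
  · exact (mSub z P).mul_mem (D.inf_eq.ge (mem_zpowers z)).2 hm

/-- The centraliser in `H` has order 84, the normaliser order 252. -/
theorem seven_cards (D : ActData z P π ρ q) {σ i : G} (hσ : σ ∈ cSub z P) (h7 : orderOf σ = 7)
    (hfix : ∀ e ∈ oc z, Commute σ e → e = 1 ∨ e = z) (hi : i ∈ mSub z P) (hiC : i ∉ cSub z P)
    (hi2 : i * i = 1) (hσi : Commute σ i) :
    Nat.card ↥(centralizer ({z} : Set G) ⊓ centralizer ({σ} : Set G)) = 84 ∧
    Nat.card ↥(centralizer ({z} : Set G) ⊓ normalizer ((zpowers σ : Subgroup G) : Set G)) = 252 ∧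
    ∀ τ : MulAut ↥Spor.M22, orderOf τ = 7 →
      Nat.card ↥(centralizer ({τ} : Set (MulAut ↥Spor.M22))) = 14 := by
  classical
  obtain ⟨μ, hμ, hker⟩ := exists_mu D.hJ
  have hσM := cSub_le_mSub z P hσ
  haveI : Fact (Nat.Prime 7) := ⟨by norm_num⟩
  haveI : Fact (Nat.Prime 2) := ⟨Nat.prime_two⟩
  have hzC : z ∈ cSub z P :=
    ⟨mem_centralizer_singleton_iff.2 rfl, ((D.hJ.2.2.2.2.2.2.1).ge (mem_zpowers z)).2⟩
  have hkσ : ∀ k : ↥(mSub z P), μ k = 1 → Commute (k : G) σ ∧ (k : G) ^ 6 = 1 ∧ (k : G) ∈ cSub z P := by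
    intro k hk
    obtain ⟨e, he, r, hr, hkr⟩ := (hker k).1 hk
    have hre : Commute e r := by
      rcases D.mem_zp.1 he with h | h <;> rw [h]
      · exact Commute.one_left r
      · exact (D.comm_z (Base.P_le D.hJ hr)).symm
    have he2 : e ^ 2 = 1 := by
      rcases D.mem_zp.1 he with h | h <;> rw [h, pow_two]
      · exact one_mul 1
      · exact D.zz
    rw [hkr]
    refine ⟨Commute.mul_left ?_ (mem_centralizer_iff.1 hσ.2 r hr), ?_,
      (cSub z P).mul_mem (zpowers_le.2 hzC he) (Base.P_le_CP D.hJ hr)⟩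
    · rcases D.mem_zp.1 he with h | h <;> rw [h]
      · exact Commute.one_left σ
      · exact (D.comm_z hσ.1).symm
    · rw [hre.mul_pow, show (6 : ℕ) = 2 * 3 from rfl, pow_mul e, he2, one_pow, one_mul, mul_comm 2 3, pow_mul,
        pow_three', Base.cube D.hJ hr, one_pow]
  set τ : MulAut ↥Spor.M22 := μ ⟨σ, hσM⟩ with hτ
  have hτ7 : orderOf τ = 7 := by
    refine orderOf_eq_prime ?_ fun h => ?_
    · rw [hτ, ← map_pow, show (⟨σ, hσM⟩ : ↥(mSub z P)) ^ 7 = 1 from Subtype.ext (by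
        rw [coe_pow, Subgroup.coe_mk, ← h7, pow_orderOf_eq_one]; rfl), map_one]
    · have := (hkσ _ h).2.1
      have hd := orderOf_dvd_of_pow_eq_one this
      rw [h7] at hd
      omega
  set β : MulAut ↥Spor.M22 := μ ⟨i, hi⟩ with hβ
  have hβ1 : β ≠ 1 := fun h => hiC (hkσ _ h).2.2
  have hβ2 : β * β = 1 := by
    rw [hβ, ← map_mul, show (⟨i, hi⟩ : ↥(mSub z P)) * ⟨i, hi⟩ = 1 from Subtype.ext hi2, map_one]
  have hβτ : β * τ = τ * β := by
    rw [hβ, hτ, ← map_mul, ← map_mul]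
    exact congrArg μ (Subtype.ext hσi.symm.eq)
  have h14 := fun τ' (h : orderOf τ' = 7) => AutSeven.card_cent hτ7 hβτ hβ2 hβ1 (τ := τ') h
  -- lifting
  have hlift : ∀ (n : ↥(mSub z P)) (j : ℕ), μ n * τ * (μ n)⁻¹ = τ ^ j → (n : G) * σ * (n : G)⁻¹ = σ ^ j := by
    intro n j hnj
    have hk : μ (n * ⟨σ, hσM⟩ * n⁻¹ * (⟨σ, hσM⟩ ^ j)⁻¹) = 1 := by
      rw [map_mul, map_mul, map_mul, map_inv, map_inv, map_pow, ← hτ, hnj, mul_inv_cancel]
    obtain ⟨hc, h6, -⟩ := hkσ _ hk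
    simp only [Subgroup.coe_mul, Subgroup.coe_inv, coe_pow, Subgroup.coe_mk] at hc h6
    obtain ⟨k, hkdef⟩ : ∃ k, k = (n : G) * σ * (n : G)⁻¹ * (σ ^ j)⁻¹ := ⟨_, rfl⟩
    rw [← hkdef] at hc h6
    have he : (n : G) * σ * (n : G)⁻¹ = k * σ ^ j := by rw [hkdef, inv_mul_cancel_right]
    have h7' : σ ^ 7 = 1 := by rw [← h7, pow_orderOf_eq_one]
    have h : k ^ 7 = 1 := by
      have := congrArg (fun x => x ^ 7) he
      simp only [conj_pow, h7', mul_one, mul_inv_cancel, (hc.pow_right j).mul_pow, ← pow_mul, mul_comm j 7] at this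
      rw [pow_mul σ, h7', one_pow, mul_one] at this
      exact this.symm
    rw [pow_succ, h6, one_mul] at h
    rw [he, h, one_mul]
  have hMcard : Nat.card ↥(mSub z P) = 6 * 887040 := by
    have hk6 : Nat.card μ.ker = 6 := by
      have hmem : ∀ a : ↥(zpowers z) × ↥P, (a.1 : G) * (a.2 : G) ∈ mSub z P := fun a =>
        cSub_le_mSub z P ((cSub z P).mul_mem (zpowers_le.2 hzC a.1.2) (Base.P_le_CP D.hJ a.2.2))
      refine (Nat.card_congr (Equiv.ofBijective (fun a : ↥(zpowers z) × ↥P =>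
        (⟨⟨_, hmem a⟩, (hker _).2 ⟨_, a.1.2, _, a.2.2, rfl⟩⟩ : μ.ker)) ⟨fun a b h => ?_, fun k => ?_⟩)).symm.trans ?_
      · have h' : (a.1 : G) * a.2 = b.1 * b.2 := congrArg (fun w : μ.ker => ((w : ↥(mSub z P)) : G)) h
        have hx : (b.1 : G)⁻¹ * a.1 = b.2 * (a.2 : G)⁻¹ := by
          rw [eq_mul_inv_iff_mul_eq, mul_assoc, h', inv_mul_cancel_left]
        have h1 : (b.1 : G)⁻¹ * a.1 = 1 := by
          rcases D.mem_zp.1 (mul_mem (inv_mem b.1.2) a.1.2) with h1 | h1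
          · exact h1
          · exfalso
            have h3 : z * z * z = 1 := Base.cube D.hJ (by rw [← h1, hx]; exact mul_mem b.2.2 (inv_mem a.2.2))
            rw [D.zz, one_mul] at h3
            exact D.z_ne h3
        have ha : (a.1 : G) = b.1 := (eq_of_inv_mul_eq_one h1).symm
        rw [ha] at h'
        exact Prod.ext (Subtype.ext ha) (Subtype.ext (mul_left_cancel h'))
      · obtain ⟨e, he, r, hr, hkr⟩ := (hker k.1).1 k.2
        exact ⟨(⟨e, he⟩, ⟨r, hr⟩), Subtype.ext (Subtype.ext hkr.symm)⟩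
      · rw [Nat.card_prod, Nat.card_zpowers, D.hJ.1, D.hJ.2.2.2.2.2.1]
    rw [← μ.ker.card_mul_index, hk6, index_ker, MonoidHom.range_eq_top.2 hμ, card_top, card_mulAut_m22]
  have hcomap : ∀ K : Subgroup (MulAut ↥Spor.M22), Nat.card ↥(K.comap μ) = 6 * Nat.card ↥K := by
    intro K
    have h1 := (K.comap μ).card_mul_index
    rw [index_comap_of_surjective _ hμ, hMcard] at h1
    have h2 := K.card_mul_index
    rw [card_mulAut_m22] at h2
    have hpos : 0 < K.index := Nat.pos_of_ne_zero fun h => by rw [h, mul_zero] at h2; omega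
    exact Nat.eq_of_mul_eq_mul_right hpos (by rw [h1, mul_assoc, h2])
  have hcard : ∀ (K : Subgroup (MulAut ↥Spor.M22)) (X : Subgroup G), X ≤ mSub z P →
      (∀ n : ↥(mSub z P), (n : G) ∈ X ↔ μ n ∈ K) → Nat.card ↥X = 6 * Nat.card ↥K := by
    intro K X hX hiff
    rw [← hcomap, ← Nat.card_congr (subgroupOfEquivOfLe hX).toEquiv]
    congr 1
    congr 1
    ext n
    exact congrArg (fun X : Subgroup ↥(mSub z P) => n ∈ X)
      (SetLike.ext fun x => mem_subgroupOf.trans (hiff x)) |>.to_iff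
  refine ⟨?_, ?_, h14⟩
  · rw [hcard (centralizer ({τ} : Set (MulAut ↥Spor.M22))) _ (fun x hx => ?_) fun n => ?_, h14 τ hτ7]
    · exact norm_seven_le D hσ h7 hfix hx.1 (by
        rw [mul_inv_eq_iff_eq_mul.2 (mem_centralizer_singleton_iff.1 hx.2)]; exact mem_zpowers σ)
    · rw [mem_centralizer_singleton_iff, mem_inf, mem_centralizer_singleton_iff]
      constructor
      · rintro ⟨-, h⟩
        rw [hτ, ← map_mul, ← map_mul]
        exact congrArg μ (Subtype.ext (mem_centralizer_singleton_iff.1 h))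
      · intro h
        refine ⟨(D.comm_z n.2.1).eq, mem_centralizer_singleton_iff.2 (mul_inv_eq_iff_eq_mul.1 ?_)⟩
        rw [hlift n 1 (by rw [pow_one, mul_inv_eq_iff_eq_mul, h]), pow_one]
  · rw [hcard (normalizer ((zpowers τ : Subgroup _) : Set (MulAut ↥Spor.M22))) _ (fun x hx => ?_) fun n => ?_,
      AutSeven.card_norm hτ7]
    · exact norm_seven_le D hσ h7 hfix hx.1 (mem_normalizer_zpowers.1 hx.2)
    · rw [mem_inf, mem_normalizer_zpowers, mem_normalizer_zpowers]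
      constructor
      · rintro ⟨-, h⟩
        obtain ⟨j, -, hj⟩ := Finset.mem_image.1 (mem_zpowers_iff_mem_range_orderOf.1 h)
        have : μ (n * ⟨σ, hσM⟩ * n⁻¹) = μ (⟨σ, hσM⟩ ^ j) := congrArg μ (Subtype.ext hj.symm)
        rw [map_mul, map_mul, map_inv, map_pow, ← hτ] at this
        rw [this]
        exact pow_mem (mem_zpowers τ) j
      · intro h
        obtain ⟨j, -, hj⟩ := Finset.mem_image.1 (mem_zpowers_iff_mem_range_orderOf.1 h)
        exact ⟨n.2.1, by rw [hlift n j hj.symm]; exact pow_mem (mem_zpowers σ) j⟩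

end Cfsg.Agent.J4Type
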