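import Mathlib

/-!
# Recognition of the symmetric group of degree five

A finite group with two kinds of involutions, their centralisers of orders twelve and eight: the pairs of one
involution of each kind are counted by the involution of the cyclic group of their product, which gives the
order 120, and the group acts faithfully on the five conjugates of a four-group.
-/

set_option autoImplicit false

open Subgroup

namespace Cfsg.Agent.J4Type.SevenRecog

variable {K : Type*} [Group K]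

/-- Order two. -/
def Inv2 (x : K) : Prop := x * x = 1 ∧ x ≠ 1

theorem Inv2.inv_eq {x : K} (h : Inv2 x) : x⁻¹ = x := inv_eq_of_mul_eq_one_right h.1

theorem Inv2.conj {x : K} (h : Inv2 x) (g : K) : Inv2 (g * x * g⁻¹) :=
  ⟨by rw [show g * x * g⁻¹ * (g * x * g⁻¹) = g * (x * x) * g⁻¹ by group, h.1, mul_one, mul_inv_cancel],
    fun e => h.2 (conj_eq_one_iff.1 e)⟩

theorem Inv2.map {L : Type*} [Group L] {x : K} (h : Inv2 x) (f : K ≃* L) : Inv2 (f x) :=
  ⟨by rw [← map_mul, h.1, map_one], fun e => h.2 (f.injective (e.trans (map_one f).symm))⟩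

/-- The hypotheses: the first kind `A`, a commuting pair `z, i` of it, an element `p` of order three in the
centraliser of `z`. -/
structure Data (A : K → Prop) (z i p : K) : Prop where
  conjA : ∀ g x, A (g * x * g⁻¹) ↔ A x
  iz : Inv2 z
  ii : Inv2 i
  Az : A z
  Ai : A i
  zi : z * i = i * z
  ne : z ≠ i
  nAt : ¬ A (z * i)
  pz : p * z = z * p
  p3 : p * p * p = 1
  p1 : p ≠ 1
  pinv : i * p * i = p⁻¹
  cardz : Nat.card (centralizer ({z} : Set K)) = 12
  centp : ∀ g, g * p = p * g → g * z = z * g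
  autA : ∀ w, Inv2 w → A w → ∃ f : K ≃* K, f z = w ∧ ∀ x, A (f x) ↔ A x
  cardB : ∀ w, Inv2 w → ¬ A w → Nat.card (centralizer ({w} : Set K)) = 8

/-- A pair of involutions of the two kinds whose product has `w` among its powers. -/
def Pair (A : K → Prop) (w x y : K) : Prop :=
  Inv2 x ∧ A x ∧ Inv2 y ∧ ¬ A y ∧ ∃ n : ℕ, (x * y) ^ n = w

theorem Pair.comm {A : K → Prop} {w x y : K} (h : Pair A w x y) (hw : Inv2 w) :
    x * w = w * x ∧ y * w = w * y := by
  obtain ⟨hx, -, hy, -, n, hn⟩ := h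
  have hxy : x * (x * y) * x = (x * y)⁻¹ := by
    rw [_root_.mul_inv_rev, hx.inv_eq, hy.inv_eq, ← mul_assoc x x y, hx.1, one_mul]
  have hxw : x * w = w * x := by
    have h := map_pow (MulAut.conj x) (x * y) n
    simp only [MulAut.conj_apply, hx.inv_eq, hxy, hn] at h
    rw [inv_pow, hn, hw.inv_eq] at h
    calc x * w = x * w * (x * x) := by rw [hx.1, mul_one]
      _ = x * w * x * x := (mul_assoc _ x x).symm
      _ = w * x := by rw [h]
  refine ⟨hxw, ?_⟩
  have e : w * (x * y) = x * y * w := by rw [← hn]; exact ((Commute.refl (x * y)).pow_left n).eq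
  calc y * w = x * (x * y * w) := by rw [← mul_assoc, ← mul_assoc, hx.1, one_mul]
    _ = x * (w * (x * y)) := by rw [e]
    _ = x * w * x * y := by group
    _ = w * (x * x) * y := by rw [hxw]; group
    _ = w * y := by rw [hx.1, mul_one]

/-- Counting a subgroup over the centraliser of an element. -/
theorem card_over_centralizer [Finite K] (u : K) (H : Subgroup K) (hle : centralizer ({u} : Set K) ≤ H) :
    {w : K | ∃ g ∈ H, g * u * g⁻¹ = w}.ncard * Nat.card (centralizer ({u} : Set K)) = Nat.card H := by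
  classical
  have hch : ∀ w : {w : K | ∃ g ∈ H, g * u * g⁻¹ = w}, ∃ g ∈ H, g * u * g⁻¹ = (w : K) := fun w => w.2
  choose f hf hf' using hch
  rw [← Nat.card_coe_set_eq, ← Nat.card_prod]
  have hcu : ∀ c : centralizer ({u} : Set K), (c : K) * u * (c : K)⁻¹ = u := fun c =>
    mul_inv_eq_iff_eq_mul.2 (mem_centralizer_singleton_iff.1 c.2)
  refine Nat.card_congr (Equiv.ofBijective
    (fun a : {w : K | ∃ g ∈ H, g * u * g⁻¹ = w} × centralizer ({u} : Set K) =>
      (⟨f a.1 * a.2, mul_mem (hf a.1) (hle a.2.2)⟩ : H)) ⟨?_, ?_⟩)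
  · rintro ⟨w, c⟩ ⟨w', c'⟩ h
    have h' : f w * (c : K) = f w' * (c' : K) := congrArg Subtype.val h
    have hw : w = w' := Subtype.ext (by
      rw [← hf' w, ← hf' w']
      conv_lhs => rw [← hcu c]
      conv_rhs => rw [← hcu c']
      rw [show f w * ((c : K) * u * (c : K)⁻¹) * (f w)⁻¹ = (f w * c) * u * (f w * c)⁻¹ by group, h']
      group)
    subst hw
    exact Prod.ext rfl (Subtype.ext (mul_left_cancel h'))
  · rintro ⟨g, hg⟩
    refine ⟨(⟨g * u * g⁻¹, g, hg, rfl⟩, ⟨(f ⟨g * u * g⁻¹, g, hg, rfl⟩)⁻¹ * g, ?_⟩), Subtype.ext ?_⟩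
    · rw [mem_centralizer_singleton_iff]
      have h := hf' ⟨g * u * g⁻¹, g, hg, rfl⟩
      generalize f ⟨g * u * g⁻¹, g, hg, rfl⟩ = a at h
      rw [← mul_inv_eq_iff_eq_mul, show a⁻¹ * g * u * (a⁻¹ * g)⁻¹ = a⁻¹ * (g * u * g⁻¹) * a by group]
      simp only at h
      rw [← h]
      group
    · exact mul_inv_cancel_left _ _

theorem odd_conj [Finite K] {x y : K} (hx : Inv2 x) (hy : Inv2 y) (ho : Odd (orderOf (x * y))) :
    ∃ g : K, g * x * g⁻¹ = y := by
  obtain ⟨k, hk⟩ := ho
  set c := x * y with hc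
  have hxc : x * c * x = c⁻¹ := by
    rw [hc, _root_.mul_inv_rev, hx.inv_eq, hy.inv_eq, ← mul_assoc x x y, hx.1, one_mul]
  have hcy : c = x * y := hc
  have hconj : x * c ^ (k : ℕ) * x = (c ^ (k : ℕ))⁻¹ := by
    have h := map_pow (MulAut.conj x) c k
    simp only [MulAut.conj_apply, hx.inv_eq, hxc] at h
    rw [h, inv_pow]
  have hpow : c ^ k * c ^ k = c⁻¹ := by
    apply eq_inv_of_mul_eq_one_left
    rw [← pow_add, ← pow_succ, show k + k + 1 = 2 * k + 1 by ring, ← hk, pow_orderOf_eq_one]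
  refine ⟨c ^ k, ?_⟩
  have e : c ^ k * x * (c ^ k)⁻¹ = c ^ k * c ^ k * x := by
    rw [← hconj]
    calc c ^ k * x * (x * c ^ k * x) = c ^ k * (x * x) * c ^ k * x := by group
      _ = c ^ k * c ^ k * x := by rw [hx.1, mul_one]
  rw [e, hpow, hc, _root_.mul_inv_rev, hx.inv_eq, hy.inv_eq, mul_assoc, hx.1, mul_one]

namespace Data

variable {A : K → Prop} {z i p : K} (D : Data A z i p)
include D

theorem t_inv : Inv2 (z * i) := by
  refine ⟨?_, fun e => D.ne (D.iz.inv_eq ▸ (inv_eq_of_mul_eq_one_right e))⟩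
  rw [show z * i * (z * i) = z * (i * z) * i by group, ← D.zi, show z * (z * i) * i = (z * z) * (i * i) by group,
    D.iz.1, D.ii.1, one_mul]

theorem i_notB : ∀ x, Inv2 x → ¬ A x → x ≠ i := fun _ _ h e => h (e ▸ D.Ai)

theorem order_p : orderOf p = 3 := by
  haveI : Fact (Nat.Prime 3) := ⟨by norm_num⟩
  exact orderOf_eq_prime (by rw [pow_succ, pow_two]; exact D.p3) D.p1

theorem ipi (k : ℕ) : i * p ^ k = (p ^ k)⁻¹ * i := by
  have h := map_pow (MulAut.conj i) p k
  simp only [MulAut.conj_apply, D.ii.inv_eq, D.pinv] at h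
  rw [← inv_pow, ← h, mul_assoc (i * p ^ k), D.ii.1, mul_one]

theorem pkz (k : ℕ) : p ^ k * z = z * p ^ k := ((show Commute p z from D.pz).pow_left k).eq

theorem ipi' (k : ℕ) : i * (p ^ k)⁻¹ = p ^ k * i := by
  rw [mul_inv_eq_iff_eq_mul, mul_assoc, D.ipi, ← mul_assoc, mul_inv_cancel, one_mul]

theorem zt : z * (z * i) = z * i * z := by rw [mul_assoc z i z, ← D.zi]

theorem it : i * (z * i) = z * i * i := by rw [← mul_assoc, ← D.zi]

/-- The parametrisation of the centraliser of `z`. -/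
def param (z i p : K) (a : Fin 2 × Fin 3 × Fin 2) : K := z ^ (a.1 : ℕ) * p ^ (a.2.1 : ℕ) * i ^ (a.2.2 : ℕ)

variable [Finite K]

theorem pow_p_inj {a b : Fin 3} (h : p ^ (a : ℕ) = p ^ (b : ℕ)) : a = b :=
  Fin.ext (pow_injOn_Iio_orderOf (by rw [D.order_p]; exact Set.mem_Iio.2 a.2)
    (by rw [D.order_p]; exact Set.mem_Iio.2 b.2) h)

theorem centz_eq {g : K} (hg : g * z = z * g) :
    ∃ a : Fin 2, ∃ b : Fin 3, ∃ c : Fin 2, g = z ^ (a : ℕ) * p ^ (b : ℕ) * i ^ (c : ℕ) := by
  let f : Fin 2 × Fin 3 × Fin 2 → centralizer ({z} : Set K) := fun a => ⟨param z i p a, by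
    rw [mem_centralizer_singleton_iff]
    exact (((Commute.refl z).pow_left _).mul_left (((show Commute p z from D.pz)).pow_left _)).mul_left
      ((show Commute i z from D.zi.symm).pow_left _) |>.eq⟩
  have hpz : ∀ k : ℕ, p ^ k ≠ z := fun k e => by
    have h1 : z ^ 3 = 1 := by
      rw [← e, ← pow_mul, mul_comm, pow_mul, pow_succ, pow_two, D.p3, one_pow]
    rw [pow_succ, pow_two, D.iz.1, one_mul] at h1
    exact D.iz.2 h1
  have hpi : ∀ k : ℕ, p ^ k ≠ i := fun k e => by
    have h1 : i ^ 3 = 1 := by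
      rw [← e, ← pow_mul, mul_comm, pow_mul, pow_succ, pow_two, D.p3, one_pow]
    rw [pow_succ, pow_two, D.ii.1, one_mul] at h1
    exact D.ii.2 h1
  have hpt : ∀ k : ℕ, p ^ k ≠ z * i := fun k e => by
    have h1 : (z * i) ^ 3 = 1 := by
      rw [← e, ← pow_mul, mul_comm, pow_mul, pow_succ, pow_two, D.p3, one_pow]
    rw [pow_succ, pow_two, D.t_inv.1, one_mul] at h1
    exact D.t_inv.2 h1
  have hinj : Function.Injective f := by
    rintro ⟨a, b, c⟩ ⟨a', b', c'⟩ h
    have h' : z ^ (a : ℕ) * p ^ (b : ℕ) * i ^ (c : ℕ) = z ^ (a' : ℕ) * p ^ (b' : ℕ) * i ^ (c' : ℕ) :=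
      congrArg Subtype.val h
    have key : ∀ (m : ℕ) (x y : K), p ^ (b : ℕ) * x = y * p ^ (b' : ℕ) * x →
        p ^ (b : ℕ) = y * p ^ (b' : ℕ) := fun _ x y e => mul_right_cancel e
    have e2 : (p ^ (b' : ℕ))⁻¹ * p ^ (b : ℕ) = p ^ (((2 * b'.1) + b.1) : ℕ) := by
      rw [pow_add]
      congr 1
      refine inv_eq_of_mul_eq_one_right ?_
      rw [← pow_add, show b'.1 + 2 * b'.1 = 3 * b'.1 by ring, pow_mul, pow_succ, pow_two, D.p3, one_pow]
    set P := p ^ (((2 * b'.1) + b.1) : ℕ) with hP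
    have hb : p ^ (b : ℕ) = p ^ (b' : ℕ) * P := by rw [← e2, mul_inv_cancel_left]
    have hmain : ∀ s t : K, s * P * t = 1 → (s = 1 ∨ s = z) → (t = 1 ∨ t = i) →
        s = 1 ∧ P = 1 ∧ t = 1 := by
      intro s t e h1 h2
      rcases h1 with h1 | h1 <;> rcases h2 with h2 | h2 <;> rw [h1, h2] at e
      · rw [one_mul, mul_one] at e; exact ⟨h1, e, h2⟩
      · rw [one_mul, mul_eq_one_iff_eq_inv, D.ii.inv_eq] at e; exact absurd e (hpi _)
      · rw [mul_one, mul_eq_one_iff_inv_eq, D.iz.inv_eq] at e; exact absurd e.symm (hpz _)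
      · rw [mul_eq_one_iff_eq_inv, D.ii.inv_eq] at e
        exact absurd (by rw [← e, ← mul_assoc, D.iz.1, one_mul]) (hpt _)
    have two : ∀ (x : K), Inv2 x → ∀ n : ℕ, x ^ n = 1 ∨ x ^ n = x := fun x hx n => by
      rcases Nat.even_or_odd' n with ⟨m, rfl | rfl⟩
      · exact Or.inl (by rw [pow_mul, pow_two, hx.1, one_pow])
      · exact Or.inr (by rw [pow_succ, pow_mul, pow_two, hx.1, one_pow, one_mul])
    have hz2 : (z ^ (a' : ℕ))⁻¹ * z ^ (a : ℕ) = z ^ (a'.1 + a.1) := by
      rw [pow_add, ← inv_pow, D.iz.inv_eq]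
    have hi2 : i ^ (c : ℕ) * (i ^ (c' : ℕ))⁻¹ = i ^ (c.1 + c'.1) := by
      rw [pow_add, ← inv_pow, D.ii.inv_eq]
    have e3 : z ^ (a'.1 + a.1) * P * i ^ (c.1 + c'.1) = 1 := by
      rw [← hz2, ← hi2, ← e2]
      have hc : ∀ n m : ℕ, (p ^ n)⁻¹ * z ^ m = z ^ m * (p ^ n)⁻¹ := fun n m =>
        (((show Commute p z from D.pz).pow_pow n m).inv_left).eq
      calc (z ^ (a' : ℕ))⁻¹ * z ^ (a : ℕ) * ((p ^ (b' : ℕ))⁻¹ * p ^ (b : ℕ)) * (i ^ (c : ℕ) * (i ^ (c' : ℕ))⁻¹)
          = (z ^ (a' : ℕ))⁻¹ * (z ^ (a : ℕ) * (p ^ (b' : ℕ))⁻¹) * (p ^ (b : ℕ) * i ^ (c : ℕ)) * (i ^ (c' : ℕ))⁻¹ := by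
            group
        _ = (z ^ (a' : ℕ))⁻¹ * (p ^ (b' : ℕ))⁻¹ * (z ^ (a : ℕ) * p ^ (b : ℕ) * i ^ (c : ℕ)) * (i ^ (c' : ℕ))⁻¹ := by
            rw [← hc]; group
        _ = 1 := by
            rw [h', show (z ^ (a' : ℕ))⁻¹ * (p ^ (b' : ℕ))⁻¹ =
              (p ^ (b' : ℕ))⁻¹ * (z ^ (a' : ℕ))⁻¹ from
              ((((show Commute p z from D.pz).pow_pow b' a').inv_inv).symm).eq]
            group
    obtain ⟨h1, h2, h3⟩ := hmain _ _ e3 (two z D.iz _) (two i D.ii _)
    have hab : a = a' := by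
      revert h1
      fin_cases a <;> fin_cases a' <;> simp [D.iz.2]
    have hcc : c = c' := by
      revert h3
      fin_cases c <;> fin_cases c' <;> simp [D.ii.2]
    have hbb : b = b' := D.pow_p_inj (by rw [hb, h2, mul_one])
    rw [hab, hbb, hcc]
  have hsurj := ((Nat.bijective_iff_injective_and_card f).2 ⟨hinj, by
    rw [D.cardz, Nat.card_prod, Nat.card_prod, Nat.card_fin, Nat.card_fin]⟩).2
  obtain ⟨⟨a, b, c⟩, h⟩ := hsurj ⟨g, mem_centralizer_singleton_iff.2 hg⟩
  exact ⟨a, b, c, (congrArg Subtype.val h).symm⟩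

omit [Finite K] in
theorem refl_inv (k : ℕ) : Inv2 (p ^ k * i) ∧ A (p ^ k * i) := by
  have h : ∀ m, p ^ (2 * m) * i = p ^ m * i * (p ^ m)⁻¹ := fun m => by
    rw [two_mul, pow_add, mul_assoc (p ^ m) i, D.ipi', mul_assoc]
  have hk : p ^ k = p ^ (2 * (2 * k)) := by
    rw [show 2 * (2 * k) = 3 * k + k by ring, pow_add, pow_mul, pow_succ p 2, pow_two, D.p3, one_pow, one_mul]
  rw [hk, h]
  exact ⟨D.ii.conj _, (D.conjA _ _).2 D.Ai⟩

omit [Finite K] in
theorem zrefl_inv (k : ℕ) : Inv2 (z * p ^ k * i) ∧ ¬ A (z * p ^ k * i) := by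
  have h : ∀ m, z * p ^ (2 * m) * i = p ^ m * (z * i) * (p ^ m)⁻¹ := fun m => by
    rw [two_mul, pow_add, ← mul_assoc z, ← D.pkz m, mul_assoc (p ^ m * z), ← D.ipi' m]
    group
  have hk : p ^ k = p ^ (2 * (2 * k)) := by
    rw [show 2 * (2 * k) = 3 * k + k by ring, pow_add, pow_mul, pow_succ p 2, pow_two, D.p3, one_pow, one_mul]
  rw [hk, h]
  exact ⟨D.t_inv.conj _, fun e => D.nAt ((D.conjA _ _).1 e)⟩

/-- The involutions of the centraliser of `z`. -/
theorem centz_cases {x : K} (hx : Inv2 x) (hxz : x * z = z * x) :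
    x = z ∨ ∃ k : Fin 3, x = p ^ (k : ℕ) * i ∨ x = z * p ^ (k : ℕ) * i := by
  obtain ⟨a, b, c, rfl⟩ := D.centz_eq hxz
  fin_cases c
  · have hcomm : Commute (z ^ (a : ℕ)) (p ^ (b : ℕ)) := ((show Commute p z from D.pz).pow_pow _ _).symm
    have h := hx.1
    simp only [Fin.zero_eta, Fin.val_zero, pow_zero, mul_one] at h hx ⊢
    have hz2 : z ^ (a : ℕ) * z ^ (a : ℕ) = 1 := by
      rw [← pow_add, ← two_mul, pow_mul, pow_two, D.iz.1, one_pow]
    rw [hcomm.symm.mul_mul_mul_comm, hz2, one_mul] at h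
    have hb : b = 0 := D.pow_p_inj (by
      have h3 : (p ^ (b : ℕ)) * (p ^ (b : ℕ)) * (p ^ (b : ℕ)) = 1 := by
        rw [← pow_add, ← pow_add, show b.1 + b.1 + b.1 = 3 * b.1 by ring, pow_mul, pow_succ, pow_two, D.p3,
          one_pow]
      rw [h, one_mul] at h3
      rw [h3, Fin.val_zero, pow_zero])
    subst hb
    simp only [Fin.val_zero, pow_zero, mul_one] at hx ⊢
    left
    fin_cases a
    · exact absurd (pow_zero z) hx.2
    · exact pow_one z
  · right
    refine ⟨b, ?_⟩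
    fin_cases a <;> simp

/-- The pairs of `z`. -/
theorem pairs_z : {a : K × K | Pair A z a.1 a.2} =
    (fun b : Fin 3 × Fin 3 => (p ^ (b.1 : ℕ) * i, z * p ^ (b.2 : ℕ) * i)) '' Set.univ := by
  ext ⟨x, y⟩
  constructor
  · intro hP
    obtain ⟨hxz, hyz⟩ := hP.comm D.iz
    obtain ⟨hx, hxA, hy, hyA, n, hn⟩ := hP
    rcases D.centz_cases hy hyz with rfl | ⟨c, rfl | rfl⟩
    · exact absurd D.Az hyA
    · exact absurd (D.refl_inv _).2 hyA
    rcases D.centz_cases hx hxz with hxe | ⟨b, rfl | rfl⟩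
    · exfalso
      rw [hxe] at hn
      have e : z * (z * p ^ (c : ℕ) * i) = p ^ (c : ℕ) * i := by
        rw [← mul_assoc, ← mul_assoc, D.iz.1, one_mul]
      rw [e] at hn
      rcases Nat.even_or_odd' n with ⟨m, rfl | rfl⟩
      · rw [pow_mul, pow_two, (D.refl_inv _).1.1, one_pow] at hn
        exact D.iz.2 hn.symm
      · rw [pow_succ, pow_mul, pow_two, (D.refl_inv _).1.1, one_pow, one_mul] at hn
        have h0 : c = c := rfl
        have hzi : z = p ^ (c : ℕ) * i := hn.symm
        obtain ⟨h1, h2⟩ := D.zrefl_inv (c : ℕ)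
        apply h1.2
        rw [mul_assoc, ← hzi, D.iz.1]
    · exact ⟨(b, c), trivial, rfl⟩
    · exact absurd hxA (D.zrefl_inv _).2
  · rintro ⟨⟨b, c⟩, -, h⟩
    cases h
    refine ⟨(D.refl_inv _).1, (D.refl_inv _).2, (D.zrefl_inv _).1, (D.zrefl_inv _).2, 3, ?_⟩
    have e : p ^ (b : ℕ) * i * (z * p ^ (c : ℕ) * i) = z * (p ^ (b : ℕ) * (p ^ (c : ℕ))⁻¹) := by
      calc p ^ (b : ℕ) * i * (z * p ^ (c : ℕ) * i) = p ^ (b : ℕ) * (i * z) * p ^ (c : ℕ) * i := by group
        _ = (p ^ (b : ℕ) * z) * (i * p ^ (c : ℕ)) * i := by rw [← D.zi]; group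
        _ = z * (p ^ (b : ℕ) * (p ^ (c : ℕ))⁻¹) * (i * i) := by rw [D.pkz, D.ipi]; group
        _ = z * (p ^ (b : ℕ) * (p ^ (c : ℕ))⁻¹) := by rw [D.ii.1, mul_one]
    have hc : Commute z (p ^ (b : ℕ) * (p ^ (c : ℕ))⁻¹) :=
      ((show Commute z p from D.pz.symm).pow_right _).mul_right ((show Commute z p from D.pz.symm).pow_right _).inv_right
    have h3 : (p ^ (b : ℕ) * (p ^ (c : ℕ))⁻¹) ^ 3 = 1 := by
      rw [((Commute.refl p).pow_pow (b : ℕ) (c : ℕ)).inv_right.mul_pow, inv_pow, ← pow_mul, ← pow_mul,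
        mul_comm (b : ℕ), mul_comm (c : ℕ), pow_mul, pow_mul, pow_succ, pow_two, D.p3, one_pow, one_pow,
        inv_one, mul_one]
    show (p ^ (b : ℕ) * i * (z * p ^ (c : ℕ) * i)) ^ 3 = z
    rw [e, hc.mul_pow, h3, mul_one, pow_succ, pow_two, D.iz.1, one_mul]

theorem pairs_z_card : {a : K × K | Pair A z a.1 a.2}.ncard = 9 := by
  rw [D.pairs_z, Set.ncard_image_of_injective _ ?_, Set.ncard_univ, Nat.card_prod, Nat.card_fin]
  rintro ⟨a, b⟩ ⟨a', b'⟩ h
  simp only [Prod.mk.injEq] at h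
  rw [D.pow_p_inj (mul_right_cancel h.1), D.pow_p_inj (mul_left_cancel (mul_right_cancel h.2))]

/-- The centraliser of `z i`. -/
theorem centt : ∃ b : K, Inv2 b ∧ b * (z * i) = z * i * b ∧ b * z = i * b ∧ b * i = z * b ∧
    ∀ g, g * (z * i) = z * i * g → g ∈ ({1, z, i, z * i, b, b * (z * i), b * z, b * i} : Set K) := by
  set t := z * i with ht
  set T := centralizer ({t} : Set K) with hT
  have hcT : Nat.card T = 8 := D.cardB t D.t_inv D.nAt
  have hzt : z * t = t * z := by
    rw [ht, ← mul_assoc, D.iz.1, one_mul, mul_assoc, ← D.zi, ← mul_assoc, D.iz.1, one_mul]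
  have hit : i * t = t * i := by
    rw [ht, ← mul_assoc, ← D.zi]
  have htT : t ∈ T := mem_centralizer_singleton_iff.2 rfl
  have hzT : z ∈ T := mem_centralizer_singleton_iff.2 hzt
  have hiT : i ∈ T := mem_centralizer_singleton_iff.2 hit
  have hA4 : ∀ g ∈ T, g * z = z * g → g ∈ ({1, z, i, t} : Set K) := by
    intro g hg hgz
    obtain ⟨a, b, c, rfl⟩ := D.centz_eq hgz
    have hgt := mem_centralizer_singleton_iff.1 hg
    have hb : b = 0 := by
      have hpt : p ^ (b : ℕ) * t = t * p ^ (b : ℕ) := by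
        have h1 : Commute (z ^ (a : ℕ)) t := (show Commute z t from hzt).pow_left _
        have h2 : Commute (i ^ (c : ℕ)) t := (show Commute i t from hit).pow_left _
        have h3 : Commute ((z ^ (a : ℕ))⁻¹ * (z ^ (a : ℕ) * p ^ (b : ℕ) * i ^ (c : ℕ)) * (i ^ (c : ℕ))⁻¹) t :=
          ((h1.inv_left).mul_left hgt).mul_left h2.inv_left
        have e : (z ^ (a : ℕ))⁻¹ * (z ^ (a : ℕ) * p ^ (b : ℕ) * i ^ (c : ℕ)) * (i ^ (c : ℕ))⁻¹ = p ^ (b : ℕ) := by
          group
        rw [e] at h3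
        exact h3.eq
      refine D.pow_p_inj ?_
      rw [ht] at hpt
      have e : p ^ (b : ℕ) * p ^ (b : ℕ) = 1 := by
        have h4 : z * (p ^ (b : ℕ) * i) = z * ((p ^ (b : ℕ))⁻¹ * i) := by
          rw [← mul_assoc, ← D.pkz, mul_assoc, hpt, mul_assoc, D.ipi]
        have h5 := mul_right_cancel (mul_left_cancel h4)
        calc p ^ (b : ℕ) * p ^ (b : ℕ) = (p ^ (b : ℕ))⁻¹ * p ^ (b : ℕ) := by rw [← h5]
          _ = 1 := inv_mul_cancel _
      have h6 : (p ^ (b : ℕ)) * (p ^ (b : ℕ)) * (p ^ (b : ℕ)) = 1 := by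
        rw [← pow_add, ← pow_add, show b.1 + b.1 + b.1 = 3 * b.1 by ring, pow_mul, pow_succ, pow_two, D.p3, one_pow]
      rw [e, one_mul] at h6
      rw [h6, Fin.val_zero, pow_zero]
    subst hb
    fin_cases a <;> fin_cases c <;> simp [ht]
  obtain ⟨g, hgT, hgz⟩ : ∃ g ∈ T, g * z ≠ z * g := by
    by_contra hcon
    push Not at hcon
    have hsub : (T : Set K) ⊆ {1, z, i, t} := fun g hg => hA4 g hg (hcon g hg)
    have h4 : ({1, z, i, t} : Set K).ncard ≤ 4 := by
      refine (Set.ncard_insert_le _ _).trans ?_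
      refine Nat.add_le_add_right ((Set.ncard_insert_le _ _).trans ?_) 1
      refine Nat.add_le_add_right ((Set.ncard_insert_le _ _).trans ?_) 1
      rw [Set.ncard_singleton]
    have := Set.ncard_le_ncard hsub (Set.toFinite _)
    rw [← Nat.card_coe_set_eq] at this
    have e : Nat.card ↥(T : Set K) = 8 := hcT
    omega
  -- the Klein four-group is normal in `T`
  set W : Subgroup T := (centralizer ({z} : Set K)).subgroupOf T with hW
  have hWmem : ∀ g : T, g ∈ W ↔ g.1 * z = z * g.1 := fun g => mem_subgroupOf.trans mem_centralizer_singleton_iff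
  have hWcard : Nat.card W = 4 := by
    have hle : Nat.card W ≤ 4 := by
      refine le_trans (Nat.card_le_card_of_injective
        (fun g : W => (⟨g.1.1, hA4 _ g.1.2 ((hWmem g.1).1 g.2)⟩ : ({1, z, i, t} : Set K))) ?_) ?_
      · intro a b h; exact Subtype.ext (Subtype.ext (congrArg (fun u : ({1, z, i, t} : Set K) => (u : K)) h))
      · rw [Nat.card_coe_set_eq]
        refine (Set.ncard_insert_le _ _).trans ?_
        refine Nat.add_le_add_right ((Set.ncard_insert_le _ _).trans ?_) 1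
        refine Nat.add_le_add_right ((Set.ncard_insert_le _ _).trans ?_) 1
        rw [Set.ncard_singleton]
    let e : Fin 2 × Fin 2 → W := fun a => ⟨⟨z ^ (a.1 : ℕ) * i ^ (a.2 : ℕ),
      mul_mem (pow_mem hzT _) (pow_mem hiT _)⟩, (hWmem _).2
        (((Commute.refl z).pow_left _).mul_left ((show Commute i z from D.zi.symm).pow_left _)).eq⟩
    have he : Function.Injective e := by
      rintro ⟨a, c⟩ ⟨a', c'⟩ h
      have h' : z ^ (a : ℕ) * i ^ (c : ℕ) = z ^ (a' : ℕ) * i ^ (c' : ℕ) :=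
        congrArg (fun w : W => (w.1.1 : K)) h
      have n1 : (1 : K) ≠ z := fun h => D.iz.2 h.symm
      have n2 : (1 : K) ≠ i := fun h => D.ii.2 h.symm
      have n3 : (1 : K) ≠ z * i := fun h => D.t_inv.2 h.symm
      have n4 : z ≠ z * i := fun h => D.ii.2 (mul_eq_left.1 h.symm)
      have n5 : i ≠ z * i := fun h => D.iz.2 (mul_eq_right.1 h.symm)
      revert h'
      fin_cases a <;> fin_cases a' <;> fin_cases c <;> fin_cases c' <;>
        simp [D.iz.2, D.ii.2, D.t_inv.2, D.ne, D.ne.symm, n1, n2, n3, n4, n4.symm, n5, n5.symm]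
    have := Nat.card_le_card_of_injective e he
    rw [Nat.card_prod, Nat.card_fin] at this
    omega
  have hWidx : W.index = 2 := by
    have h := W.card_mul_index
    rw [hWcard, hcT] at h
    omega
  have hWn : W.Normal := normal_of_index_eq_two hWidx
  have hswap : ∀ g ∈ T, g * z ≠ z * g → g * z * g⁻¹ = i ∧ g * i * g⁻¹ = z := by
    intro g hg hne
    have hgt : g * t * g⁻¹ = t := mul_inv_eq_iff_eq_mul.2 (mem_centralizer_singleton_iff.1 hg)
    have h1 : g * z * g⁻¹ ∈ ({1, z, i, t} : Set K) := by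
      have hz : (⟨z, hzT⟩ : T) ∈ W := (hWmem _).2 rfl
      have := hWn.conj_mem _ hz ⟨g, hg⟩
      exact hA4 _ (mul_mem (mul_mem hg hzT) (inv_mem hg)) ((hWmem _).1 this)
    have h2 : g * z * g⁻¹ = i := by
      rcases h1 with e | e | e | e
      · exact absurd (conj_eq_one_iff.1 e) D.iz.2
      · exact absurd (mul_inv_eq_iff_eq_mul.1 e) hne
      · exact e
      · exact absurd ((D.conjA g z).2 D.Az) (by rw [Set.mem_singleton_iff.1 e]; exact D.nAt)
    refine ⟨h2, ?_⟩
    have hzt' : i = z * t := by rw [ht, ← mul_assoc, D.iz.1, one_mul]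
    rw [hzt', show g * (z * t) * g⁻¹ = (g * z * g⁻¹) * (g * t * g⁻¹) by group, h2, hgt, ht, ← mul_assoc,
      ← D.zi, mul_assoc, D.ii.1, mul_one]
  obtain ⟨b, hbT, hbz, hb2⟩ : ∃ b ∈ T, b * z ≠ z * b ∧ Inv2 b := by
    have hne1 : g ≠ 1 := fun e => hgz (by rw [e, one_mul, mul_one])
    have hsq : g * g ∈ ({1, z, i, t} : Set K) := by
      refine hA4 _ (mul_mem hgT hgT) ?_
      have := Subgroup.mul_self_mem_of_index_two hWidx (⟨g, hgT⟩ : T)
      exact (hWmem _).1 this
    obtain ⟨hgz', hgi'⟩ := hswap g hgT hgz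
    rcases hsq with e | e | e | e
    · exact ⟨g, hgT, hgz, e, hne1⟩
    · exfalso; apply hgz; rw [← e, mul_assoc]
    · exfalso
      apply hgz
      have : g * i * g⁻¹ = i := by rw [← e]; group
      rw [hgi'] at this
      exact absurd this D.ne
    · refine ⟨g * z, mul_mem hgT hzT, ?_, ?_, ?_⟩
      · intro h
        apply hgz
        rw [mul_assoc, D.iz.1, mul_one] at h
        calc g * z = z * (z * (g * z)) := by rw [← mul_assoc, D.iz.1, one_mul]
          _ = z * g := by rw [← h]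
      · calc g * z * (g * z) = (g * z * g⁻¹) * (g * g) * z := by group
          _ = i * (z * i) * z := by rw [hgz', Set.mem_singleton_iff.1 e, ht]
          _ = 1 := by rw [D.zi, ← mul_assoc, D.ii.1, one_mul, D.iz.1]
      · intro h
        exact hgz (by rw [h, show g = z⁻¹ from eq_inv_of_mul_eq_one_left h, mul_inv_cancel])
  obtain ⟨hbz', hbi'⟩ := hswap b hbT hbz
  have hbt := mem_centralizer_singleton_iff.1 hbT
  have e1 : b * z = i * b := mul_inv_eq_iff_eq_mul.1 hbz'
  have e2 : b * i = z * b := mul_inv_eq_iff_eq_mul.1 hbi'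
  refine ⟨b, hb2, hbt, e1, e2, fun g hg => ?_⟩
  have hgT : g ∈ T := mem_centralizer_singleton_iff.2 hg
  by_cases hgz : g * z = z * g
  · rcases hA4 g hgT hgz with e | e | e | e <;> rw [e] <;> simp
  · have hbg : (b * g) * z = z * (b * g) := by
      obtain ⟨hgz', -⟩ := hswap g hgT hgz
      calc b * g * z = b * (g * z * g⁻¹) * g := by group
        _ = z * (b * g) := by rw [hgz', e2, mul_assoc]
    have hb' : g = b * (b * g) := by rw [← mul_assoc, hb2.1, one_mul]
    rcases hA4 _ (mul_mem hbT hgT) hbg with e | e | e | e <;> rw [hb', e] <;> simp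

/-- The centre of the centraliser of `z i`. -/
theorem center_T {c : K} (hc : c * (z * i) = z * i * c)
    (hcc : ∀ x : K, x * (z * i) = z * i * x → c * x = x * c) : c = 1 ∨ c = z * i := by
  obtain ⟨b, -, hbt, hbz, hbi, hT⟩ := D.centt
  have hbne : b * z ≠ z * b := fun e => by
    rw [hbz] at e; exact D.ne (mul_right_cancel e).symm
  have hzc := hcc z D.zt
  have hbc := hcc b hbt
  have key : ∀ x : K, x * z = z * x → c = b * x → False := fun x hx e => by
    rw [e, mul_assoc, hx, ← mul_assoc, ← mul_assoc] at hzc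
    exact hbne (mul_right_cancel hzc)
  rcases hT c hc with e | e | e | e | e | e | e | e
  · exact Or.inl e
  · exact absurd (e ▸ hbc).symm hbne
  · exfalso
    rw [e, hbi] at hbc
    exact D.ne (mul_right_cancel hbc).symm
  · exact Or.inr e
  · exact (key 1 (by rw [one_mul, mul_one]) (by rw [e, mul_one])).elim
  · exact (key (z * i) D.zt.symm e).elim
  · exact (key z rfl e).elim
  · exact (key i D.zi.symm (Set.mem_singleton_iff.1 e)).elim

/-- The centraliser of `z i` is a Sylow 2-subgroup. -/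
theorem sylow_T : ∃ S : Sylow 2 K, (S : Subgroup K) = centralizer ({z * i} : Set K) := by
  haveI : Fact (Nat.Prime 2) := ⟨Nat.prime_two⟩
  obtain ⟨S, hS⟩ := (IsPGroup.of_card (p := 2) (n := 3) (G := centralizer ({z * i} : Set K))
    (D.cardB _ D.t_inv D.nAt)).exists_le_sylow
  refine ⟨S, le_antisymm (fun x hx => ?_) hS⟩
  haveI : Nontrivial (S : Subgroup K) := ⟨⟨⟨z * i, hS (mem_centralizer_singleton_iff.2 rfl)⟩, 1,
    fun e => D.t_inv.2 (congrArg Subtype.val e)⟩⟩
  haveI := S.isPGroup'.center_nontrivial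
  obtain ⟨⟨c, hc⟩, hc1⟩ := exists_ne (1 : center (S : Subgroup K))
  have hcen : ∀ y ∈ (S : Subgroup K), (c : K) * y = y * c := fun y hy =>
    (congrArg Subtype.val (mem_center_iff.1 hc ⟨y, hy⟩)).symm
  rcases D.center_T (hcen _ (hS (mem_centralizer_singleton_iff.2 rfl)))
      (fun y hy => hcen y (hS (mem_centralizer_singleton_iff.2 hy))) with e | e
  · exact absurd (Subtype.ext (Subtype.ext e)) hc1
  · exact mem_centralizer_singleton_iff.2 (by rw [← e]; exact (hcen x hx).symm)

omit [Finite K] in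
theorem nA_conj {x : K} (h : ¬ A x) (g : K) : ¬ A (g * x * g⁻¹) := fun e => h ((D.conjA g x).1 e)

/-- The involutions of the second kind are conjugate. -/
theorem conjB {w : K} (hw : Inv2 w) (hA : ¬ A w) : ∃ g : K, g * (z * i) * g⁻¹ = w := by
  haveI : Fact (Nat.Prime 2) := ⟨Nat.prime_two⟩
  obtain ⟨S, hSeq⟩ := D.sylow_T
  obtain ⟨R, hR⟩ := (IsPGroup.of_card (p := 2) (n := 3) (G := centralizer ({w} : Set K))
    (D.cardB w hw hA)).exists_le_sylow
  obtain ⟨g, hg⟩ := MulAction.exists_smul_eq K S R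
  have hRe : (R : Subgroup K) = centralizer ({w} : Set K) := by
    refine (eq_of_le_of_card_ge hR ?_).symm
    have h1 : Nat.card (R : Subgroup K) = Nat.card (S : Subgroup K) := by
      rw [Sylow.card_eq_multiplicity, Sylow.card_eq_multiplicity]
    rw [h1, hSeq, D.cardB _ D.t_inv D.nAt, D.cardB w hw hA]
  have hmem : ∀ y, y ∈ centralizer ({w} : Set K) → g⁻¹ * y * g ∈ centralizer ({z * i} : Set K) := by
    intro y hy
    rw [← hRe, ← hg, Sylow.coe_subgroup_smul, mem_pointwise_smul_iff_inv_smul_mem] at hy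
    rw [← hSeq]
    simpa [MulAut.smul_def] using hy
  have hmem' : ∀ y, y ∈ centralizer ({z * i} : Set K) → g * y * g⁻¹ ∈ centralizer ({w} : Set K) := by
    intro y hy
    rw [← hSeq] at hy
    rw [← hRe, ← hg, Sylow.coe_subgroup_smul]
    exact ⟨y, hy, rfl⟩
  refine ⟨g, ?_⟩
  rcases D.center_T (mem_centralizer_singleton_iff.1 (hmem w (mem_centralizer_singleton_iff.2 rfl)))
    (fun y hy => by
      have := mem_centralizer_singleton_iff.1 (hmem' y (mem_centralizer_singleton_iff.2 hy))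
      calc g⁻¹ * w * g * y = g⁻¹ * (w * (g * y * g⁻¹)) * g := by group
        _ = g⁻¹ * (g * y * g⁻¹ * w) * g := by rw [this]
        _ = y * (g⁻¹ * w * g) := by group) with e | e
  · exact absurd (conj_eq_one_iff.1 (by rwa [inv_inv] : g⁻¹ * w * g⁻¹⁻¹ = 1)) hw.2
  · rw [← e]; group

omit D in
omit [Finite K] in
theorem pairs_map (f : K ≃* K) (hf : ∀ x, A (f x) ↔ A x) (w : K) :
    {a : K × K | Pair A (f w) a.1 a.2}.ncard = {a : K × K | Pair A w a.1 a.2}.ncard := by
  rw [← Set.ncard_image_of_injective {a : K × K | Pair A w a.1 a.2}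
    (f := fun a : K × K => (f a.1, f a.2)) (fun a b h => Prod.ext
      (f.injective (congrArg Prod.fst h)) (f.injective (congrArg Prod.snd h)))]
  congr 1
  ext ⟨x, y⟩
  constructor
  · rintro ⟨hx, hxA, hy, hyA, n, hn⟩
    refine ⟨(f.symm x, f.symm y), ⟨hx.map f.symm, ?_, hy.map f.symm, ?_, n, ?_⟩, by simp⟩
    · rw [← hf, f.apply_symm_apply]; exact hxA
    · rw [← hf, f.apply_symm_apply]; exact hyA
    · apply f.injective; simp [hn]
  · rintro ⟨⟨x', y'⟩, ⟨hx, hxA, hy, hyA, n, hn⟩, h⟩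
    cases h
    exact ⟨hx.map f, (hf _).2 hxA, hy.map f, fun e => hyA ((hf _).1 e), n, by rw [← hn, map_pow, map_mul]⟩

/-- The order is 120, and the centraliser of `z i` has a four-group of the second kind. -/
theorem count : Nat.card K = 120 ∧ {x : K | Inv2 x ∧ ¬ A x}.ncard = 15 ∧
    (∀ w, Inv2 w → A w → ∃ g, g * z * g⁻¹ = w) ∧
    ∃ b : K, Inv2 b ∧ b * (z * i) = z * i * b ∧ ¬ A b ∧ Inv2 (b * (z * i)) ∧ ¬ A (b * (z * i)) ∧
    ∀ g, g * (z * i) = z * i * g → Inv2 g → ¬ A g → g = z * i ∨ g = b ∨ g = b * (z * i) := by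
  classical
  obtain ⟨b, hb, hbt, hbz, hbi, hT⟩ := D.centt
  obtain ⟨t, ht⟩ : ∃ t, t = z * i := ⟨_, rfl⟩
  rw [← ht] at hbt hT ⊢
  have ht2 : Inv2 t := ht ▸ D.t_inv
  have htA : ¬ A t := ht ▸ D.nAt
  have hzt : z * t = t * z := ht ▸ D.zt
  have hit : i * t = t * i := ht ▸ D.it
  haveI := Fintype.ofFinite K
  have hbt2 : Inv2 (b * t) := ⟨by
      rw [show b * t * (b * t) = b * (t * b) * t by group, ← hbt, show b * (b * t) * t = b * b * (t * t) by group,
        hb.1, ht2.1, one_mul], fun e => by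
      have e1 : b = t := (mul_eq_one_iff_eq_inv.1 e).trans ht2.inv_eq
      rw [e1, ← hzt] at hbz
      exact D.ne (mul_right_cancel hbz)⟩
  have hbtA : A (b * t) ↔ A b := by
    rw [← D.conjA z b]
    have : z * b * z⁻¹ = b * t := by
      rw [← hbi, D.iz.inv_eq, mul_assoc, ← D.zi, ← ht]
    rw [this]
  have hinvT : ∀ g, g * t = t * g → Inv2 g → g = z ∨ g = i ∨ g = t ∨ g = b ∨ g = b * t := by
    intro g hg hg2
    rcases hT g hg with e | e | e | e | e | e | e | e
    · exact absurd e hg2.2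
    · exact Or.inl e
    · exact Or.inr (Or.inl e)
    · exact Or.inr (Or.inr (Or.inl e))
    · exact Or.inr (Or.inr (Or.inr (Or.inl e)))
    · exact Or.inr (Or.inr (Or.inr (Or.inr e)))
    · exfalso
      have h1 := hg2.1
      rw [e, show b * z * (b * z) = (b * z) * b * z by group, hbz, mul_assoc i b b, hb.1, mul_one,
        ← D.zi] at h1
      exact D.t_inv.2 h1
    · exfalso
      have h1 := hg2.1
      rw [Set.mem_singleton_iff.1 e, show b * i * (b * i) = (b * i) * b * i by group, hbi, mul_assoc z b b,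
        hb.1, mul_one] at h1
      exact D.t_inv.2 h1
  -- the pairs of `t`
  have hpt : ∀ x y : K, Pair A t x y → x * t = t * x ∧ y * t = t * y ∧ y ≠ t := by
    intro x y h
    obtain ⟨hxt, hyt⟩ := h.comm ht2
    refine ⟨hxt, hyt, fun e => ?_⟩
    obtain ⟨hx, hxA, -, -, n, hn⟩ := h
    rw [e] at hn
    rcases Nat.even_or_odd' n with ⟨m, rfl | rfl⟩
    · rw [pow_mul, pow_two, (show Commute x t from hxt).symm.mul_mul_mul_comm, hx.1, ht2.1, mul_one, one_pow] at hn
      exact ht2.2 hn.symm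
    · rw [pow_succ, pow_mul, pow_two, (show Commute x t from hxt).symm.mul_mul_mul_comm, hx.1, ht2.1, mul_one,
        one_pow, one_mul] at hn
      exact hx.2 (mul_eq_right.1 hn)
  -- double counting
  obtain ⟨SI, hSI⟩ : ∃ SI, SI = (Finset.univ.filter fun w : K => Inv2 w) := ⟨_, rfl⟩
  let F : Finset (K × K) := Finset.univ.filter fun a => (Inv2 a.1 ∧ A a.1) ∧ (Inv2 a.2 ∧ ¬ A a.2)
  let G' : K → Finset (K × K) := fun w => Finset.univ.filter fun a => Pair A w a.1 a.2
  have hF : F.card = {x : K | Inv2 x ∧ A x}.ncard * {x : K | Inv2 x ∧ ¬ A x}.ncard := by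
    rw [← Set.ncard_prod, ← Set.ncard_coe_finset]
    congr 1
    ext ⟨x, y⟩
    simp [F]
  have hFeq : F = SI.biUnion G' := by
    ext ⟨x, y⟩
    simp only [F, G', hSI, Finset.mem_biUnion, Finset.mem_filter, Finset.mem_univ, true_and]
    constructor
    · rintro ⟨⟨hx, hxA⟩, hy, hyA⟩
      have heven : Even (orderOf (x * y)) := by
        rw [← Nat.not_odd_iff_even]
        intro ho
        obtain ⟨g, hg⟩ := odd_conj hx hy ho
        exact hyA (hg ▸ (D.conjA g x).2 hxA)
      obtain ⟨m, hm⟩ := heven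
      have hpos : 0 < orderOf (x * y) := orderOf_pos _
      refine ⟨(x * y) ^ m, ⟨by rw [← pow_add, ← hm, pow_orderOf_eq_one], fun e => ?_⟩, hx, hxA, hy, hyA, m, rfl⟩
      have := Nat.le_of_dvd (by omega) (orderOf_dvd_of_pow_eq_one e)
      omega
    · rintro ⟨w, -, hx, hxA, hy, hyA, -⟩
      exact ⟨⟨hx, hxA⟩, hy, hyA⟩
  have hdisj : (SI : Set K).PairwiseDisjoint G' := by
    intro v hv w hw hvw
    rw [Function.onFun, Finset.disjoint_left]
    intro a hav haw
    simp only [G', hSI, Finset.mem_filter, Finset.mem_univ, true_and, Finset.mem_coe] at hav haw hv hw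
    obtain ⟨-, -, -, -, n, hn⟩ := hav
    obtain ⟨-, -, -, -, m, hm⟩ := haw
    apply hvw
    obtain ⟨k, hk⟩ : ∃ k, orderOf (a.1 * a.2) = k := ⟨_, rfl⟩
    have hvd : k ∣ 2 * n := by
      rw [← hk]; apply orderOf_dvd_of_pow_eq_one
      rw [mul_comm, pow_mul, hn, pow_two, hv.1]
    have hwd : k ∣ 2 * m := by
      rw [← hk]; apply orderOf_dvd_of_pow_eq_one
      rw [mul_comm, pow_mul, hm, pow_two, hw.1]
    have hvn : ¬ k ∣ n := fun h => hv.2 (by rw [← hn]; exact orderOf_dvd_iff_pow_eq_one.1 (hk ▸ h))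
    have hwn : ¬ k ∣ m := fun h => hw.2 (by rw [← hm]; exact orderOf_dvd_iff_pow_eq_one.1 (hk ▸ h))
    rw [← hn, ← hm, pow_inj_mod, hk]
    have key : ∀ n, k ∣ 2 * n → ¬ k ∣ n → 2 * (n % k) = k := by
      intro n h1 h2
      have hkpos : 0 < k := hk ▸ orderOf_pos _
      have hlt := Nat.mod_lt n hkpos
      have hne : n % k ≠ 0 := fun e => h2 (Nat.dvd_of_mod_eq_zero e)
      have h3 : k ∣ 2 * (n % k) := by
        have := Nat.mod_add_div n k
        have h4 : k ∣ 2 * (k * (n / k)) := dvd_mul_of_dvd_right (dvd_mul_right k _) 2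
        have h5 : 2 * n = 2 * (n % k) + 2 * (k * (n / k)) := by omega
        exact (Nat.dvd_add_left h4).1 (h5 ▸ h1)
      obtain ⟨c, hc⟩ := h3
      have hc1 : c = 1 := by
        have : c < 2 := by nlinarith
        have : c ≠ 0 := fun e => by rw [e, mul_zero] at hc; omega
        omega
      rw [hc, hc1, mul_one]
    have a1 := key n hvd hvn
    have a2 := key m hwd hwn
    omega
  have hG : ∀ w, (G' w).card = {a : K × K | Pair A w a.1 a.2}.ncard := fun w => by
    rw [← Set.ncard_coe_finset]; congr 1; ext; simp [G']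
  have hsum : {x : K | Inv2 x ∧ A x}.ncard * {x : K | Inv2 x ∧ ¬ A x}.ncard =
      9 * {x : K | Inv2 x ∧ A x}.ncard +
      {a : K × K | Pair A t a.1 a.2}.ncard * {x : K | Inv2 x ∧ ¬ A x}.ncard := by
    rw [← hF, hFeq, Finset.card_biUnion hdisj, ← Finset.sum_filter_add_sum_filter_not SI A]
    congr 1
    · rw [Finset.sum_congr rfl (g := fun _ => 9) fun w hw => ?_, Finset.sum_const, smul_eq_mul, mul_comm]
      · congr 1
        rw [← Set.ncard_coe_finset]; congr 1; ext; simp [hSI]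
      · simp only [hSI, Finset.mem_filter, Finset.mem_univ, true_and] at hw
        obtain ⟨f, hf, hfA⟩ := D.autA w hw.1 hw.2
        rw [hG, ← hf, pairs_map f hfA, D.pairs_z_card]
    · rw [Finset.sum_congr rfl (g := fun _ => {a : K × K | Pair A t a.1 a.2}.ncard) fun w hw => ?_,
        Finset.sum_const, smul_eq_mul, mul_comm]
      · congr 1
        rw [← Set.ncard_coe_finset]; congr 1; ext; simp [hSI]
      · simp only [hSI, Finset.mem_filter, Finset.mem_univ, true_and] at hw
        obtain ⟨g, hg⟩ := D.conjB hw.1 hw.2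
        rw [← ht] at hg
        have h := pairs_map (MulAut.conj g) (fun x => D.conjA g x) t
        rw [hG, show w = (MulAut.conj g) t by rw [MulAut.conj_apply]; exact hg.symm, h]
  -- class sizes
  have hclass : ∀ u : K, {w : K | ∃ g, g * u * g⁻¹ = w}.ncard * Nat.card (centralizer ({u} : Set K)) =
      Nat.card K := by
    intro u
    have h := card_over_centralizer u ⊤ le_top
    rw [card_top] at h
    simp only [mem_top, true_and] at h
    exact h
  have hB : {x : K | Inv2 x ∧ ¬ A x}.ncard * 8 = Nat.card K := by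
    have : {x : K | Inv2 x ∧ ¬ A x} = {w : K | ∃ g, g * t * g⁻¹ = w} := by
      ext w
      exact ⟨fun h => ht ▸ D.conjB h.1 h.2, fun ⟨g, hg⟩ => hg ▸ ⟨ht2.conj g, D.nA_conj htA g⟩⟩
    rw [this, ← D.cardB t ht2 htA]
    exact hclass t
  by_cases hbA : A b
  · exfalso
    have hat0 : {a : K × K | Pair A t a.1 a.2}.ncard = 0 := by
      rw [Set.ncard_eq_zero]
      refine Set.eq_empty_iff_forall_notMem.2 fun a h => ?_
      obtain ⟨-, hyt, hne⟩ := hpt _ _ h
      obtain ⟨-, -, hy, hyA, -⟩ := h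
      rcases hinvT _ hyt hy with e | e | e | e | e
      · exact hyA (e ▸ D.Az)
      · exact hyA (e ▸ D.Ai)
      · exact hne e
      · exact hyA (e ▸ hbA)
      · exact hyA (e ▸ hbtA.2 hbA)
    rw [hat0, Nat.zero_mul, Nat.add_zero] at hsum
    have hSApos : 0 < {x : K | Inv2 x ∧ A x}.ncard := (Set.ncard_pos).2 ⟨z, D.iz, D.Az⟩
    have hSB9 : {x : K | Inv2 x ∧ ¬ A x}.ncard = 9 :=
      Nat.eq_of_mul_eq_mul_left hSApos (hsum.trans (Nat.mul_comm 9 _))
    have hn : Nat.card K = 72 := by omega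
    haveI : Fact (Nat.Prime 3) := ⟨by norm_num⟩
    obtain ⟨Q, hQ⟩ := (IsPGroup.of_card (p := 3) (n := 1) (G := zpowers p)
      (by rw [Nat.card_zpowers, D.order_p, pow_one])).exists_le_sylow
    have hQc : Nat.card (Q : Subgroup K) = 9 := by
      rw [Sylow.card_eq_multiplicity, hn, show (72 : ℕ) = 3 ^ 2 * 8 by norm_num,
        Nat.factorization_mul (by norm_num) (by norm_num), Finsupp.add_apply,
        Nat.Prime.factorization_pow (by norm_num : Nat.Prime 3), Finsupp.single_eq_same,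
        Nat.factorization_eq_zero_of_not_dvd (by norm_num : ¬ 3 ∣ 8)]
      norm_num
    letI : CommGroup (Q : Subgroup K) := IsPGroup.commGroupOfCardEqPrimeSq (p := 3) (by rw [hQc]; norm_num)
    have hle : (Q : Subgroup K) ≤ centralizer ({z} : Set K) := fun g hg =>
      mem_centralizer_singleton_iff.2 (D.centp g
        (congrArg Subtype.val (mul_comm (⟨g, hg⟩ : (Q : Subgroup K)) ⟨p, hQ (mem_zpowers p)⟩)))
    have := card_dvd_of_le hle
    rw [hQc, D.cardz] at this
    omega
  · have hbtA' : ¬ A (b * t) := fun e => hbA (hbtA.1 e)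
    have hne : b ≠ b * t := fun e => ht2.2 (mul_eq_left.1 e.symm)
    have hat4 : {a : K × K | Pair A t a.1 a.2}.ncard = 4 := by
      have hset : {a : K × K | Pair A t a.1 a.2} = {(z, b), (z, b * t), (i, b), (i, b * t)} := by
        ext ⟨x, y⟩
        simp only [Set.mem_insert_iff, Set.mem_singleton_iff, Prod.mk.injEq]
        constructor
        · intro h
          obtain ⟨hxt, hyt, hne'⟩ := hpt x y h
          obtain ⟨hx, hxA, hy, hyA, -⟩ := h
          rcases hinvT y hyt hy with e | e | e | e | e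
          · exact absurd D.Az (e ▸ hyA)
          · exact absurd D.Ai (e ▸ hyA)
          · exact absurd e hne'
          all_goals
            rcases hinvT x hxt hx with f | f | f | f | f
            · simp [e, f]
            · simp [e, f]
            · rw [f] at hxA; exact absurd hxA htA
            · rw [f] at hxA; exact absurd hxA hbA
            · rw [f] at hxA; exact absurd hxA hbtA'
        · have hsq : ∀ x : K, (x = z ∨ x = i) → (x * b) * (x * b) = t ∧ (x * (b * t)) * (x * (b * t)) = t := by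
            intro x hx
            have h1 : (x * b) * (x * b) = t := by
              rcases hx with e | e <;> rw [e]
              · rw [show z * b * (z * b) = z * (b * z) * b by group, hbz, mul_assoc z, mul_assoc i b b, hb.1,
                  mul_one, ht]
              · rw [show i * b * (i * b) = i * (b * i) * b by group, hbi, mul_assoc i, mul_assoc z b b, hb.1,
                  mul_one, ← D.zi, ht]
            refine ⟨h1, ?_⟩
            have hxt : x * t = t * x := by
              rcases hx with e | e <;> rw [e]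
              · exact hzt
              · exact hit
            have hc : Commute (x * b) t := (show Commute x t from hxt).mul_left hbt
            rw [← mul_assoc x b t, hc.symm.mul_mul_mul_comm, h1, ht2.1, mul_one]
          rintro (⟨rfl, rfl⟩ | ⟨rfl, rfl⟩ | ⟨rfl, rfl⟩ | ⟨rfl, rfl⟩)
          · exact ⟨D.iz, D.Az, hb, hbA, 2, by rw [pow_two]; exact (hsq _ (Or.inl rfl)).1⟩
          · exact ⟨D.iz, D.Az, hbt2, hbtA', 2, by rw [pow_two]; exact (hsq _ (Or.inl rfl)).2⟩
          · exact ⟨D.ii, D.Ai, hb, hbA, 2, by rw [pow_two]; exact (hsq _ (Or.inr rfl)).1⟩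
          · exact ⟨D.ii, D.Ai, hbt2, hbtA', 2, by rw [pow_two]; exact (hsq _ (Or.inr rfl)).2⟩
      rw [hset, Set.ncard_insert_of_notMem, Set.ncard_insert_of_notMem, Set.ncard_pair] <;>
        simp [D.ne, hne]
    have hcA : {x : K | Inv2 x ∧ A x} = {w : K | ∃ g, g * z * g⁻¹ = w} := by
      ext w
      refine ⟨fun h => ?_, fun ⟨g, hg⟩ => hg ▸ ⟨D.iz.conj g, (D.conjA g z).2 D.Az⟩⟩
      haveI : Fact (Nat.Prime 2) := ⟨Nat.prime_two⟩
      have hw2 : IsPGroup 2 (zpowers w) := IsPGroup.of_card (n := 1) (by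
        rw [Nat.card_zpowers, pow_one, orderOf_eq_prime (by rw [pow_two]; exact h.1.1) h.1.2])
      obtain ⟨R, hR⟩ := hw2.exists_le_sylow
      obtain ⟨S, hSe⟩ := D.sylow_T
      obtain ⟨g, hg⟩ := MulAction.exists_smul_eq K R S
      have hm : g * w * g⁻¹ ∈ centralizer ({t} : Set K) := by
        rw [ht, ← hSe, ← hg, Sylow.coe_subgroup_smul]
        exact ⟨w, hR (mem_zpowers w), rfl⟩
      have hgw : A (g * w * g⁻¹) := (D.conjA g w).2 h.2
      rcases hinvT _ (mem_centralizer_singleton_iff.1 hm) (h.1.conj g) with e | e | e | e | e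
      · exact ⟨g⁻¹, by rw [← e]; group⟩
      · refine ⟨g⁻¹ * b, ?_⟩
        calc g⁻¹ * b * z * (g⁻¹ * b)⁻¹ = g⁻¹ * (b * z * b⁻¹) * g := by group
          _ = w := by rw [hbz, mul_inv_cancel_right, ← e]; group
      · rw [e] at hgw; exact absurd hgw htA
      · rw [e] at hgw; exact absurd hgw hbA
      · rw [e] at hgw; exact absurd hgw hbtA'
    have hA : {x : K | Inv2 x ∧ A x}.ncard * 12 = Nat.card K := by
      rw [hcA, ← D.cardz]
      exact hclass z
    have hn : Nat.card K = 120 := by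
      rw [hat4] at hsum
      have hpos : 0 < Nat.card K := Nat.card_pos
      nlinarith [hsum, hA, hB]
    refine ⟨hn, by omega, fun w hw hwA => hcA.le ⟨hw, hwA⟩, b, hb, hbt, hbA, hbt2, hbtA', fun g hg hg2 hgA => ?_⟩
    rcases hinvT g hg hg2 with e | e | e | e | e
    · exact absurd D.Az (e ▸ hgA)
    · exact absurd D.Ai (e ▸ hgA)
    · exact Or.inl e
    · exact Or.inr (Or.inl e)
    · exact Or.inr (Or.inr e)

/-- The group is the symmetric group of degree five. -/
theorem iso_perm : Nonempty (K ≃* Equiv.Perm (Fin 5)) := by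
  classical
  haveI := Fintype.ofFinite K
  obtain ⟨hn, h15, -, b, hb, hbt, hbA, hbt2, hbtA, hBT⟩ := D.count
  obtain ⟨t, ht⟩ : ∃ t, t = z * i := ⟨_, rfl⟩
  rw [← ht] at hbt hbt2 hbtA hBT
  have ht2 : Inv2 t := ht ▸ D.t_inv
  have htA : ¬ A t := ht ▸ D.nAt
  let X : K → Finset K := fun g => Finset.univ.filter fun v => Inv2 v ∧ ¬ A v ∧ v * g = g * v
  have mX : ∀ {g v}, v ∈ X g ↔ Inv2 v ∧ ¬ A v ∧ v * g = g * v := fun {g v} => by simp [X]
  have hbne : b ≠ t := fun e => hbt2.2 (by rw [e, ht2.1])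
  have hbtne : t ≠ b * t := fun e => hb.2 (mul_eq_right.1 e.symm)
  have hbbt : b ≠ b * t := fun e => ht2.2 (mul_eq_left.1 e.symm)
  have hXt : X t = {t, b, b * t} := by
    ext v
    simp only [mX, Finset.mem_insert, Finset.mem_singleton]
    refine ⟨fun h => hBT v h.2.2 h.1 h.2.1, ?_⟩
    rintro (rfl | rfl | rfl)
    · exact ⟨ht2, htA, rfl⟩
    · exact ⟨hb, hbA, hbt⟩
    · exact ⟨hbt2, hbtA, by rw [mul_assoc, ← mul_assoc t b t, ← hbt, mul_assoc b t t, ht2.1]⟩
  have hX3 : (X t).card = 3 := by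
    rw [hXt]
    exact Finset.card_eq_three.2 ⟨t, b, b * t, hbne.symm, hbtne, hbbt, rfl⟩
  have hconj : ∀ g w v : K, g * v * g⁻¹ ∈ X (g * w * g⁻¹) ↔ v ∈ X w := by
    intro g w v
    rw [mX, mX]
    refine and_congr ⟨fun h => ?_, fun h => h.conj g⟩ (and_congr (not_congr (D.conjA g v)) ?_)
    · have := h.conj g⁻¹
      rwa [inv_inv, show g⁻¹ * (g * v * g⁻¹) * g = v by group] at this
    · constructor
      · intro h
        calc v * w = g⁻¹ * (g * v * g⁻¹ * (g * w * g⁻¹)) * g := by group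
          _ = w * v := by rw [h]; group
      · intro h
        calc g * v * g⁻¹ * (g * w * g⁻¹) = g * (v * w) * g⁻¹ := by group
          _ = _ := by rw [h]; group
  have himg : ∀ g w : K, (X w).image (fun v => g * v * g⁻¹) = X (g * w * g⁻¹) := by
    intro g w
    ext v
    rw [Finset.mem_image]
    refine ⟨fun ⟨u, hu, e⟩ => e ▸ (hconj g w u).2 hu, fun h => ⟨g⁻¹ * v * g, ?_, by group⟩⟩
    rw [← hconj g w, show g * (g⁻¹ * v * g) * g⁻¹ = v by group]
    exact h
  have hXB : ∀ w, Inv2 w → ¬ A w → (X w).card = 3 := by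
    intro w hw hwA
    obtain ⟨g, hg⟩ := D.conjB hw hwA
    rw [← ht] at hg
    rw [← hg, ← himg, Finset.card_image_of_injective _ fun a c h => mul_left_cancel (mul_right_cancel h), hX3]
  -- the class of `t`
  have hclass : ∀ u ∈ X t, X u = X t := by
    intro u hu
    refine (Finset.eq_of_subset_of_card_le (fun v hv => ?_) ?_).symm
    · obtain ⟨h1, h2, h3⟩ := mX.1 hv
      refine mX.2 ⟨h1, h2, ?_⟩
      have hc : ∀ a c : K, (a = t ∨ a = b ∨ a = b * t) → (c = t ∨ c = b ∨ c = b * t) → Commute a c := by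
        have c1 : Commute b t := hbt
        have c2 : Commute b (b * t) := (Commute.refl b).mul_right c1
        have c3 : Commute t (b * t) := c1.symm.mul_right (Commute.refl t)
        rintro a c (e | e | e) (f | f | f) <;> rw [e, f] <;>
          first
          | exact Commute.refl _
          | exact c1
          | exact c1.symm
          | exact c2
          | exact c2.symm
          | exact c3
          | exact c3.symm
      rw [hXt] at hu hv
      simp only [Finset.mem_insert, Finset.mem_singleton] at hu hv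
      exact hc v u hv hu
    · rw [hX3, hXB u (mX.1 hu).1 (mX.1 hu).2.1]
  have hmul : ∀ w u : K, Inv2 w → ¬ A w → u ∈ X w → u ≠ w → w * u ∈ X w := by
    intro w u hw hwA hu huw
    obtain ⟨g, hg⟩ := D.conjB hw hwA
    rw [← ht] at hg
    subst hg
    rw [← himg, Finset.mem_image] at hu ⊢
    obtain ⟨v, hv, rfl⟩ := hu
    refine ⟨t * v, ?_, by group⟩
    rw [hXt] at hv ⊢
    simp only [Finset.mem_insert, Finset.mem_singleton] at hv ⊢
    rcases hv with e | e | e
    · exact absurd (by rw [e]) huw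
    · exact Or.inr (Or.inr (by rw [e, hbt]))
    · exact Or.inr (Or.inl (by rw [e, hbt, ← mul_assoc, ht2.1, one_mul]))
  let H : Subgroup K :=
    { carrier := {g | ∀ v, g * v * g⁻¹ ∈ X t ↔ v ∈ X t}
      one_mem' := fun v => by rw [one_mul, inv_one, mul_one]
      mul_mem' := fun {g h} hg hh v => by
        rw [show g * h * v * (g * h)⁻¹ = g * (h * v * h⁻¹) * g⁻¹ by group]
        exact (hg _).trans (hh v)
      inv_mem' := fun {g} hg v => by
        rw [← hg, show g * (g⁻¹ * v * g⁻¹⁻¹) * g⁻¹ = v by group] }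
  have hH : ∀ g, g ∈ H ↔ g * t * g⁻¹ ∈ X t := by
    intro g
    refine ⟨fun h => (h t).2 (mX.2 ⟨ht2, htA, rfl⟩), fun h v => ?_⟩
    rw [← hconj g t v, hclass _ h]
  have hH24 : Nat.card H = 24 := by
    have hle : centralizer ({t} : Set K) ≤ H := fun g hg => by
      rw [hH, mul_inv_eq_iff_eq_mul.2 (mem_centralizer_singleton_iff.1 hg)]
      exact mX.2 ⟨ht2, htA, rfl⟩
    rw [← card_over_centralizer t H hle, D.cardB t ht2 htA]
    have : {w : K | ∃ g ∈ H, g * t * g⁻¹ = w} = ↑(X t) := by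
      ext w
      refine ⟨fun ⟨g, hg, e⟩ => e ▸ (hH g).1 hg, fun hw => ?_⟩
      obtain ⟨g, hg⟩ := D.conjB (mX.1 hw).1 (mX.1 hw).2.1
      rw [← ht] at hg
      exact ⟨g, (hH g).2 (hg.symm ▸ hw), hg⟩
    rw [this, Set.ncard_coe_finset, hX3]
  have hidx : H.index = 5 := by
    have := H.card_mul_index
    rw [hH24, hn] at this
    omega
  -- the core has no involution
  have hcore : ∀ g ∈ H.normalCore, ∀ w, Inv2 w → ¬ A w → g * w * g⁻¹ ∈ X w := by
    intro g hg w hw hwA
    obtain ⟨x, hx⟩ := D.conjB hw hwA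
    rw [← ht] at hx
    have h1 : x⁻¹ * g * x ∈ H := by
      have := H.normalCore_normal.conj_mem g hg x⁻¹
      rw [inv_inv] at this
      exact H.normalCore_le this
    rw [← hx, show g * (x * t * x⁻¹) * g⁻¹ = x * ((x⁻¹ * g * x) * t * (x⁻¹ * g * x)⁻¹) * x⁻¹ by group, hconj]
    exact (hH _).1 h1
  have hX3' : ∀ g, Inv2 g → (X g).card ≤ 3 := by
    intro g hg
    by_cases hA : A g
    · obtain ⟨f, hf, hfA⟩ := D.autA g hg hA
      refine (Finset.card_le_card (t := (Finset.univ : Finset (Fin 3)).image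
        fun k : Fin 3 => f (z * p ^ (k : ℕ) * i)) fun v hv => ?_).trans
        (Finset.card_image_le.trans (by simp))
      obtain ⟨h1, h2, h3⟩ := mX.1 hv
      have h4 : ¬ A (f.symm v) := fun e => h2 (by rw [← f.apply_symm_apply v, hfA]; exact e)
      have h5 : f.symm v * z = z * f.symm v := by
        apply f.injective
        rw [map_mul, map_mul, f.apply_symm_apply, hf]; exact h3
      rcases D.centz_cases (h1.map f.symm) h5 with e | ⟨k, e | e⟩
      · exact absurd D.Az (e ▸ h4)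
      · exact absurd (D.refl_inv _).2 (e ▸ h4)
      · exact Finset.mem_image.2 ⟨k, Finset.mem_univ _, by rw [← e, f.apply_symm_apply]⟩
    · exact (hXB g hg hA).le
  have hodd : ∀ g ∈ H.normalCore, ¬ Inv2 g := by
    intro g hg hg2
    have hsub : (Finset.univ.filter fun w => Inv2 w ∧ ¬ A w) ⊆ (X g).biUnion X := by
      intro w hw
      obtain ⟨hw, hwA⟩ := (Finset.mem_filter.1 hw).2
      have hu := hcore g hg w hw hwA
      rw [hg2.inv_eq] at hu
      rw [Finset.mem_biUnion]
      by_cases hwu : g * w * g = w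
      · refine ⟨w, mX.2 ⟨hw, hwA, ?_⟩, mX.2 ⟨hw, hwA, rfl⟩⟩
        calc w * g = g * w * g * g := by rw [hwu]
          _ = g * w := by rw [mul_assoc, hg2.1, mul_one]
      · have hv := hmul w _ hw hwA hu hwu
        obtain ⟨h1, h2, h3⟩ := mX.1 hv
        refine ⟨_, mX.2 ⟨h1, h2, ?_⟩, mX.2 ⟨hw, hwA, h3.symm⟩⟩
        have hcw := (mX.1 hu).2.2
        calc w * (g * w * g) * g = w * g * w * (g * g) := by group
          _ = w * g * w * g * g := by group
          _ = w * (g * w * g) * g := by group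
          _ = g * w * g * w * g := by rw [hcw]
          _ = g * (w * (g * w * g)) := by group
    have hcard : (Finset.univ.filter fun w => Inv2 w ∧ ¬ A w).card = 15 := by
      rw [← h15, ← Set.ncard_coe_finset]; congr 1; ext; simp
    have h1 := (Finset.card_le_card hsub).trans
      (Finset.card_biUnion_le_card_mul (X g) X 3 fun v hv => (hXB v (mX.1 hv).1 (mX.1 hv).2.1).le)
    rw [hcard] at h1
    have := hX3' g hg2
    omega
  have hbot : H.normalCore = ⊥ := by
    have hdvd : Nat.card H.normalCore ∣ 24 := hH24 ▸ card_dvd_of_le H.normalCore_le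
    have h2 : ¬ 2 ∣ Nat.card H.normalCore := by
      intro h
      haveI : Fact (Nat.Prime 2) := ⟨Nat.prime_two⟩
      obtain ⟨g, hg⟩ := exists_prime_orderOf_dvd_card' 2 h
      apply hodd g g.2
      rw [← orderOf_coe] at hg
      refine ⟨?_, fun e => by rw [e, orderOf_one] at hg; omega⟩
      rw [← pow_two, ← hg, pow_orderOf_eq_one]
    have h13 : Nat.card H.normalCore = 1 ∨ Nat.card H.normalCore = 3 := by
      have hle := Nat.le_of_dvd (by norm_num) hdvd
      generalize Nat.card H.normalCore = m at hdvd h2 hle ⊢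
      interval_cases m <;> omega
    rcases h13 with h | h
    · exact eq_bot_of_card_eq _ h
    exfalso
    haveI : Fact (Nat.Prime 3) := ⟨by norm_num⟩
    obtain ⟨n, hn1⟩ := exists_prime_orderOf_dvd_card' 3 (dvd_of_eq h.symm)
    rw [← orderOf_coe] at hn1
    have hn3 : (n : K) * n * n = 1 := by
      rw [← pow_two, ← pow_succ, show 2 + 1 = orderOf (n : K) from hn1.symm, pow_orderOf_eq_one]
    have hinv : ∀ w, Inv2 w → ¬ A w → w * n * w = (n : K)⁻¹ := by
      intro w hw hwA
      have hmem : w * n * w⁻¹ ∈ zpowers (n : K) := by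
        have : H.normalCore = zpowers (n : K) :=
          (eq_of_le_of_card_ge (zpowers_le.2 n.2) (by rw [Nat.card_zpowers, hn1, h])).symm
        rw [← this]
        exact H.normalCore_normal.conj_mem n n.2 w
      obtain ⟨k, hk, e⟩ := Finset.mem_image.1 (mem_zpowers_iff_mem_range_orderOf.1 hmem)
      rw [Finset.mem_range, hn1] at hk
      rw [hw.inv_eq] at e
      interval_cases k
      · exfalso
        rw [pow_zero] at e
        have : (n : K) = w * 1 * w := by
          rw [e, show w * (w * (n : K) * w) * w = (w * w) * n * (w * w) by group, hw.1, one_mul, mul_one]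
        rw [mul_one, hw.1] at this
        rw [this, orderOf_one] at hn1
        omega
      · exfalso
        rw [pow_one] at e
        have hnc : (n : K) ∈ centralizer ({w} : Set K) := by
          rw [mem_centralizer_singleton_iff]
          calc (n : K) * w = w * (n : K) * w * w := by rw [← e]
            _ = w * n := by rw [mul_assoc, hw.1, mul_one]
        have hd : orderOf (n : K) ∣ 8 := by
          rw [← D.cardB w hw hwA]
          have := _root_.orderOf_dvd_natCard (⟨(n : K), hnc⟩ : centralizer ({w} : Set K))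
          rwa [orderOf_mk] at this
        rw [hn1] at hd
        omega
      · rw [← e, pow_two]
        exact eq_inv_of_mul_eq_one_left hn3
    have e1 := hinv (b * t) hbt2 hbtA
    have e2 : b * t * n * (b * t) = (n : K) := by
      calc b * t * n * (b * t) = b * (t * n) * (b * t) := by group
        _ = b * (t * n) * (t * b) := by rw [hbt]
        _ = b * (t * n * t) * b := by group
        _ = b * (n : K)⁻¹ * b := by rw [hinv t ht2 htA]
        _ = (b * n * b)⁻¹ := by rw [_root_.mul_inv_rev, _root_.mul_inv_rev, hb.inv_eq, mul_assoc]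
        _ = n := by rw [hinv b hb hbA, inv_inv]
    rw [e2] at e1
    have hsq : (n : K) * n = 1 := mul_eq_one_iff_eq_inv.2 e1
    rw [hsq, one_mul] at hn3
    rw [hn3, orderOf_one] at hn1
    omega
  have hker : (MulAction.toPermHom K (K ⧸ H)).ker = ⊥ := by rw [← normalCore_eq_ker, hbot]
  let e : K ⧸ H ≃ Fin 5 := Finite.equivFinOfCardEq (by rw [← hidx, index_eq_card])
  refine ⟨MulEquiv.ofBijective ((e.permCongrHom).toMonoidHom.comp (MulAction.toPermHom K (K ⧸ H))) ?_⟩
  refine (Nat.bijective_iff_injective_and_card _).2 ⟨?_, ?_⟩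
  · exact (e.permCongrHom).injective.comp ((MonoidHom.ker_eq_bot_iff _).1 hker)
  · rw [hn, Nat.card_perm, Nat.card_fin]
    rfl

end Data

end Cfsg.Agent.J4Type.SevenRecog
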