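import Cfsg.Agent.J4Type.SevenCent
import Cfsg.Agent.J4Type.SevenRecog

/-!
# The centraliser of an element of order seven: its involutions

The data collected at an element `σ` of order seven, and the order of the common centraliser of `σ` and an
involution not conjugate to `z`.
-/

set_option autoImplicit false

open Cfsg Subgroup
open scoped Pointwise

namespace Cfsg.Agent.J4Type

variable {G : Type*} [Group G]

/-- What is used at an element of order seven in `C(z)`. -/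
structure SevenData (z p σ i : G) : Prop where
  oz : orderOf z = 2
  o7 : orderOf σ = 7
  sz : Commute σ z
  sp : Commute σ p
  si : Commute σ i
  pz : Commute p z
  iz : Commute i z
  p3 : p * p * p = 1
  p1 : p ≠ 1
  pinv : i * p * i = p⁻¹
  i2 : i * i = 1
  iconj : IsConj z i
  tn : ¬ IsConj z (i * z)
  card84 : Nat.card ↥(centralizer ({z} : Set G) ⊓ centralizer ({σ} : Set G)) = 84
  card252 : Nat.card ↥(centralizer ({z} : Set G) ⊓ normalizer ((zpowers σ : Subgroup G) : Set G)) = 252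
  pnorm : ∀ g ∈ centralizer ({z} : Set G) ⊓ centralizer ({σ} : Set G), g * p * g⁻¹ ∈ zpowers p
  notdvd : ¬ 49 ∣ Nat.card ↥(centralizer ({z} : Set G))
  centp : ∀ g, g * p = p * g → g * z = z * g
  cent7 : ∀ τ : MulAut ↥Spor.M22, orderOf τ = 7 →
    Nat.card ↥(centralizer ({τ} : Set (MulAut ↥Spor.M22))) = 14
  compl : ∀ y : G, orderOf y = 2 → ¬ IsConj z y → ∃ V K : Subgroup G, V ≤ centralizer ({y} : Set G) ∧
    K ≤ centralizer ({y} : Set G) ∧ centralizer ({y} : Set G) ≤ normalizer (V : Set G) ∧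
    IsElementaryAbelian 2 V ∧ Nat.card ↥V = 2 ^ 11 ∧ K ⊓ V = ⊥ ∧ K ⊔ V = centralizer ({y} : Set G) ∧
    Nonempty (↥K ≃* MulAut ↥Spor.M22)

/-- Subgroups meeting trivially inside a third one. -/
theorem card_mul_le_of_disjoint [Finite G] {A B C : Subgroup G} (hA : A ≤ C) (hB : B ≤ C)
    (h : ∀ x ∈ A, x ∈ B → x = 1) : Nat.card ↥A * Nat.card ↥B ≤ Nat.card ↥C := by
  rw [← Nat.card_prod]
  refine Nat.card_le_card_of_injective
    (fun a : ↥A × ↥B => (⟨(a.1 : G) * a.2, C.mul_mem (hA a.1.2) (hB a.2.2)⟩ : ↥C)) fun a b e => ?_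
  have e' : (a.1 : G) * a.2 = b.1 * b.2 := congrArg Subtype.val e
  have hx : (b.1 : G)⁻¹ * a.1 = b.2 * (a.2 : G)⁻¹ := by
    rw [eq_mul_inv_iff_mul_eq, mul_assoc, e', inv_mul_cancel_left]
  have h1 := h _ (A.mul_mem (A.inv_mem b.1.2) a.1.2)
    (by rw [hx]; exact B.mul_mem b.2.2 (B.inv_mem a.2.2))
  have ha : (a.1 : G) = b.1 := (eq_of_inv_mul_eq_one h1).symm
  rw [ha] at e'
  exact Prod.ext (Subtype.ext ha) (Subtype.ext (mul_left_cancel e'))

/-- An elementary abelian 2-group normalised by an involution has order at most the square of the order of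
its fixed subgroup. -/
theorem card_le_fixed_sq [Finite G] {A : Subgroup G} (hA : IsElementaryAbelian 2 A) {x : G} (hx : x * x = 1)
    (hn : ∀ a ∈ A, x * a * x⁻¹ ∈ A) :
    Nat.card ↥A ≤ Nat.card ↥(A ⊓ centralizer ({x} : Set G)) * Nat.card ↥(A ⊓ centralizer ({x} : Set G)) := by
  have hc : ∀ a ∈ A, ∀ b ∈ A, a * b = b * a := fun a ha b hb =>
    congrArg Subtype.val (hA.1.is_comm.comm (⟨a, ha⟩ : A) ⟨b, hb⟩)
  have h2 : ∀ a ∈ A, a * a = 1 := fun a ha => by rw [← pow_two]; exact hA.2 a ha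
  let f : ↥A →* ↥A :=
    { toFun := fun a => ⟨(a : G) * (x * a * x⁻¹), mul_mem a.2 (hn a a.2)⟩
      map_one' := Subtype.ext (by simp)
      map_mul' := fun a b => Subtype.ext (by
        show (a : G) * b * (x * (a * b) * x⁻¹) = a * (x * a * x⁻¹) * (b * (x * b * x⁻¹))
        have h := hc b b.2 (x * a * x⁻¹) (hn a a.2)
        calc (a : G) * b * (x * (a * b) * x⁻¹) = a * (b * (x * a * x⁻¹)) * (x * b * x⁻¹) := by group
          _ = a * ((x * a * x⁻¹) * b) * (x * b * x⁻¹) := by rw [h]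
          _ = _ := by group) }
  have hxi : x⁻¹ = x := inv_eq_of_mul_eq_one_right hx
  have hker : Nat.card f.ker ≤ Nat.card ↥(A ⊓ centralizer ({x} : Set G)) := by
    refine Nat.card_le_card_of_injective (fun a : f.ker => (⟨((a : ↥A) : G), (a : ↥A).2,
      mem_centralizer_singleton_iff.2 ?_⟩ : ↥(A ⊓ centralizer ({x} : Set G))))
      fun a b e => Subtype.ext (Subtype.ext (congrArg (fun w : ↥(A ⊓ centralizer ({x} : Set G)) => (w : G)) e))
    have h1 : ((a : ↥A) : G) * (x * (a : ↥A) * x⁻¹) = 1 := congrArg Subtype.val (MonoidHom.mem_ker.1 a.2)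
    have h3 : x * ((a : ↥A) : G) * x⁻¹ = (a : ↥A) :=
      (inv_eq_of_mul_eq_one_right h1).symm.trans (inv_eq_of_mul_eq_one_right (h2 _ (a : ↥A).2))
    exact (mul_inv_eq_iff_eq_mul.1 h3).symm
  have hrange : Nat.card f.range ≤ Nat.card ↥(A ⊓ centralizer ({x} : Set G)) := by
    refine Nat.card_le_card_of_injective (fun a : f.range => (⟨((a : ↥A) : G), (a : ↥A).2,
      mem_centralizer_singleton_iff.2 ?_⟩ : ↥(A ⊓ centralizer ({x} : Set G))))
      fun a b e => Subtype.ext (Subtype.ext (congrArg (fun w : ↥(A ⊓ centralizer ({x} : Set G)) => (w : G)) e))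
    obtain ⟨b, hb⟩ := a.2
    rw [← hb]
    show (b : G) * (x * b * x⁻¹) * x = x * (b * (x * b * x⁻¹))
    rw [hxi]
    calc (b : G) * (x * b * x) * x = b * (x * b) * (x * x) := by group
      _ = b * (x * b) := by rw [hx, mul_one]
      _ = (b * (x * b * x)) * x := by
          rw [mul_assoc (b : G) (x * b * x) x, mul_assoc (x * b) x x, hx, mul_one]
      _ = ((x * b * x) * b) * x := by
          have h := hc (b : G) b.2 (x * b * x⁻¹) (hn b b.2)
          rw [hxi] at h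
          rw [h]
      _ = x * (b * (x * b * x)) := by group
  rw [← f.ker.card_mul_index, index_ker]
  exact Nat.mul_le_mul hker hrange

/-- A product of seven members of an elementary abelian 2-group that is `1`. -/
theorem shift_eq {V : Subgroup G} (h2 : ∀ v ∈ V, v * v = 1) (hc : ∀ a ∈ V, ∀ b ∈ V, a * b = b * a)
    {a₀ a₁ a₂ a₃ a₄ a₅ a₆ : G} (h₀ : a₀ ∈ V) (h₁ : a₁ ∈ V) (h₂ : a₂ ∈ V) (h₃ : a₃ ∈ V) (h₄ : a₄ ∈ V)
    (h₅ : a₅ ∈ V) (h₆ : a₆ ∈ V) (h : a₀ * a₁ * a₂ * a₃ * a₄ * a₅ * a₆ = 1) :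
    a₁ * a₃ * a₅ * a₀ = a₂ * a₄ * a₆ := by
  have c1 := hc a₁ h₁ a₀ h₀
  have hx : a₁ * a₃ * a₅ * a₀ * (a₂ * a₄ * a₆) = 1 := by
    rw [← h]
    have e1 := hc (a₁ * a₃ * a₅) (mul_mem (mul_mem h₁ h₃) h₅) a₀ h₀
    rw [e1]
    have e2 := hc (a₃ * a₅) (mul_mem h₃ h₅) a₂ h₂
    have e3 := hc a₅ h₅ a₄ h₄
    calc a₀ * (a₁ * a₃ * a₅) * (a₂ * a₄ * a₆) = a₀ * a₁ * ((a₃ * a₅) * a₂) * a₄ * a₆ := by group
      _ = a₀ * a₁ * a₂ * a₃ * (a₅ * a₄) * a₆ := by rw [e2]; group
      _ = a₀ * a₁ * a₂ * a₃ * a₄ * a₅ * a₆ := by rw [e3]; group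
  exact (mul_eq_one_iff_eq_inv.1 hx).trans (inv_eq_of_mul_eq_one_right (h2 _ (mul_mem (mul_mem h₂ h₄) h₆)))

namespace SevenData

variable {z p σ i : G} (D : SevenData z p σ i)
include D

theorem zz : z * z = 1 := by rw [← pow_two, ← D.oz, pow_orderOf_eq_one]

theorem z1 : z ≠ 1 := fun h => by have := D.oz; rw [h, orderOf_one] at this; omega

theorem s7 : σ ^ 7 = 1 := by rw [← D.o7, pow_orderOf_eq_one]

theorem conj_z {g w : G} (h : IsConj z w) : IsConj z (g * w * g⁻¹) :=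
  h.trans (isConj_iff.2 ⟨g, rfl⟩)

theorem conj_z_iff {g w : G} : IsConj z (g * w * g⁻¹) ↔ IsConj z w := by
  refine ⟨fun h => ?_, D.conj_z⟩
  have := D.conj_z (g := g⁻¹) h
  rwa [show g⁻¹ * (g * w * g⁻¹) * g⁻¹⁻¹ = w by group] at this

theorem sq_of_conj {w : G} (h : IsConj z w) : w * w = 1 ∧ w ≠ 1 := by
  obtain ⟨g, rfl⟩ := isConj_iff.1 h
  exact ⟨by rw [show g * z * g⁻¹ * (g * z * g⁻¹) = g * (z * z) * g⁻¹ by group, D.zz]; group,
    fun e => D.z1 (conj_eq_one_iff.1 e)⟩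

variable [Finite G]

/-- Elements of order seven of `C(z)` are conjugate in `C(z)` into `⟨σ⟩`. -/
theorem exists_conj_seven {τ : G} (hτ : τ ^ 7 = 1) (hτz : τ * z = z * τ) :
    ∃ h ∈ centralizer ({z} : Set G), h * τ * h⁻¹ ∈ zpowers σ := by
  haveI : Fact (Nat.Prime 7) := ⟨by norm_num⟩
  by_cases hτ1 : τ = 1
  · exact ⟨1, one_mem _, by rw [hτ1, one_mul, one_mul, inv_one]; exact one_mem _⟩
  let H := centralizer ({z} : Set G)
  have hσH : σ ∈ H := mem_centralizer_singleton_iff.2 D.sz.eq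
  have hsyl : ∀ x : ↥H, orderOf x = 7 → ∃ S : Sylow 7 ↥H, (S : Subgroup ↥H) = zpowers x := by
    intro x hx
    obtain ⟨S, hS⟩ := (IsPGroup.of_card (p := 7) (n := 1) (G := zpowers x)
      (by rw [Nat.card_zpowers, hx, pow_one])).exists_le_sylow
    refine ⟨S, (eq_of_le_of_card_ge hS ?_).symm⟩
    rw [Nat.card_zpowers, hx]
    obtain ⟨n, hn⟩ := IsPGroup.iff_card.1 S.isPGroup'
    rw [hn]
    have : n ≤ 1 := by
      by_contra h
      exact D.notdvd ((pow_dvd_pow 7 (show 2 ≤ n by omega)).trans (hn ▸ card_subgroup_dvd_card _))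
    exact le_trans (Nat.pow_le_pow_right (by norm_num) this) (by norm_num)
  obtain ⟨S, hS⟩ := hsyl ⟨τ, mem_centralizer_singleton_iff.2 hτz⟩
    (by rw [orderOf_mk]; exact orderOf_eq_prime hτ hτ1)
  obtain ⟨T, hT⟩ := hsyl ⟨σ, hσH⟩ (by rw [orderOf_mk]; exact D.o7)
  obtain ⟨h, hh⟩ := MulAction.exists_smul_eq ↥H S T
  refine ⟨h, h.2, ?_⟩
  have hm : h * ⟨τ, mem_centralizer_singleton_iff.2 hτz⟩ * h⁻¹ ∈ (T : Subgroup ↥H) := by
    rw [← hh, Sylow.coe_subgroup_smul, hS]
    exact ⟨_, mem_zpowers _, rfl⟩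
  rw [hT] at hm
  obtain ⟨k, hk⟩ := mem_zpowers_iff.1 hm
  exact ⟨k, by simpa using congrArg Subtype.val hk⟩

/-- A conjugate of `z` commuting with `σ` is moved to `z` inside the normaliser of `⟨σ⟩`. -/
theorem exists_norm_map {w : G} (hw : w * σ = σ * w) (h : IsConj z w) :
    ∃ n ∈ normalizer ((zpowers σ : Subgroup G) : Set G), n * z * n⁻¹ = w := by
  obtain ⟨g, hg⟩ := isConj_iff.1 h
  obtain ⟨c, hc, hcs⟩ := D.exists_conj_seven (τ := g⁻¹ * σ * g)
    (by rw [show g⁻¹ * σ * g = g⁻¹ * σ * g⁻¹⁻¹ by rw [inv_inv], conj_pow, D.s7, mul_one, mul_inv_cancel])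
    (by
      rw [show g⁻¹ * σ * g * z = g⁻¹ * (σ * (g * z * g⁻¹)) * g by group, hg, ← hw, ← hg]
      group)
  have hn : c * g⁻¹ ∈ normalizer ((zpowers σ : Subgroup G) : Set G) := by
    rw [mem_normalizer_zpowers, show c * g⁻¹ * σ * (c * g⁻¹)⁻¹ = c * (g⁻¹ * σ * g) * c⁻¹ by group]
    exact hcs
  refine ⟨(c * g⁻¹)⁻¹, inv_mem hn, ?_⟩
  rw [show (c * g⁻¹)⁻¹ * z * (c * g⁻¹)⁻¹⁻¹ = g * (c⁻¹ * (z * c)) * g⁻¹ by group,
    ← mem_centralizer_singleton_iff.1 hc, inv_mul_cancel_left, hg]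

theorem card_centralizer_map {n : G} (hn : n ∈ normalizer ((zpowers σ : Subgroup G) : Set G)) (y : G) :
    Nat.card ↥(centralizer ({σ} : Set G) ⊓ centralizer ({n * y * n⁻¹} : Set G)) =
      Nat.card ↥(centralizer ({σ} : Set G) ⊓ centralizer ({y} : Set G)) := by
  have hnσ : ∀ m ∈ normalizer ((zpowers σ : Subgroup G) : Set G), ∀ x ∈ centralizer ({σ} : Set G),
      m * x * m⁻¹ ∈ centralizer ({σ} : Set G) := by
    intro m hm x hx
    obtain ⟨k, hk⟩ := mem_zpowers_iff.1 (mem_normalizer_zpowers.1 (inv_mem hm))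
    rw [inv_inv] at hk
    have hx' : Commute x (σ ^ k) := (show Commute x σ from mem_centralizer_singleton_iff.1 hx).zpow_right k
    rw [mem_centralizer_singleton_iff, show m * x * m⁻¹ * σ = m * (x * (m⁻¹ * σ * m)) * m⁻¹ by group, ← hk,
      hx'.eq, hk]
    group
  refine (Nat.card_congr (Equiv.ofBijective
    (fun x : ↥(centralizer ({σ} : Set G) ⊓ centralizer ({y} : Set G)) =>
      (⟨n * x * n⁻¹, hnσ n hn _ x.2.1, mem_centralizer_singleton_iff.2 (by
        rw [show n * (x : G) * n⁻¹ * (n * y * n⁻¹) = n * ((x : G) * y) * n⁻¹ by group,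
          mem_centralizer_singleton_iff.1 x.2.2]
        group)⟩ : ↥(centralizer ({σ} : Set G) ⊓ centralizer ({n * y * n⁻¹} : Set G))))
    ⟨fun a b e => Subtype.ext (mul_left_cancel (mul_right_cancel (congrArg Subtype.val e))), fun w => ?_⟩)).symm
  refine ⟨⟨n⁻¹ * w * n, ?_, mem_centralizer_singleton_iff.2 ?_⟩, Subtype.ext ?_⟩
  · have := hnσ n⁻¹ (inv_mem hn) _ w.2.1
    rwa [inv_inv] at this
  · have := mem_centralizer_singleton_iff.1 w.2.2
    rw [show n⁻¹ * (w : G) * n * y = n⁻¹ * ((w : G) * (n * y * n⁻¹)) * n by group, this]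
    group
  · show n * (n⁻¹ * (w : G) * n) * n⁻¹ = w
    group

/-- An involution of `C(z) ∩ C(σ)` not conjugate to `z` is conjugate there to `i z`. -/
theorem conj_to_t {y : G} (hy : y ∈ centralizer ({z} : Set G) ⊓ centralizer ({σ} : Set G))
    (hy2 : y * y = 1) (hy1 : y ≠ 1) (hyn : ¬ IsConj z y) :
    ∃ h ∈ centralizer ({z} : Set G) ⊓ centralizer ({σ} : Set G), h * y * h⁻¹ = i * z := by
  set X := centralizer ({z} : Set G) ⊓ centralizer ({σ} : Set G) with hX
  haveI : Fact (Nat.Prime 2) := ⟨Nat.prime_two⟩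
  have hzX : z ∈ X := ⟨mem_centralizer_singleton_iff.2 rfl, mem_centralizer_singleton_iff.2 D.sz.symm.eq⟩
  have hiX : i ∈ X := ⟨mem_centralizer_singleton_iff.2 D.iz.eq, mem_centralizer_singleton_iff.2 D.si.symm.eq⟩
  have hne : i ≠ z := fun e => by
    have := D.pinv
    rw [e, mul_assoc, D.pz.eq, ← mul_assoc, D.zz, one_mul] at this
    have h3 := D.p3
    nth_rewrite 1 [this] at h3
    rw [inv_mul_cancel, one_mul] at h3
    exact D.p1 h3
  let W : Subgroup ↥X :=
    { carrier := {x | (x : G) = 1 ∨ (x : G) = z ∨ (x : G) = i ∨ (x : G) = i * z}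
      one_mem' := Or.inl rfl
      mul_mem' := fun {a b} ha hb => by
        have h1 : z * i = i * z := D.iz.symm.eq
        have h2 : z * (i * z) = i := by rw [← mul_assoc, h1, mul_assoc, D.zz, mul_one]
        have h3 : i * (i * z) = z := by rw [← mul_assoc, D.i2, one_mul]
        have h4 : i * z * z = i := by rw [mul_assoc, D.zz, mul_one]
        have h5 : i * z * i = z := by rw [mul_assoc, h1, h3]
        have h6 : i * z * (i * z) = 1 := by rw [← mul_assoc, h5, D.zz]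
        simp only [Set.mem_setOf_eq, Subgroup.coe_mul] at ha hb ⊢
        rcases ha with e | e | e | e <;> rcases hb with e' | e' | e' | e' <;> rw [e, e'] <;>
          simp [D.zz, D.i2, h1, h2, h3, h4, h5, h6]
      inv_mem' := fun {a} ha => by
        simp only [Set.mem_setOf_eq, Subgroup.coe_inv] at ha ⊢
        have hz : z⁻¹ = z := inv_eq_of_mul_eq_one_right D.zz
        have hi : i⁻¹ = i := inv_eq_of_mul_eq_one_right D.i2
        rcases ha with e | e | e | e <;> rw [e]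
        · simp
        · simp [hz]
        · simp [hi]
        · rw [_root_.mul_inv_rev, hz, hi, D.iz.eq]; simp }
  have hW : IsPGroup 2 W := fun a => ⟨1, Subtype.ext (Subtype.ext (by
    show ((a : ↥X) : G) ^ (2 ^ 1) = 1
    rw [pow_one, pow_two]
    rcases a.2 with e | e | e | e <;> rw [e]
    · rw [one_mul]
    · exact D.zz
    · exact D.i2
    · rw [D.iz.symm.mul_mul_mul_comm, D.i2, D.zz, one_mul]))⟩
  obtain ⟨S, hS⟩ := hW.exists_le_sylow
  have hSW : (S : Subgroup ↥X) = W := by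
    refine (eq_of_le_of_card_ge hS ?_).symm
    have h4 : 4 ≤ Nat.card W := by
      have hne' : z ≠ i * z := fun e => by
        have h := mul_eq_right.1 e.symm
        have := D.pinv
        rw [h, one_mul, mul_one] at this
        have h3 := D.p3
        nth_rewrite 1 [this] at h3
        rw [inv_mul_cancel, one_mul] at h3
        exact D.p1 h3
      have hi1 : i ≠ 1 := (D.sq_of_conj D.iconj).2
      let e : Fin 4 → W := ![1, ⟨⟨z, hzX⟩, Or.inr (Or.inl rfl)⟩, ⟨⟨i, hiX⟩, Or.inr (Or.inr (Or.inl rfl))⟩,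
        ⟨⟨i * z, mul_mem hiX hzX⟩, Or.inr (Or.inr (Or.inr rfl))⟩]
      have he : Function.Injective e := by
        intro a b h
        have h' := congrArg (fun w : W => ((w : ↥X) : G)) h
        have hz1 : i * z ≠ 1 := fun e => hne (mul_eq_one_iff_eq_inv.1 e |>.trans
          (inv_eq_of_mul_eq_one_right D.zz))
        have hiz : i ≠ i * z := fun e => D.z1 (mul_eq_left.1 e.symm)
        fin_cases a <;> fin_cases b <;>
          simp [e, D.z1, D.z1.symm, hi1, hi1.symm, hne, hne.symm, hne', hne'.symm, hz1, hz1.symm, hiz, hiz.symm]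
            at h' ⊢
      have := Nat.card_le_card_of_injective e he
      rwa [Nat.card_fin] at this
    refine le_trans (le_of_eq ?_) h4
    rw [Sylow.card_eq_multiplicity, D.card84, show (84 : ℕ) = 2 ^ 2 * 21 by norm_num,
      Nat.factorization_mul (by norm_num) (by norm_num), Finsupp.add_apply,
      Nat.Prime.factorization_pow (by norm_num : Nat.Prime 2), Finsupp.single_eq_same,
      Nat.factorization_eq_zero_of_not_dvd (by norm_num : ¬ 2 ∣ 21)]
    norm_num
  obtain ⟨R, hR⟩ := (IsPGroup.of_card (p := 2) (n := 1) (G := zpowers (⟨y, hy⟩ : ↥X))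
    (by rw [Nat.card_zpowers, orderOf_mk, pow_one, orderOf_eq_prime (by rw [pow_two]; exact hy2) hy1])).exists_le_sylow
  obtain ⟨h, hh⟩ := MulAction.exists_smul_eq ↥X R S
  refine ⟨h, h.2, ?_⟩
  have hm : h * ⟨y, hy⟩ * h⁻¹ ∈ W := by
    rw [← hSW, ← hh, Sylow.coe_subgroup_smul]
    exact ⟨_, hR (mem_zpowers _), rfl⟩
  have hn : ¬ IsConj z ((h : G) * y * (h : G)⁻¹) := fun e => hyn (D.conj_z_iff.1 e)
  rcases hm with e | e | e | e <;> simp only [Subgroup.coe_mul, Subgroup.coe_inv] at e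
  · exact absurd (conj_eq_one_iff.1 e) hy1
  · exact absurd (e ▸ IsConj.refl z) hn
  · exact absurd (e ▸ D.iconj) hn
  · exact e

/-- The common centraliser of `σ` and `i z` in `C(z)` has order at most 28. -/
theorem card_T_z : Nat.card ↥(centralizer ({σ} : Set G) ⊓ centralizer ({i * z} : Set G) ⊓
    centralizer ({z} : Set G)) ≤ 28 := by
  set X := centralizer ({z} : Set G) ⊓ centralizer ({σ} : Set G) with hX
  set Y := centralizer ({σ} : Set G) ⊓ centralizer ({i * z} : Set G) ⊓ centralizer ({z} : Set G) with hY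
  have hd : Nat.card Y ∣ 84 := by
    rw [← D.card84]
    exact card_dvd_of_le fun g hg => ⟨hg.2, hg.1.1⟩
  have h3 : ¬ 3 ∣ Nat.card Y := by
    intro h
    haveI : Fact (Nat.Prime 3) := ⟨by norm_num⟩
    obtain ⟨⟨g, hg⟩, hgo⟩ := exists_prime_orderOf_dvd_card' 3 h
    rw [orderOf_mk] at hgo
    have hpX : p ∈ X :=
      ⟨mem_centralizer_singleton_iff.2 D.pz.eq, mem_centralizer_singleton_iff.2 D.sp.symm.eq⟩
    let P' : Subgroup ↥X := (zpowers p).subgroupOf X
    haveI : P'.Normal := ⟨fun a ha b => by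
      rw [mem_subgroupOf] at ha ⊢
      obtain ⟨k, hk⟩ := mem_zpowers_iff.1 ha
      simp only [Subgroup.coe_mul, Subgroup.coe_inv, ← hk]
      rw [← MulAut.conj_apply, map_zpow, MulAut.conj_apply]
      exact zpow_mem (D.pnorm b b.2) k⟩
    have hP' : Nat.card P' = 3 := by
      rw [Nat.card_congr (subgroupOfEquivOfLe (zpowers_le.2 hpX)).toEquiv, Nat.card_zpowers]
      exact orderOf_eq_prime (by rw [pow_three', D.p3]) D.p1
    have hidx : P'.index = 28 := by
      have := P'.card_mul_index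
      rw [hP', D.card84] at this
      omega
    have hgX : (⟨g, hg.2, hg.1.1⟩ : ↥X) ^ 3 = 1 :=
      Subtype.ext (by rw [coe_pow]; show g ^ 3 = 1; rw [← hgo, pow_orderOf_eq_one])
    have hmk : (QuotientGroup.mk' P') ⟨g, hg.2, hg.1.1⟩ = 1 := by
      rw [← orderOf_eq_one_iff]
      have h1 : orderOf ((QuotientGroup.mk' P') ⟨g, hg.2, hg.1.1⟩) ∣ 3 :=
        orderOf_dvd_of_pow_eq_one (by rw [← map_pow, hgX, map_one])
      have h2 : orderOf ((QuotientGroup.mk' P') ⟨g, hg.2, hg.1.1⟩) ∣ 28 := by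
        rw [← hidx, index_eq_card]; exact _root_.orderOf_dvd_natCard _
      exact Nat.eq_one_of_dvd_one (Nat.dvd_gcd h1 h2)
    rw [QuotientGroup.mk'_apply, QuotientGroup.eq_one_iff, mem_subgroupOf] at hmk
    have hgen : zpowers g = zpowers p := eq_of_le_of_card_ge (zpowers_le.2 hmk) (by
      rw [Nat.card_zpowers, Nat.card_zpowers, hgo, orderOf_eq_prime (by rw [pow_three', D.p3]) D.p1])
    have hp' : p ∈ centralizer ({i * z} : Set G) :=
      zpowers_le.2 (show g ∈ centralizer ({i * z} : Set G) from hg.1.2) (hgen.ge (mem_zpowers p))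
    have e := mem_centralizer_singleton_iff.1 hp'
    have h1 : p * i = i * p := by
      rw [← mul_assoc, mul_assoc i z p, ← D.pz.eq, ← mul_assoc] at e
      exact mul_right_cancel e
    have h2 := D.pinv
    rw [← h1, mul_assoc, D.i2, mul_one] at h2
    have h4 := D.p3
    nth_rewrite 1 [h2] at h4
    rw [inv_mul_cancel, one_mul] at h4
    exact D.p1 h4
  have h28 : Nat.card Y ∣ 28 :=
    (Nat.Coprime.symm ((Nat.prime_three.coprime_iff_not_dvd).2 h3)).dvd_of_dvd_mul_left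
      (show Nat.card Y ∣ 3 * 28 from hd)
  exact Nat.le_of_dvd (by norm_num) h28

set_option maxHeartbeats 1000000 in
/-- The bound gives the order. -/
theorem card_T_of_bound {y : G} (hyσ : y * σ = σ * y) (hy : y * y = 1) (hy1 : y ≠ 1) (hyn : ¬ IsConj z y)
    {x : G} (hxσ : x * σ = σ * x) (hxy : x * y = y * x) (hx2 : x * x = 1)
    (hb : Nat.card ↥(centralizer ({σ} : Set G) ⊓ centralizer ({y} : Set G) ⊓ centralizer ({x} : Set G)) ≤ 28) :
    Nat.card ↥(centralizer ({σ} : Set G) ⊓ centralizer ({y} : Set G)) = 56 := by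
  classical
  haveI : Fact (Nat.Prime 7) := ⟨by norm_num⟩
  haveI : Fact (Nat.Prime 2) := ⟨Nat.prime_two⟩
  obtain ⟨V, K, hV, hK, hnorm, hel, hVc, hKV, hsup, ⟨φ⟩⟩ :=
    D.compl y (orderOf_eq_prime (by rw [pow_two]; exact hy) hy1) hyn
  set C := centralizer ({y} : Set G) with hC
  set T := centralizer ({σ} : Set G) ⊓ C with hT
  let W : Subgroup ↥C := V.subgroupOf C
  have hWn : W.Normal := ⟨fun a ha b => by
    rw [mem_subgroupOf] at ha ⊢
    exact (mem_normalizer_iff.1 (hnorm b.2) a).1 ha⟩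
  let ψ : ↥K →* ↥C ⧸ W := (QuotientGroup.mk' W).comp (inclusion hK)
  have hψ : Function.Bijective ψ := by
    constructor
    · refine (injective_iff_map_eq_one _).2 fun k hk => Subtype.ext ?_
      rw [MonoidHom.comp_apply, QuotientGroup.mk'_apply, QuotientGroup.eq_one_iff, mem_subgroupOf] at hk
      exact mem_bot.1 (hKV.le ⟨k.2, hk⟩)
    · intro q
      obtain ⟨c, rfl⟩ := QuotientGroup.mk_surjective q
      have hle : K ≤ normalizer (V : Set G) := hK.trans hnorm
      have hc : (c : G) ∈ (K : Set G) * (V : Set G) := by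
        rw [← coe_mul_of_left_le_normalizer_right K V hle, hsup]
        exact c.2
      obtain ⟨k, hk, v, hv, hkv⟩ := hc
      refine ⟨⟨k, hk⟩, QuotientGroup.eq.2 (mem_subgroupOf.2 ?_)⟩
      show k⁻¹ * (c : G) ∈ V
      rw [← hkv]
      show k⁻¹ * (k * v) ∈ V
      rwa [inv_mul_cancel_left]
  let θ : ↥C →* MulAut ↥Spor.M22 :=
    (φ.toMonoidHom.comp (MulEquiv.ofBijective ψ hψ).symm.toMonoidHom).comp (QuotientGroup.mk' W)
  have hθk : ∀ c : ↥C, θ c = 1 ↔ (c : G) ∈ V := fun c => by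
    show φ ((MulEquiv.ofBijective ψ hψ).symm (QuotientGroup.mk' W c)) = 1 ↔ _
    rw [EmbeddingLike.map_eq_one_iff, EmbeddingLike.map_eq_one_iff, QuotientGroup.mk'_apply,
      QuotientGroup.eq_one_iff, mem_subgroupOf]
  have hθs : Function.Surjective θ := fun a => by
    obtain ⟨c, hc⟩ := QuotientGroup.mk_surjective ((MulEquiv.ofBijective ψ hψ) (φ.symm a))
    refine ⟨c, ?_⟩
    show φ ((MulEquiv.ofBijective ψ hψ).symm (QuotientGroup.mk c)) = a
    rw [hc, MulEquiv.symm_apply_apply, φ.apply_symm_apply]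
  have hσC : σ ∈ C := mem_centralizer_singleton_iff.2 hyσ.symm
  have hV2 : ∀ v ∈ V, v * v = 1 := fun v hv => by rw [← pow_two]; exact hel.2 v hv
  have hVcomm : ∀ a ∈ V, ∀ b ∈ V, a * b = b * a := fun a ha b hb =>
    congrArg Subtype.val (hel.1.is_comm.comm (⟨a, ha⟩ : V) ⟨b, hb⟩)
  have hσV : σ ∉ V := fun h => by
    have h2 := orderOf_dvd_of_pow_eq_one (hel.2 σ h)
    rw [D.o7] at h2
    omega
  have hτ : orderOf (θ ⟨σ, hσC⟩) = 7 := by
    refine orderOf_eq_prime ?_ fun h => hσV ((hθk _).1 h)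
    rw [← map_pow, show (⟨σ, hσC⟩ : ↥C) ^ 7 = 1 from Subtype.ext D.s7, map_one]
  let f : ↥T →* MulAut ↥Spor.M22 := θ.comp (inclusion inf_le_right)
  have hrange : f.range = centralizer ({θ ⟨σ, hσC⟩} : Set (MulAut ↥Spor.M22)) := by
    ext a
    constructor
    · rintro ⟨c, rfl⟩
      rw [mem_centralizer_singleton_iff, MonoidHom.comp_apply, ← map_mul, ← map_mul]
      exact congrArg θ (Subtype.ext (mem_centralizer_singleton_iff.1 c.2.1))
    · intro ha
      obtain ⟨c, rfl⟩ := hθs a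
      rw [mem_centralizer_singleton_iff] at ha
      have hu : (c : G) * σ * (c : G)⁻¹ * σ⁻¹ ∈ V := by
        have h1 : θ (c * ⟨σ, hσC⟩ * c⁻¹ * (⟨σ, hσC⟩ : ↥C)⁻¹) = 1 := by
          rw [map_mul, map_mul, map_mul, map_inv, map_inv, ha]; group
        exact (hθk _).1 h1
      obtain ⟨u, hudef⟩ : ∃ u, u = (c : G) * σ * (c : G)⁻¹ * σ⁻¹ := ⟨_, rfl⟩
      rw [← hudef] at hu
      have hus : (c : G) * σ * (c : G)⁻¹ = u * σ := by rw [hudef, inv_mul_cancel_right]
      have hu7 : (u * σ) ^ 7 = 1 := by rw [← hus, conj_pow, D.s7, mul_one, mul_inv_cancel]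
      have hjV : ∀ j : ℕ, σ ^ j * u * (σ ^ j)⁻¹ ∈ V := fun j =>
        (mem_normalizer_iff.1 (hnorm (pow_mem hσC j)) u).1 hu
      have hprod : u * (σ ^ 1 * u * (σ ^ 1)⁻¹) * (σ ^ 2 * u * (σ ^ 2)⁻¹) * (σ ^ 3 * u * (σ ^ 3)⁻¹) *
          (σ ^ 4 * u * (σ ^ 4)⁻¹) * (σ ^ 5 * u * (σ ^ 5)⁻¹) * (σ ^ 6 * u * (σ ^ 6)⁻¹) = 1 := by
        have e : (u * σ) ^ 7 = u * (σ ^ 1 * u * (σ ^ 1)⁻¹) * (σ ^ 2 * u * (σ ^ 2)⁻¹) *
            (σ ^ 3 * u * (σ ^ 3)⁻¹) * (σ ^ 4 * u * (σ ^ 4)⁻¹) * (σ ^ 5 * u * (σ ^ 5)⁻¹) *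
            (σ ^ 6 * u * (σ ^ 6)⁻¹) * σ ^ 7 := by
          simp only [pow_succ, pow_zero, one_mul, _root_.mul_inv_rev, mul_assoc]
          group
        rw [hu7, D.s7, mul_one] at e
        exact e.symm
      obtain ⟨v, hvdef⟩ : ∃ v, v = (σ ^ 1 * u * (σ ^ 1)⁻¹) * (σ ^ 3 * u * (σ ^ 3)⁻¹) *
          (σ ^ 5 * u * (σ ^ 5)⁻¹) := ⟨_, rfl⟩
      have hv : v ∈ V := hvdef ▸ mul_mem (mul_mem (hjV 1) (hjV 3)) (hjV 5)
      have hshift : σ * v * σ⁻¹ = (σ ^ 2 * u * (σ ^ 2)⁻¹) * (σ ^ 4 * u * (σ ^ 4)⁻¹) *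
          (σ ^ 6 * u * (σ ^ 6)⁻¹) := by
        rw [hvdef]; group
      have hvu : v * u = σ * v * σ⁻¹ := by
        rw [hshift, hvdef]
        exact shift_eq hV2 hVcomm hu (hjV 1) (hjV 2) (hjV 3) (hjV 4) (hjV 5) (hjV 6) hprod
      have hvc : v * (c : G) ∈ T := by
        refine ⟨mem_centralizer_singleton_iff.2 ?_, C.mul_mem (hV hv) c.2⟩
        calc v * (c : G) * σ = v * ((c : G) * σ * (c : G)⁻¹) * c := by group
          _ = (v * u) * σ * c := by rw [hus]; group
          _ = σ * (v * c) := by rw [hvu]; group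
      refine ⟨⟨v * c, hvc⟩, ?_⟩
      show θ (⟨v * c, C.mul_mem (hV hv) c.2⟩) = θ c
      rw [show (⟨v * c, C.mul_mem (hV hv) c.2⟩ : ↥C) = ⟨v, hV hv⟩ * c from rfl, map_mul, (hθk _).2 hv, one_mul]
  set A := V ⊓ centralizer ({σ} : Set G) with hA
  have hker : Nat.card f.ker = Nat.card A := by
    refine Nat.card_congr
      { toFun := fun c => ⟨((c : ↥T) : G), (hθk _).1 c.2, (c : ↥T).2.1⟩
        invFun := fun a => ⟨⟨(a : G), a.2.2, hV a.2.1⟩, (hθk _).2 a.2.1⟩
        left_inv := fun c => rfl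
        right_inv := fun a => rfl }
  have hTcard : Nat.card T = Nat.card A * 14 := by
    rw [← f.ker.card_mul_index, index_ker, hker, hrange, D.cent7 _ hτ]
  have hcong : 2 ^ 11 ≡ Nat.card A [MOD 7] := by
    let W' : Subgroup ↥C := W
    haveI := hWn
    let act : ↥(zpowers (⟨σ, hσC⟩ : ↥C)) →* MulAut ↥W' := (MulAut.conjNormal).comp (Subgroup.subtype _)
    letI : MulAction ↥(zpowers (⟨σ, hσC⟩ : ↥C)) ↥W' :=
      { smul := fun s w => act s w
        one_smul := fun w => by show act 1 w = w; rw [map_one]; rfl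
        mul_smul := fun s t w => by show act (s * t) w = act s (act t w); rw [map_mul]; rfl }
    have hsmul : ∀ (s : ↥(zpowers (⟨σ, hσC⟩ : ↥C))) (w : ↥W'),
        ((s • w : ↥W') : ↥C) = (s : ↥C) * w * (s : ↥C)⁻¹ := fun s w => MulAut.conjNormal_apply (s : ↥C) w
    have hp : IsPGroup 7 ↥(zpowers (⟨σ, hσC⟩ : ↥C)) :=
      IsPGroup.of_card (n := 1) (by rw [Nat.card_zpowers, orderOf_mk, D.o7, pow_one])
    have h := hp.card_modEq_card_fixedPoints (α := ↥W')
    rw [Nat.card_congr (subgroupOfEquivOfLe hV).toEquiv, hVc] at h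
    refine h.trans (congrArg (fun m => m % 7) (Nat.card_congr
        { toFun := fun w => ⟨((w.1 : ↥C) : G), mem_subgroupOf.1 w.1.2, mem_centralizer_singleton_iff.2 (by
            have h' := congrArg (fun w : ↥W' => ((w : ↥C) : G)) (w.2 ⟨_, mem_zpowers _⟩)
            simp only [hsmul, Subgroup.coe_mul, Subgroup.coe_inv] at h'
            exact (mul_inv_eq_iff_eq_mul.1 h').symm)⟩
          invFun := fun a => ⟨⟨⟨(a : G), hV a.2.1⟩, mem_subgroupOf.2 a.2.1⟩, fun s => by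
            apply Subtype.ext
            rw [hsmul]
            apply Subtype.ext
            obtain ⟨k, hk⟩ := mem_zpowers_iff.1 s.2
            simp only [Subgroup.coe_mul, Subgroup.coe_inv, ← hk, Subgroup.coe_zpow]
            exact mul_inv_eq_iff_eq_mul.2
              ((show Commute (a : G) σ from mem_centralizer_singleton_iff.1 a.2.2).zpow_right k).symm.eq⟩
          left_inv := fun w => rfl
          right_inv := fun a => rfl }))
  obtain ⟨d, hd, hAd⟩ := (Nat.dvd_prime_pow Nat.prime_two).1 (hVc ▸ card_dvd_of_le (inf_le_left : A ≤ V))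
  have hAel : IsElementaryAbelian 2 A :=
    ⟨⟨⟨fun a b => Subtype.ext (hVcomm a a.2.1 b b.2.1)⟩⟩, fun a ha => hel.2 a ha.1⟩
  have hxC : x ∈ C := mem_centralizer_singleton_iff.2 hxy
  have hxσ' : x ∈ centralizer ({σ} : Set G) := mem_centralizer_singleton_iff.2 hxσ
  have hAn : ∀ a ∈ A, x * a * x⁻¹ ∈ A := fun a ha =>
    ⟨(mem_normalizer_iff.1 (hnorm hxC) a).1 ha.1, (centralizer ({σ} : Set G)).mul_mem ((centralizer ({σ} : Set G)).mul_mem hxσ' ha.2) ((centralizer ({σ} : Set G)).inv_mem hxσ')⟩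
  have hfix := card_le_fixed_sq hAel hx2 hAn
  have hF : Nat.card ↥(A ⊓ centralizer ({x} : Set G)) * 7 ≤ 28 := by
    refine le_trans ?_ hb
    have h7 : Nat.card ↥(zpowers σ) = 7 := by rw [Nat.card_zpowers, D.o7]
    conv_lhs => rw [← h7]
    refine card_mul_le_of_disjoint (fun a ha => ⟨⟨ha.1.2, hV ha.1.1⟩, ha.2⟩) (zpowers_le.2
      ⟨⟨mem_centralizer_singleton_iff.2 rfl, hσC⟩, mem_centralizer_singleton_iff.2 hxσ.symm⟩) fun a ha hs => ?_
    rw [← orderOf_eq_one_iff]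
    have h1 : orderOf a ∣ 2 := orderOf_dvd_of_pow_eq_one (hel.2 a ha.1.1)
    have h2 : orderOf a ∣ 7 := h7 ▸ Subgroup.orderOf_dvd_natCard _ hs
    exact Nat.eq_one_of_dvd_one (Nat.dvd_gcd h1 h2)
  have hle : Nat.card A ≤ 16 := by
    refine hfix.trans ?_
    have h4 : Nat.card ↥(A ⊓ centralizer ({x} : Set G)) ≤ 4 := by omega
    exact Nat.mul_le_mul h4 h4
  rw [hAd] at hle hcong
  have hd2 : d = 2 := by
    have : d ≤ 4 := by
      by_contra h
      have := Nat.pow_le_pow_right (show 1 ≤ 2 by norm_num) (show 5 ≤ d by omega)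
      norm_num at this
      omega
    interval_cases d <;> simp_all [Nat.ModEq]
  rw [hTcard, hAd, hd2]
  norm_num

/-- The common centraliser of `σ` and `i z` has order 56. -/
theorem card_T_t : Nat.card ↥(centralizer ({σ} : Set G) ⊓ centralizer ({i * z} : Set G)) = 56 := by
  refine D.card_T_of_bound (D.si.mul_right D.sz).symm.eq ?_ (fun e => ?_) D.tn (x := z)
    D.sz.symm.eq ?_ D.zz D.card_T_z
  · rw [D.iz.symm.mul_mul_mul_comm, D.i2, D.zz, one_mul]
  · have hiz : i = z := (mul_eq_one_iff_eq_inv.1 e).trans (inv_eq_of_mul_eq_one_right D.zz)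
    have h2 := D.pinv
    rw [hiz, mul_assoc, D.pz.eq, ← mul_assoc, D.zz, one_mul] at h2
    have h3 := D.p3
    nth_rewrite 1 [h2] at h3
    rw [inv_mul_cancel, one_mul] at h3
    exact D.p1 h3
  · rw [← mul_assoc, ← D.iz.eq, mul_assoc]

/-- The common centraliser of `σ` and an involution not conjugate to `z` has order 56. -/
theorem card_T {y : G} (hyσ : y * σ = σ * y) (hy : y * y = 1) (hy1 : y ≠ 1) (hyn : ¬ IsConj z y) :
    Nat.card ↥(centralizer ({σ} : Set G) ⊓ centralizer ({y} : Set G)) = 56 := by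
  set X := centralizer ({z} : Set G) ⊓ centralizer ({σ} : Set G) with hX
  have hXN : ∀ h ∈ X, h ∈ normalizer ((zpowers σ : Subgroup G) : Set G) := fun h hh => by
    rw [mem_normalizer_zpowers, mul_inv_eq_iff_eq_mul.2 (mem_centralizer_singleton_iff.1 hh.2)]
    exact mem_zpowers σ
  -- an involution in `C(z)`
  have inX : ∀ u : G, u ∈ X → u * u = 1 → u ≠ 1 → ¬ IsConj z u →
      Nat.card ↥(centralizer ({σ} : Set G) ⊓ centralizer ({u} : Set G)) = 56 := by
    intro u hu hu2 hu1 hun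
    obtain ⟨h, hh, he⟩ := D.conj_to_t hu hu2 hu1 hun
    rw [← D.card_centralizer_map (hXN h hh) u, he, D.card_T_t]
  have htX : i * z ∈ X := ⟨mem_centralizer_singleton_iff.2 (D.iz.mul_left (Commute.refl z)).eq,
    mem_centralizer_singleton_iff.2 (D.si.mul_right D.sz).symm.eq⟩
  -- an involution commuting with both
  have hz2 : SevenRecog.Inv2 z := ⟨D.zz, D.z1⟩
  have hy2 : SevenRecog.Inv2 y := ⟨hy, hy1⟩
  have heven : Even (orderOf (z * y)) := by
    rw [← Nat.not_odd_iff_even]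
    intro ho
    obtain ⟨g, hg⟩ := SevenRecog.odd_conj hz2 hy2 ho
    exact hyn (isConj_iff.2 ⟨g, hg⟩)
  obtain ⟨m, hm⟩ := heven
  set w := (z * y) ^ m with hw
  have hpos : 0 < orderOf (z * y) := orderOf_pos _
  have hw2 : SevenRecog.Inv2 w := ⟨by rw [hw, ← pow_add, ← hm, pow_orderOf_eq_one], fun e => by
    have := Nat.le_of_dvd (by omega) (orderOf_dvd_of_pow_eq_one (hw ▸ e))
    omega⟩
  have hwσ : w * σ = σ * w := ((D.sz.symm.mul_left hyσ).pow_left m).eq
  have hcm : z * w = w * z ∧ y * w = w * y := SevenRecog.Pair.comm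
    (A := fun a => IsConj z a) ⟨hz2, IsConj.refl z, hy2, hyn, m, rfl⟩ hw2
  obtain ⟨hzw, hyw⟩ := hcm
  by_cases hwc : IsConj z w
  · obtain ⟨n, hn, hnw⟩ := D.exists_norm_map hwσ hwc
    have hY : n⁻¹ * y * n ∈ X := by
      refine ⟨mem_centralizer_singleton_iff.2 ?_, ?_⟩
      · rw [← hnw] at hyw
        calc n⁻¹ * y * n * z = n⁻¹ * (y * (n * z * n⁻¹)) * n := by group
          _ = n⁻¹ * ((n * z * n⁻¹) * y) * n := by rw [hyw]
          _ = z * (n⁻¹ * y * n) := by group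
      · obtain ⟨k, hk⟩ := mem_zpowers_iff.1 (mem_normalizer_zpowers.1 hn)
        refine mem_centralizer_singleton_iff.2 ?_
        calc n⁻¹ * y * n * σ = n⁻¹ * (y * (n * σ * n⁻¹)) * n := by group
          _ = n⁻¹ * ((n * σ * n⁻¹) * y) * n := by rw [← hk, ((show Commute y σ from hyσ).zpow_right k).eq]
          _ = σ * (n⁻¹ * y * n) := by group
    have h := inX _ hY (by rw [show n⁻¹ * y * n * (n⁻¹ * y * n) = n⁻¹ * (y * y) * n by group, hy]; group)
      (fun e => hy1 (by rw [show y = n * (n⁻¹ * y * n) * n⁻¹ by group, e]; group))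
      (fun e => hyn (by
        have := D.conj_z (g := n) e
        rwa [show n * (n⁻¹ * y * n) * n⁻¹ = y by group] at this))
    rw [← D.card_centralizer_map hn, show n * (n⁻¹ * y * n) * n⁻¹ = y by group] at h
    exact h
  · obtain ⟨h, hh, he⟩ := D.conj_to_t ⟨mem_centralizer_singleton_iff.2 hzw.symm,
      mem_centralizer_singleton_iff.2 hwσ⟩ hw2.1 hw2.2 hwc
    rw [← D.card_centralizer_map (hXN h hh) y]
    obtain ⟨y', hy'⟩ : ∃ y', y' = h * y * h⁻¹ := ⟨_, rfl⟩
    rw [← hy']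
    have h2 : y' * y' = 1 := by
      rw [hy', show h * y * h⁻¹ * (h * y * h⁻¹) = h * (y * y) * h⁻¹ by group, hy]; group
    have h1 : y' ≠ 1 := fun e => hy1 (conj_eq_one_iff.1 (hy' ▸ e))
    have hn' : ¬ IsConj z y' := fun e => hyn (D.conj_z_iff.1 (hy' ▸ e))
    have hys : y' * σ = σ * y' := by
      have hhσ : Commute h σ := mem_centralizer_singleton_iff.1 hh.2
      rw [hy']
      exact ((hhσ.mul_left hyσ).mul_left hhσ.inv_left).eq
    have hyt : y' * (i * z) = i * z * y' := by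
      rw [← he, hy', show h * y * h⁻¹ * (h * w * h⁻¹) = h * (y * w) * h⁻¹ by group, hyw]; group
    by_cases hyz : y' * z = z * y'
    · exact inX y' ⟨mem_centralizer_singleton_iff.2 hyz, mem_centralizer_singleton_iff.2 hys⟩ h2 h1 hn'
    refine D.card_T_of_bound hys h2 h1 hn' (x := i * z) (mem_centralizer_singleton_iff.1 htX.2) hyt.symm
      (by rw [D.iz.symm.mul_mul_mul_comm, D.i2, D.zz, one_mul]) ?_
    set Y := centralizer ({σ} : Set G) ⊓ centralizer ({y'} : Set G) ⊓ centralizer ({i * z} : Set G) with hY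
    have hle : Y ≤ centralizer ({σ} : Set G) ⊓ centralizer ({i * z} : Set G) := fun g hg => ⟨hg.1.1, hg.2⟩
    have hd := card_dvd_of_le hle
    rw [D.card_T_t] at hd
    have hne : Nat.card Y ≠ 56 := by
      intro hc
      have heq := eq_of_le_of_card_ge hle (by rw [hc, D.card_T_t])
      have hzm : z ∈ Y := by
        rw [heq]
        exact ⟨mem_centralizer_singleton_iff.2 D.sz.symm.eq,
          mem_centralizer_singleton_iff.2 (by rw [← mul_assoc, ← D.iz.eq, mul_assoc])⟩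
      exact hyz (mem_centralizer_singleton_iff.1 hzm.1.2).symm
    obtain ⟨k, hk⟩ := hd
    rcases Nat.lt_or_ge k 2 with hk2 | hk2
    · interval_cases k <;> omega
    · have := Nat.mul_le_mul_left (Nat.card Y) hk2
      omega

end SevenData

end Cfsg.Agent.J4Type
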