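import Cfsg.Agent.J4Type.Orbits.Normal
import Cfsg.Agent.J4Type.Orbits.Fusion

/-!
# Finite facts of the model for the elements of order seven

An element of order seven without fixed points commutes with an involution outside the inner group in the
normal subgroup of order 32 of the stabiliser of the base point; the orbits of length 16 of this subgroup on
singular vectors of the perp of the base point meet the short orbit in one of the two translates.
-/

set_option autoImplicit false
set_option Elab.async false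
set_option maxRecDepth 100000

namespace Cfsg.Agent.J4Type.Orbits

open Rep Subgroup

/-- The word of the element of order seven. -/
def sevenWord : List ℕ := [0, 2, 0, 2, 2, 0]

/-- Its code. -/
def sevenCode : List ℕ := [55, 1872, 914, 1256, 1573, 756, 1779, 797, 3660, 1314, 2, 907]

/-- The code of the outer involution. -/
def outerCode : List ℕ := [3496, 1640, 3015, 4023, 1779, 3632, 2722, 662, 697, 2378, 621, 964]

/-- The moved parts of the outer involution on the perp of the base point, with preimages. -/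
def imgList : List (ℕ × ℕ) :=
  [(0, 0), (7, 121), (424, 81), (431, 40), (664, 98), (671, 27), (816, 51), (823, 74), (1266, 96), (1269, 25),
   (1370, 49), (1373, 72), (1642, 2), (1645, 123), (1986, 83), (1989, 42), (2291, 48), (2292, 73), (2395, 97),
   (2396, 24), (2667, 82), (2668, 43), (3011, 3), (3012, 122), (3073, 80), (3078, 41), (3497, 1), (3502, 120),
   (3737, 50), (3742, 75), (3889, 99), (3894, 26)]

/-- The number of different members of a list. -/
noncomputable def cntD : List ℕ → ℕ
  | [] => 0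
  | a :: l => cond (l.any (Nat.beq a)) (cntD l) (cntD l + 1)

theorem cntD_eq : ∀ l : List ℕ, cntD l = l.toFinset.card
  | [] => rfl
  | a :: l => by
    rw [cntD, List.toFinset_cons, cntD_eq l]
    by_cases h : a ∈ l
    · have : l.any (Nat.beq a) = true := List.any_eq_true.2 ⟨a, h, Nat.beq_refl a⟩
      rw [this, cond_true, Finset.insert_eq_of_mem (List.mem_toFinset.2 h)]
    · have : l.any (Nat.beq a) = false := by
        simp only [List.any_eq_false, Nat.beq_eq]
        exact fun b hb e => h (e ▸ hb)
      rw [this, cond_false, Finset.card_insert_of_notMem (fun h' => h (List.mem_toFinset.1 h'))]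

theorem sevenWord_eq : code sevenWord = sevenCode := by decide +kernel

theorem seven_ok : (eqM (comp sevenCode outerCode) (comp outerCode sevenCode) &&
    eqM (comp sevenCode (comp sevenCode (comp sevenCode (comp sevenCode (comp sevenCode
      (comp sevenCode sevenCode)))))) idM &&
    ((List.range 4096).all fun r => Nat.beq r 0 || !Nat.beq (app sevenCode r) r)) = true := by decide +kernel

theorem outer_mem : ((qList.drop 16).any (eqM outerCode) && goodM outerCode && goodM sevenCode) = true := by
  decide +kernel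

theorem img_ok : (distinctB Nat.beq (imgList.map Prod.fst) && (imgList.all fun a => Nat.blt a.2 4096 &&
    !bv Short.v0 a.2 && Nat.beq (dM outerCode a.2) a.1) && Nat.beq imgList.length 32) = true := by decide +kernel

theorem img_all : ((List.range 4096).all fun r => bv Short.v0 r ||
    imgList.any fun a => Nat.beq (dM outerCode r) a.1) = true := by decide +kernel

theorem fix_sing : ((List.range 4096).all fun r => bv Short.v0 r || !Nat.beq (app outerCode r) r ||
    Nat.beq (qv r) 0) = true := by decide +kernel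

theorem kernel_polar : ((List.range 4096).all fun w => bv Short.v0 w || Nat.beq (qv w) 1 ||
    kList.any (Nat.beq w) || kList.any fun k => bv k w) = true := by decide +kernel

theorem orbit16 : ((List.range 4096).all fun w => bv Short.v0 w || Nat.beq (qv w) 1 ||
    kList.any (Nat.beq w) || !Nat.beq (cntD (qList.map fun M => app M w)) 16 ||
    Bool.xor (bit Short.orbBits w) (bit Short.orbBits (Nat.xor w Short.v0))) = true := by decide +kernel

variable {V : Type*} [AddCommGroup V] {B : List V} {Γ Γ₀ : Subgroup (Equiv.Perm V)} {q : V → ZMod 2}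

namespace Model

variable (hM : Model B Γ Γ₀ q)
include hM

theorem pow_seven {δ : Equiv.Perm V} (h : PActs B δ sevenCode) : δ ^ 7 = 1 := by
  have h7 := seven_ok
  simp only [Bool.and_eq_true, eqM_iff] at h7
  refine hM.acts_eq ?_ hM.acts_idM
  rw [← h7.1.2, show δ ^ 7 = δ * (δ * (δ * (δ * (δ * (δ * δ))))) by simp only [pow_succ, pow_zero, one_mul, mul_assoc]]
  exact h.mul (h.mul (h.mul (h.mul (h.mul (h.mul h)))))

/-- The element of order seven and the outer involution. -/
theorem exists_seven : ∃ δ ∈ Γ₀, ∃ γ ∈ qSub B, γ ∉ Γ₀ ∧ PActs B δ sevenCode ∧ PActs B γ outerCode ∧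
    δ * γ = γ * δ ∧ δ ^ 7 = 1 ∧ δ ≠ 1 ∧ ∀ v, δ v = v → v = 0 := by
  obtain ⟨δ, hδ, hd⟩ := hM.word sevenWord
  rw [sevenWord_eq] at hd
  have hm := outer_mem
  simp only [Bool.and_eq_true, List.any_eq_true, eqM_iff] at hm
  obtain ⟨⟨⟨c, hc, rfl⟩, -⟩, -⟩ := hm
  obtain ⟨γ, -, -, hg, -, hout⟩ := hM.mem_qSub_acts (List.mem_of_mem_drop hc)
  have h7 := seven_ok
  simp only [Bool.and_eq_true, eqM_iff, List.all_eq_true, List.mem_range, Bool.or_eq_true, Bool.not_eq_true',
    Nat.beq_eq] at h7
  have hnofix : ∀ v, δ v = v → v = 0 := by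
    intro v hv
    obtain ⟨r, hr, rfl⟩ := hM.code_cases v
    rcases h7.2 r hr with e | e
    · rw [e, lin_zero]
    · exfalso
      rw [hd] at hv
      have hlt : app sevenCode r < 4096 := app_lt_of_good (by decide +kernel) r
      have := hM.lin_inj hlt hr hv
      simp [this] at e
  refine ⟨δ, hδ, γ, hM.mem_qSub.2 ⟨_, List.mem_of_mem_drop hc, hg⟩, hout hc, hd, hg,
    hM.acts_eq (hd.mul hg) (h7.1.1 ▸ hg.mul hd), hM.pow_seven hd, fun h1 => ?_, hnofix⟩
  refine hM.base_ne (hnofix _ ?_)
  rw [h1]; rfl

/-- The moved part of the outer involution on the perp of the base point has 32 members. -/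
theorem outer_moved {γ : Equiv.Perm V} (hg : PActs B γ outerCode) :
    {x : V | ∃ v, polar2 q (lin B Short.v0) v = 0 ∧ v + γ v = x}.ncard = 32 := by
  classical
  have h := img_ok
  simp only [Bool.and_eq_true, List.all_eq_true, Nat.beq_eq, Nat.blt_eq, decide_eq_true_eq,
    Bool.not_eq_true'] at h
  have hall := List.all_eq_true.1 img_all
  have hgood : goodM outerCode = true := by decide +kernel
  have : {x : V | ∃ v, polar2 q (lin B Short.v0) v = 0 ∧ v + γ v = x} =
      ↑((imgList.map Prod.fst).toFinset.image (lin B)) := by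
    ext x
    simp only [Finset.coe_image, Set.mem_image, Finset.mem_coe, List.mem_toFinset, List.mem_map]
    constructor
    · rintro ⟨v, hv, rfl⟩
      obtain ⟨r, hr, rfl⟩ := hM.code_cases v
      have hb := hall r (List.mem_range.2 hr)
      rw [hM.polar_code short.v₀_lt hr] at hv
      simp only [Bool.or_eq_true, List.any_eq_true, Nat.beq_eq] at hb
      rcases hb with e | ⟨a, ha, e⟩
      · simp [e] at hv
      · exact ⟨a.1, ⟨a, ha, rfl⟩, by rw [hM.d_code hg, e]⟩
    · rintro ⟨_, ⟨a, ha, rfl⟩, rfl⟩
      obtain ⟨⟨h1, h2⟩, h3⟩ := h.1.2 a ha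
      exact ⟨lin B a.2, by rw [hM.polar_code short.v₀_lt h1, h2]; rfl, by rw [hM.d_code hg, h3]⟩
  have hlt : ∀ x ∈ imgList.map Prod.fst, x < 4096 := by
    intro x hx
    obtain ⟨a, ha, rfl⟩ := List.mem_map.1 hx
    obtain ⟨⟨h1, -⟩, h3⟩ := h.1.2 a ha
    rw [← h3]
    exact Nat.xor_lt_two_pow (n := 12) h1 (app_lt_of_good hgood _)
  rw [this, Set.ncard_coe_finset, Finset.card_image_of_injOn, List.toFinset_card_of_nodup, List.length_map, h.2]
  · refine List.nodup_iff_injective_get.2 fun i j e => Fin.ext ?_
    exact distinctB_get (fun a b h => by rw [h]; exact Nat.beq_refl b) h.1.1 i.2 j.2 e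
  · intro a ha b hb e
    simp only [Finset.mem_coe, List.mem_toFinset] at ha hb
    exact hM.lin_inj (hlt a ha) (hlt b hb) e

/-- The fixed vectors of the outer involution in the perp of the base point are singular. -/
theorem outer_fix_sing {γ : Equiv.Perm V} (hg : PActs B γ outerCode) {v : V}
    (hv : polar2 q (lin B Short.v0) v = 0) (hfix : γ v = v) : q v = 0 := by
  obtain ⟨r, hr, rfl⟩ := hM.code_cases v
  have hb := List.all_eq_true.1 fix_sing r (List.mem_range.2 hr)
  rw [hg] at hfix
  have := hM.lin_inj (app_lt_of_good (by decide +kernel) r) hr hfix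
  rw [hM.polar_code short.v₀_lt hr] at hv
  simp only [Bool.or_eq_true, Bool.not_eq_true', Nat.beq_eq] at hb
  rcases hb with (e | e) | e
  · simp [e] at hv
  · simp [this] at e
  · rw [hM.q_eq r hr, e, Nat.cast_zero]

/-- A singular vector of the perp outside the kernel set is not perpendicular to all of it. -/
theorem exists_kernel_polar {w : V} (hw : polar2 q (lin B Short.v0) w = 0) (hq : q w = 0)
    (hk : w ∉ kernelSet q (qSub B) (lin B Short.v0)) :
    ∃ k ∈ kernelSet q (qSub B) (lin B Short.v0), polar2 q k w = 1 := by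
  obtain ⟨r, hr, rfl⟩ := hM.code_cases w
  have hb := List.all_eq_true.1 kernel_polar r (List.mem_range.2 hr)
  rw [hM.kernelSet_qSub] at hk ⊢
  rw [hM.polar_code short.v₀_lt hr] at hw
  rw [hM.q_eq r hr] at hq
  simp only [Bool.or_eq_true, List.any_eq_true, Nat.beq_eq] at hb
  rcases hb with ((e | e) | ⟨k, hk', e⟩) | ⟨k, hk', e⟩
  · simp [e] at hw
  · simp [e] at hq
  · exact absurd ⟨k, hk', by rw [e]⟩ hk
  · have hlt : k < 4096 := by
      have := List.all_eq_true.1 kList_lt k hk'
      simpa [Nat.blt_eq] using this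
    exact ⟨_, ⟨k, hk', rfl⟩, by rw [hM.polar_code hlt hr, e]; rfl⟩

/-- With an orbit of length 16, exactly one of the two translates lies in the short orbit. -/
theorem one_translate {w : V} (hw : polar2 q (lin B Short.v0) w = 0) (hq : q w = 0)
    (hk : w ∉ kernelSet q (qSub B) (lin B Short.v0))
    (ho : {x : V | ∃ γ ∈ qSub B, γ w = x}.ncard = 16) :
    ((∃ γ ∈ Γ₀, γ (lin B Short.v0) = w) ∧ ∀ γ ∈ Γ, γ (w + lin B Short.v0) ≠ lin B Short.v0) ∨
    ((∃ γ ∈ Γ₀, γ (lin B Short.v0) = w + lin B Short.v0) ∧ ∀ γ ∈ Γ, γ w ≠ lin B Short.v0) := by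
  classical
  obtain ⟨r, hr, rfl⟩ := hM.code_cases w
  have hb := List.all_eq_true.1 orbit16 r (List.mem_range.2 hr)
  rw [hM.kernelSet_qSub] at hk
  rw [hM.polar_code short.v₀_lt hr] at hw
  rw [hM.q_eq r hr] at hq
  have hgood : (qList.all goodM) = true := by decide +kernel
  have hset : {x : V | ∃ γ ∈ qSub B, γ (lin B r) = x} = ↑((qList.map fun M => app M r).toFinset.image (lin B)) := by
    ext x
    simp only [Finset.coe_image, Set.mem_image, Finset.mem_coe, List.mem_toFinset, List.mem_map]
    constructor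
    · rintro ⟨γ, hγ, rfl⟩
      obtain ⟨M, hm, e⟩ := hM.mem_qSub.1 hγ
      exact ⟨_, ⟨M, hm, rfl⟩, (e r).symm⟩
    · rintro ⟨_, ⟨M, hm, rfl⟩, rfl⟩
      obtain ⟨γ, -, -, hd, -⟩ := hM.mem_qSub_acts hm
      exact ⟨γ, hM.mem_qSub.2 ⟨M, hm, hd⟩, hd r⟩
  rw [hset, Set.ncard_coe_finset, Finset.card_image_of_injOn, ← cntD_eq] at ho
  swap
  · intro a ha b hb' e
    simp only [Finset.mem_coe, List.mem_toFinset, List.mem_map] at ha hb'
    obtain ⟨M, hm, rfl⟩ := ha
    obtain ⟨N, hn, rfl⟩ := hb'
    exact hM.lin_inj (app_lt_of_good (List.all_eq_true.1 hgood M hm) r)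
      (app_lt_of_good (List.all_eq_true.1 hgood N hn) r) e
  simp only [Bool.or_eq_true, List.any_eq_true, Nat.beq_eq, Bool.not_eq_true'] at hb
  have hx : Nat.xor r Short.v0 < 4096 := Nat.xor_lt_two_pow (n := 12) hr short.v₀_lt
  have hout : ∀ a < 4096, bit Short.orbBits a = false → ∀ γ ∈ Γ, γ (lin B a) ≠ lin B Short.v0 := by
    intro a ha hf γ hγ e
    obtain ⟨s, hs, hb', e'⟩ := short.invariant hM (Γ.inv_mem hγ) short.v₀_lt short.base
    have h2 : γ⁻¹ (lin B Short.v0) = lin B a := by rw [Equiv.Perm.inv_eq_iff_eq, e]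
    rw [h2] at e'
    rw [hM.lin_inj ha hs e', hb'] at hf
    exact Bool.noConfusion hf
  rw [hM.lin_add]
  rcases hb with (((e | e) | ⟨k, hk', e⟩) | e) | e
  · simp [e] at hw
  · simp [e] at hq
  · exact absurd ⟨k, hk', by rw [e]⟩ hk
  · simp [ho] at e
  · cases h1 : bit Short.orbBits r <;> cases h2 : bit Short.orbBits (Nat.xor r Short.v0) <;>
      rw [h1, h2] at e
    · exact Bool.noConfusion e
    · exact Or.inr ⟨short.reach hM h2, hout r hr h1⟩
    · exact Or.inl ⟨short.reach hM h1, hout _ hx h2⟩
    · exact Bool.noConfusion e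

end Model

end Cfsg.Agent.J4Type.Orbits
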