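import Cfsg.Agent.J4Type.SevenLocal
import Cfsg.Prelude.Def_TwoFusion

/-!
# The centraliser and normaliser of a subgroup of order seven

The centraliser modulo the subgroup satisfies the hypotheses that identify the symmetric group of degree five,
and the subgroup of order seven has a complement in its centraliser.
-/

set_option autoImplicit false

open Cfsg Subgroup

namespace Cfsg.Agent.J4Type

variable {G : Type*} [Group G]

/-- The centraliser of `σ`. -/
abbrev Cs (σ : G) : Subgroup G := centralizer ({σ} : Set G)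

/-- `⟨σ⟩` in it. -/
abbrev Ss (σ : G) : Subgroup ↥(Cs σ) := (zpowers σ).subgroupOf (Cs σ)

theorem Ss_central {σ : G} (a : ↥(Ss σ)) (b : ↥(Cs σ)) : b * (a : ↥(Cs σ)) = a * b := by
  obtain ⟨k, hk⟩ := mem_zpowers_iff.1 (mem_subgroupOf.1 a.2)
  refine Subtype.ext ?_
  show (b : G) * ((a : ↥(Cs σ)) : G) = ((a : ↥(Cs σ)) : G) * (b : G)
  rw [← hk]
  exact ((show Commute (b : G) σ from mem_centralizer_singleton_iff.1 b.2).zpow_right k).eq

instance Ss_normal (σ : G) : (Ss σ).Normal := ⟨fun a ha b => by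
  rw [Ss_central ⟨a, ha⟩ b, mul_inv_cancel_right]; exact ha⟩

/-- The classes of the conjugates of `z`. -/
def Az {σ : G} (z : G) (x : ↥(Cs σ) ⧸ Ss σ) : Prop :=
  ∃ y : ↥(Cs σ), (y : ↥(Cs σ) ⧸ Ss σ) = x ∧ IsConj z (y : G)

/-- Counting a subgroup over the common centraliser with an element. -/
theorem card_conj_orbit [Finite G] (u : G) (H : Subgroup G) :
    {w : G | ∃ g ∈ H, g * u * g⁻¹ = w}.ncard * Nat.card ↥(H ⊓ centralizer ({u} : Set G)) = Nat.card ↥H := by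
  classical
  have hch : ∀ w : {w : G | ∃ g ∈ H, g * u * g⁻¹ = w}, ∃ g ∈ H, g * u * g⁻¹ = (w : G) := fun w => w.2
  choose f hf hf' using hch
  rw [← Nat.card_coe_set_eq, ← Nat.card_prod]
  have hcu : ∀ c : ↥(H ⊓ centralizer ({u} : Set G)), (c : G) * u * (c : G)⁻¹ = u := fun c =>
    mul_inv_eq_iff_eq_mul.2 (mem_centralizer_singleton_iff.1 c.2.2)
  refine Nat.card_congr (Equiv.ofBijective
    (fun a : {w : G | ∃ g ∈ H, g * u * g⁻¹ = w} × ↥(H ⊓ centralizer ({u} : Set G)) =>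
      (⟨f a.1 * a.2, mul_mem (hf a.1) a.2.2.1⟩ : H)) ⟨?_, ?_⟩)
  · rintro ⟨w, c⟩ ⟨w', c'⟩ h
    have h' : f w * (c : G) = f w' * (c' : G) := congrArg Subtype.val h
    have hw : w = w' := Subtype.ext (by
      rw [← hf' w, ← hf' w']
      conv_lhs => rw [← hcu c]
      conv_rhs => rw [← hcu c']
      rw [show f w * ((c : G) * u * (c : G)⁻¹) * (f w)⁻¹ = (f w * c) * u * (f w * c)⁻¹ by group, h']
      group)
    subst hw
    exact Prod.ext rfl (Subtype.ext (mul_left_cancel h'))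
  · rintro ⟨g, hg⟩
    refine ⟨(⟨g * u * g⁻¹, g, hg, rfl⟩, ⟨(f ⟨g * u * g⁻¹, g, hg, rfl⟩)⁻¹ * g,
      H.mul_mem (H.inv_mem (hf _)) hg, ?_⟩), Subtype.ext ?_⟩
    · refine mem_centralizer_singleton_iff.2 ?_
      have h := hf' ⟨g * u * g⁻¹, g, hg, rfl⟩
      generalize f ⟨g * u * g⁻¹, g, hg, rfl⟩ = a at h
      rw [← mul_inv_eq_iff_eq_mul, show a⁻¹ * g * u * (a⁻¹ * g)⁻¹ = a⁻¹ * (g * u * g⁻¹) * a by group]
      simp only at h
      rw [← h]
      group
    · exact mul_inv_cancel_left _ _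

namespace SevenData

variable {z p σ i : G} (D : SevenData z p σ i)
include D

theorem mem_S {a : ↥(Cs σ)} (h : a ∈ Ss σ) : (a : G) ^ 7 = 1 := by
  obtain ⟨k, hk⟩ := mem_zpowers_iff.1 (mem_subgroupOf.1 h)
  rw [← hk, ← zpow_natCast, ← zpow_mul, mul_comm, zpow_mul, zpow_natCast, D.s7, one_zpow]

theorem lift_unique {a b : ↥(Cs σ)} (h : (a : ↥(Cs σ) ⧸ Ss σ) = b) {n : ℕ} (hn : n.Coprime 7)
    (ha : (a : G) ^ n = 1) (hb : (b : G) ^ n = 1) : a = b := by
  have hs := QuotientGroup.eq.1 h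
  have hc : Commute a (a⁻¹ * b) := Ss_central ⟨_, hs⟩ a
  have h1 : (a⁻¹ * b) ^ n = 1 := by
    have := hc.mul_pow n
    rw [mul_inv_cancel_left] at this
    have hb' : b ^ n = 1 := Subtype.ext (by rw [coe_pow]; exact hb)
    have ha' : a ^ n = 1 := Subtype.ext (by rw [coe_pow]; exact ha)
    rw [ha', hb', one_mul] at this
    exact this.symm
  have h2 : (a⁻¹ * b) ^ 7 = 1 := Subtype.ext (by rw [coe_pow]; exact D.mem_S hs)
  have h3 : (a⁻¹ * b) ^ Nat.gcd n 7 = 1 := pow_gcd_eq_one.2 ⟨h1, h2⟩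
  rw [hn.gcd_eq_one, pow_one] at h3
  exact eq_of_inv_mul_eq_one h3

theorem lift_inv {x : ↥(Cs σ) ⧸ Ss σ} (hx : x * x = 1) :
    ∃ y : ↥(Cs σ), (y : G) ^ 2 = 1 ∧ (y : ↥(Cs σ) ⧸ Ss σ) = x := by
  obtain ⟨y, rfl⟩ := QuotientGroup.mk_surjective x
  have h := D.mem_S ((QuotientGroup.eq_one_iff (y * y)).1 (by rw [QuotientGroup.mk_mul]; exact hx))
  refine ⟨y ^ 7, ?_, ?_⟩
  · rw [coe_pow, ← pow_mul, mul_comm, pow_mul, pow_two, ← Subgroup.coe_mul]
    exact h
  · rw [QuotientGroup.mk_pow, pow_succ, show (6 : ℕ) = 2 * 3 from rfl, pow_mul, pow_two, hx, one_pow, one_mul]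

variable [Finite G]

theorem card_Ss : Nat.card ↥(Ss σ) = 7 := by
  rw [Nat.card_congr (subgroupOfEquivOfLe (zpowers_le.2 (mem_centralizer_singleton_iff.2 rfl))).toEquiv,
    Nat.card_zpowers, D.o7]

theorem card_cent_quot {y : ↥(Cs σ)} {n : ℕ} (hn : n.Coprime 7) (hy : (y : G) ^ n = 1) :
    Nat.card ↥(centralizer ({(y : ↥(Cs σ) ⧸ Ss σ)} : Set (↥(Cs σ) ⧸ Ss σ))) * 7 =
      Nat.card ↥(Cs σ ⊓ centralizer ({(y : G)} : Set G)) := by
  set K := centralizer ({(y : ↥(Cs σ) ⧸ Ss σ)} : Set (↥(Cs σ) ⧸ Ss σ)) with hK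
  have hcomap : K.comap (QuotientGroup.mk' (Ss σ)) =
      (Cs σ ⊓ centralizer ({(y : G)} : Set G)).subgroupOf (Cs σ) := by
    ext a
    rw [mem_comap, mem_subgroupOf, hK, mem_centralizer_singleton_iff, QuotientGroup.mk'_apply,
      ← QuotientGroup.mk_mul, ← QuotientGroup.mk_mul]
    constructor
    · intro h
      have h' : ((a * y * a⁻¹ : ↥(Cs σ)) : ↥(Cs σ) ⧸ Ss σ) = (y : ↥(Cs σ) ⧸ Ss σ) := by
        rw [QuotientGroup.mk_mul, h, ← QuotientGroup.mk_mul, mul_inv_cancel_right]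
      have e := congrArg Subtype.val (D.lift_unique h' hn (by
        simp only [Subgroup.coe_mul, Subgroup.coe_inv]
        rw [conj_pow, hy, mul_one, mul_inv_cancel]) hy)
      simp only [Subgroup.coe_mul, Subgroup.coe_inv] at e
      exact ⟨a.2, mem_centralizer_singleton_iff.2 (mul_inv_eq_iff_eq_mul.1 e)⟩
    · intro h
      exact congrArg _ (Subtype.ext (mem_centralizer_singleton_iff.1 h.2))
  have h1 := (K.comap (QuotientGroup.mk' (Ss σ))).card_mul_index
  rw [index_comap_of_surjective _ (QuotientGroup.mk'_surjective _), hcomap,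
    Nat.card_congr (subgroupOfEquivOfLe inf_le_left).toEquiv,
    card_eq_card_quotient_mul_card_subgroup (Ss σ), D.card_Ss, ← K.card_mul_index] at h1
  have hpos : 0 < K.index := Nat.pos_of_ne_zero FiniteIndex.index_ne_zero
  refine Nat.eq_of_mul_eq_mul_right hpos ?_
  rw [h1]
  ring

/-- The centraliser modulo `⟨σ⟩` satisfies the hypotheses of the recognition. -/
theorem recogData : ∃ z' i' p' : ↥(Cs σ) ⧸ Ss σ, SevenRecog.Data (Az z) z' i' p' ∧
    ∃ y : ↥(Cs σ), (y : G) = z ∧ (y : ↥(Cs σ) ⧸ Ss σ) = z' := by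
  have hzC : z ∈ Cs σ := mem_centralizer_singleton_iff.2 D.sz.symm.eq
  have hiC : i ∈ Cs σ := mem_centralizer_singleton_iff.2 D.si.symm.eq
  have hpC : p ∈ Cs σ := mem_centralizer_singleton_iff.2 D.sp.symm.eq
  let z₁ : ↥(Cs σ) := ⟨z, hzC⟩
  let i₁ : ↥(Cs σ) := ⟨i, hiC⟩
  let p₁ : ↥(Cs σ) := ⟨p, hpC⟩
  have c2 : (2 : ℕ).Coprime 7 := by norm_num
  have c3 : (3 : ℕ).Coprime 7 := by norm_num
  have hz2 : z ^ 2 = 1 := by rw [pow_two, D.zz]
  have hi2 : i ^ 2 = 1 := by rw [pow_two, D.i2]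
  have hzi2 : (i * z) ^ 2 = 1 := by rw [pow_two, D.iz.symm.mul_mul_mul_comm, D.i2, D.zz, one_mul]
  have hone : ∀ {a : ↥(Cs σ)} {n : ℕ}, n.Coprime 7 → (a : G) ^ n = 1 → (a : G) ≠ 1 →
      (a : ↥(Cs σ) ⧸ Ss σ) ≠ 1 := fun {a n} hn ha ha1 h => ha1 (by
    rw [D.lift_unique (b := 1) (by rw [h, QuotientGroup.mk_one]) hn ha (one_pow n)]; rfl)
  refine ⟨(z₁ : ↥(Cs σ) ⧸ Ss σ), (i₁ : ↥(Cs σ) ⧸ Ss σ), (p₁ : ↥(Cs σ) ⧸ Ss σ), ?_, z₁, rfl, rfl⟩
  refine
    { conjA := ?_, iz := ?_, ii := ?_, Az := ⟨z₁, rfl, IsConj.refl z⟩, Ai := ⟨i₁, rfl, D.iconj⟩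
      zi := ?_, ne := ?_, nAt := ?_, pz := ?_, p3 := ?_, p1 := ?_, pinv := ?_, cardz := ?_, centp := ?_
      autA := ?_, cardB := ?_ }
  · intro g x
    obtain ⟨c, rfl⟩ := QuotientGroup.mk_surjective g
    constructor
    · rintro ⟨y, hy, hc⟩
      refine ⟨c⁻¹ * y * c, by rw [QuotientGroup.mk_mul, QuotientGroup.mk_mul, QuotientGroup.mk_inv, hy]; group, ?_⟩
      have := D.conj_z (g := (c : G)⁻¹) hc
      simpa using this
    · rintro ⟨y, rfl, hc⟩
      refine ⟨c * y * c⁻¹, by rw [QuotientGroup.mk_mul, QuotientGroup.mk_mul, QuotientGroup.mk_inv], ?_⟩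
      simpa using D.conj_z (g := (c : G)) hc
  · exact ⟨by rw [← QuotientGroup.mk_mul, show z₁ * z₁ = 1 from Subtype.ext D.zz, QuotientGroup.mk_one],
      hone c2 hz2 D.z1⟩
  · exact ⟨by rw [← QuotientGroup.mk_mul, show i₁ * i₁ = 1 from Subtype.ext D.i2, QuotientGroup.mk_one],
      hone c2 hi2 (D.sq_of_conj D.iconj).2⟩
  · rw [← QuotientGroup.mk_mul, ← QuotientGroup.mk_mul]
    exact congrArg _ (Subtype.ext D.iz.symm.eq)
  · intro h
    have e : z = i := congrArg Subtype.val (D.lift_unique h c2 hz2 hi2)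
    have h2 := D.pinv
    rw [← e, mul_assoc, D.pz.eq, ← mul_assoc, D.zz, one_mul] at h2
    have h3 := D.p3
    nth_rewrite 1 [h2] at h3
    rw [inv_mul_cancel, one_mul] at h3
    exact D.p1 h3
  · rintro ⟨y, hy, hc⟩
    have hy2 : (y : G) ^ 2 = 1 := by rw [pow_two]; exact (D.sq_of_conj hc).1
    have hzi : z₁ * i₁ = ⟨i * z, mul_mem hiC hzC⟩ := Subtype.ext D.iz.symm.eq
    rw [← QuotientGroup.mk_mul, hzi] at hy
    rw [D.lift_unique hy c2 hy2 hzi2] at hc
    exact D.tn hc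
  · rw [← QuotientGroup.mk_mul, ← QuotientGroup.mk_mul]
    exact congrArg _ (Subtype.ext D.pz.eq)
  · rw [← QuotientGroup.mk_mul, ← QuotientGroup.mk_mul, show p₁ * p₁ * p₁ = 1 from Subtype.ext D.p3,
      QuotientGroup.mk_one]
  · exact hone c3 (by rw [pow_three', D.p3]) D.p1
  · rw [← QuotientGroup.mk_mul, ← QuotientGroup.mk_mul, ← QuotientGroup.mk_inv]
    exact congrArg _ (Subtype.ext D.pinv)
  · have h := D.card_cent_quot (y := z₁) c2 hz2
    rw [show (z₁ : G) = z from rfl, inf_comm, D.card84] at h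
    omega
  · intro g hg
    obtain ⟨a, rfl⟩ := QuotientGroup.mk_surjective g
    rw [← QuotientGroup.mk_mul, ← QuotientGroup.mk_mul] at hg ⊢
    have h' : ((a * p₁ * a⁻¹ : ↥(Cs σ)) : ↥(Cs σ) ⧸ Ss σ) = (p₁ : ↥(Cs σ) ⧸ Ss σ) := by
      rw [QuotientGroup.mk_mul, hg, ← QuotientGroup.mk_mul, mul_inv_cancel_right]
    have hp3 : p ^ 3 = 1 := by rw [pow_three', D.p3]
    have e : (a : G) * p * (a : G)⁻¹ = p := congrArg Subtype.val (D.lift_unique h' c3
      (by show ((a : G) * p * (a : G)⁻¹) ^ 3 = 1; rw [conj_pow, hp3, mul_one, mul_inv_cancel]) hp3)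
    exact congrArg _ (Subtype.ext (D.centp _ (mul_inv_eq_iff_eq_mul.1 e)))
  · rintro w - ⟨y, rfl, hc⟩
    obtain ⟨n, hn, hnw⟩ := D.exists_norm_map (mem_centralizer_singleton_iff.1 y.2) hc
    obtain ⟨k, hk⟩ := mem_zpowers_iff.1 (mem_normalizer_zpowers.1 hn)
    obtain ⟨l, hl⟩ := mem_zpowers_iff.1 (mem_normalizer_zpowers.1 (inv_mem hn))
    rw [inv_inv] at hl
    have hmem : ∀ a : ↥(Cs σ), n * (a : G) * n⁻¹ ∈ Cs σ := fun a => by
      refine mem_centralizer_singleton_iff.2 ?_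
      have hca : Commute (a : G) (σ ^ l) :=
        (show Commute (a : G) σ from mem_centralizer_singleton_iff.1 a.2).zpow_right l
      rw [show n * (a : G) * n⁻¹ * σ = n * ((a : G) * (n⁻¹ * σ * n)) * n⁻¹ by group, ← hl, hca.eq, hl]
      group
    have hmem' : ∀ a : ↥(Cs σ), n⁻¹ * (a : G) * n ∈ Cs σ := fun a => by
      refine mem_centralizer_singleton_iff.2 ?_
      have hca : Commute (a : G) (σ ^ k) :=
        (show Commute (a : G) σ from mem_centralizer_singleton_iff.1 a.2).zpow_right k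
      rw [show n⁻¹ * (a : G) * n * σ = n⁻¹ * ((a : G) * (n * σ * n⁻¹)) * n by group, ← hk, hca.eq, hk]
      group
    let f₀ : ↥(Cs σ) ≃* ↥(Cs σ) :=
      { toFun := fun a => ⟨n * (a : G) * n⁻¹, hmem a⟩
        invFun := fun a => ⟨n⁻¹ * (a : G) * n, hmem' a⟩
        left_inv := fun a => Subtype.ext (by show n⁻¹ * (n * (a : G) * n⁻¹) * n = _; group)
        right_inv := fun a => Subtype.ext (by show n * (n⁻¹ * (a : G) * n) * n⁻¹ = _; group)
        map_mul' := fun a b => Subtype.ext (by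
          show n * ((a : G) * b) * n⁻¹ = n * (a : G) * n⁻¹ * (n * (b : G) * n⁻¹); group) }
    have hS : (Ss σ).map (f₀ : ↥(Cs σ) →* ↥(Cs σ)) = Ss σ := by
      refine eq_of_le_of_card_ge ?_ (le_of_eq ?_)
      · rintro _ ⟨a, ha, rfl⟩
        obtain ⟨m, hm⟩ := mem_zpowers_iff.1 (mem_subgroupOf.1 ha)
        refine mem_subgroupOf.2 ?_
        show n * (a : G) * n⁻¹ ∈ zpowers σ
        rw [← hm, ← MulAut.conj_apply, map_zpow, MulAut.conj_apply, ← hk]
        exact zpow_mem (zpow_mem (mem_zpowers σ) k) m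
      · exact (card_map_of_injective f₀.injective).symm
    refine ⟨QuotientGroup.congr (Ss σ) (Ss σ) f₀ hS, ?_, fun x => ?_⟩
    · rw [QuotientGroup.congr_mk]
      exact congrArg _ (Subtype.ext hnw)
    · obtain ⟨a, rfl⟩ := QuotientGroup.mk_surjective x
      rw [QuotientGroup.congr_mk]
      constructor
      · rintro ⟨b, hb, hcb⟩
        refine ⟨f₀.symm b, ?_, ?_⟩
        · have := congrArg (QuotientGroup.congr (Ss σ) (Ss σ) f₀ hS).symm hb
          rwa [QuotientGroup.congr_symm, QuotientGroup.congr_mk, QuotientGroup.congr_mk,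
            f₀.symm_apply_apply] at this
        · have := D.conj_z (g := n⁻¹) hcb
          rwa [inv_inv] at this
      · rintro ⟨b, hb, hcb⟩
        refine ⟨f₀ b, ?_, D.conj_z hcb⟩
        rw [← QuotientGroup.congr_mk (Ss σ) (Ss σ) f₀ hS b, ← QuotientGroup.congr_mk (Ss σ) (Ss σ) f₀ hS a, hb]
  · intro w hw hA
    obtain ⟨y, hy, rfl⟩ := D.lift_inv hw.1
    have hy1 : (y : G) ≠ 1 := fun e => hw.2 (by rw [show y = 1 from Subtype.ext e, QuotientGroup.mk_one])
    have h := D.card_cent_quot c2 hy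
    rw [D.card_T (mem_centralizer_singleton_iff.1 y.2) (by rw [← pow_two]; exact hy) hy1
      fun e => hA ⟨y, rfl, e⟩] at h
    omega

theorem card_Cs : Nat.card ↥(Cs σ) = 840 := by
  obtain ⟨z', i', p', R, -⟩ := D.recogData
  rw [card_eq_card_quotient_mul_card_subgroup (Ss σ), D.card_Ss, R.count.1]

theorem not_dvd_card : ¬ 49 ∣ Nat.card G := by
  intro hd
  haveI : Fact (Nat.Prime 7) := ⟨by norm_num⟩
  obtain ⟨U, hU, hle⟩ := Sylow.exists_subgroup_card_pow_succ (p := 7) (n := 1) (G := G) (by norm_num; exact hd)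
    (H := zpowers σ) (by rw [Nat.card_zpowers, D.o7, pow_one])
  letI : CommGroup ↥U := IsPGroup.commGroupOfCardEqPrimeSq (p := 7) (by rw [hU])
  have hUC : U ≤ Cs σ := fun x hx => mem_centralizer_singleton_iff.2
    (congrArg Subtype.val (mul_comm (⟨x, hx⟩ : ↥U) ⟨σ, hle (mem_zpowers σ)⟩))
  have := card_dvd_of_le hUC
  rw [hU, D.card_Cs] at this
  norm_num at this

theorem exists_complement : ∃ I : Subgroup G, IsInternalDirectProduct (zpowers σ) I (Cs σ) ∧
    Nonempty (↥I ≃* Equiv.Perm (Fin 5)) := by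
  obtain ⟨z', i', p', R, -⟩ := D.recogData
  obtain ⟨e⟩ := R.iso_perm
  have hidx : (Ss σ).index = 120 := by rw [index_eq_card, R.count.1]
  obtain ⟨I₀, hI⟩ := exists_right_complement'_of_coprime (N := Ss σ) (by rw [D.card_Ss, hidx]; norm_num)
  have hcI : Nat.card ↥I₀ = 120 := by
    have h := hI.card_mul
    rw [D.card_Ss, D.card_Cs] at h
    omega
  have hinj : ∀ a ∈ I₀, a ∈ Ss σ → a = 1 := fun a ha hs => mem_bot.1 (hI.disjoint.le_bot ⟨hs, ha⟩)
  let φ : ↥I₀ →* ↥(Cs σ) ⧸ Ss σ := (QuotientGroup.mk' (Ss σ)).comp I₀.subtype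
  have hφ : Function.Bijective φ := (Nat.bijective_iff_injective_and_card φ).2
    ⟨(injective_iff_map_eq_one φ).2 fun a ha => Subtype.ext (hinj a a.2 ((QuotientGroup.eq_one_iff _).1 ha)),
      by rw [hcI, R.count.1]⟩
  refine ⟨I₀.map (Cs σ).subtype, ⟨zpowers_le.2 (mem_centralizer_singleton_iff.2 rfl), map_subtype_le _,
    ?_, ?_, ?_⟩, ⟨(I₀.equivMapOfInjective _ (Cs σ).subtype_injective).symm.trans
      ((MulEquiv.ofBijective φ hφ).trans e)⟩⟩
  · rintro a ha _ ⟨b, -, rfl⟩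
    obtain ⟨k, rfl⟩ := mem_zpowers_iff.1 ha
    exact ((show Commute (b : G) σ from mem_centralizer_singleton_iff.1 b.2).zpow_right k).symm.eq
  · rw [eq_bot_iff]
    rintro _ ⟨ha, b, hb, rfl⟩
    rw [mem_bot, hinj b hb (mem_subgroupOf.2 ha)]
    rfl
  · have hmap : (Ss σ).map (Cs σ).subtype = zpowers σ :=
      map_subgroupOf_eq_of_le (zpowers_le.2 (mem_centralizer_singleton_iff.2 rfl))
    rw [← hmap, ← Subgroup.map_sup, hI.sup_eq_top, ← MonoidHom.range_eq_map, range_subtype]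

theorem card_norm : Nat.card ↥(normalizer ((zpowers σ : Subgroup G) : Set G)) = 2520 := by
  obtain ⟨z', i', p', R, z₁, hz₁, hz'⟩ := D.recogData
  set N := normalizer ((zpowers σ : Subgroup G) : Set G) with hN
  have hsets : {w : G | ∃ g ∈ N, g * z * g⁻¹ = w} = {w : G | ∃ g ∈ Cs σ, g * z * g⁻¹ = w} := by
    ext w
    constructor
    · rintro ⟨g, hg, rfl⟩
      have hwC : g * z * g⁻¹ ∈ Cs σ := by
        obtain ⟨k, hk⟩ := mem_zpowers_iff.1 (mem_normalizer_zpowers.1 (inv_mem hg))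
        rw [inv_inv] at hk
        refine mem_centralizer_singleton_iff.2 ?_
        rw [show g * z * g⁻¹ * σ = g * (z * (g⁻¹ * σ * g)) * g⁻¹ by group, ← hk,
          (D.sz.symm.zpow_right k).eq, hk]
        group
      have hA : IsConj z (g * z * g⁻¹) := isConj_iff.2 ⟨g, rfl⟩
      obtain ⟨hsq, h1⟩ := D.sq_of_conj hA
      let w₁ : ↥(Cs σ) := ⟨g * z * g⁻¹, hwC⟩
      have hw2 : SevenRecog.Inv2 (w₁ : ↥(Cs σ) ⧸ Ss σ) := by
        refine ⟨by rw [← QuotientGroup.mk_mul, show w₁ * w₁ = 1 from Subtype.ext hsq, QuotientGroup.mk_one],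
          fun e => h1 ?_⟩
        rw [show g * z * g⁻¹ = (w₁ : G) from rfl,
          D.lift_unique (a := w₁) (b := 1) (by rw [e, QuotientGroup.mk_one]) (n := 2) (by norm_num)
            (by rw [pow_two]; exact hsq) (one_pow 2)]
        rfl
      obtain ⟨c, hc⟩ := R.count.2.2.1 _ hw2 ⟨w₁, rfl, hA⟩
      obtain ⟨a, rfl⟩ := QuotientGroup.mk_surjective c
      rw [← hz'] at hc
      rw [← QuotientGroup.mk_mul, ← QuotientGroup.mk_inv, ← QuotientGroup.mk_mul] at hc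
      have he := congrArg Subtype.val (D.lift_unique hc (n := 2) (by norm_num)
        (by
          show ((a : G) * (z₁ : G) * (a : G)⁻¹) ^ 2 = 1
          rw [conj_pow, hz₁, pow_two, D.zz, mul_one, mul_inv_cancel])
        (by rw [pow_two]; exact hsq))
      refine ⟨a, a.2, ?_⟩
      rw [← hz₁]
      exact he.trans (congrArg (fun x => g * x * g⁻¹) hz₁.symm)
    · rintro ⟨g, hg, rfl⟩
      refine ⟨g, ?_, rfl⟩
      rw [hN, mem_normalizer_zpowers, mul_inv_eq_iff_eq_mul.2 (mem_centralizer_singleton_iff.1 hg)]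
      exact mem_zpowers σ
  have h1 := card_conj_orbit z N
  have h2 := card_conj_orbit z (Cs σ)
  rw [hsets, inf_comm, hN, D.card252] at h1
  rw [inf_comm, D.card84, D.card_Cs] at h2
  rw [hN]
  omega

end SevenData

/-- The conclusion at a subgroup of order seven. -/
def SevenConcl (S : Subgroup G) : Prop :=
  (∃ I : Subgroup G, IsInternalDirectProduct S I (centralizer (S : Set G)) ∧
    Nonempty (↥I ≃* Equiv.Perm (Fin 5))) ∧
  Nat.card ↥(normalizer (S : Set G)) = 3 * Nat.card ↥(centralizer (S : Set G)) ∧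
  Nat.card ↥(normalizer (S : Set G)) = 2520

theorem centralizer_map_equiv (φ : G ≃* G) (S : Subgroup G) :
    centralizer ((S.map φ.toMonoidHom : Subgroup G) : Set G) = (centralizer (S : Set G)).map φ.toMonoidHom := by
  ext x
  constructor
  · intro hx
    refine ⟨φ.symm x, mem_centralizer_iff.2 fun s hs => φ.injective ?_, φ.apply_symm_apply x⟩
    rw [map_mul, map_mul, φ.apply_symm_apply]
    exact mem_centralizer_iff.1 hx (φ s) ⟨s, hs, rfl⟩
  · rintro ⟨c, hc, rfl⟩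
    refine mem_centralizer_iff.2 ?_
    rintro _ ⟨s, hs, rfl⟩
    rw [← map_mul, ← map_mul, mem_centralizer_iff.1 hc s hs]

theorem SevenConcl.map {S : Subgroup G} (h : SevenConcl S) (φ : G ≃* G) :
    SevenConcl (S.map φ.toMonoidHom) := by
  obtain ⟨⟨I, ⟨h1, h2, h3, h4, h5⟩, ⟨e⟩⟩, hn, hn'⟩ := h
  have hN : normalizer ((S.map φ.toMonoidHom : Subgroup G) : Set G) = (normalizer (S : Set G)).map φ.toMonoidHom :=
    (map_normalizer_eq_of_bijective S (f := φ.toMonoidHom) φ.bijective).symm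
  refine ⟨⟨I.map φ.toMonoidHom, ⟨?_, ?_, ?_, ?_, ?_⟩,
    ⟨(I.equivMapOfInjective _ φ.injective).symm.trans e⟩⟩, ?_, ?_⟩
  · rw [centralizer_map_equiv]; exact map_mono h1
  · rw [centralizer_map_equiv]; exact map_mono h2
  · rintro _ ⟨a, ha, rfl⟩ _ ⟨b, hb, rfl⟩
    rw [← map_mul, ← map_mul, h3 a ha b hb]
  · rw [← map_inf _ _ _ φ.injective, h4, Subgroup.map_bot]
  · rw [← Subgroup.map_sup, h5, centralizer_map_equiv]
  · rw [hN, centralizer_map_equiv, card_map_of_injective φ.injective, card_map_of_injective φ.injective, hn]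
  · rw [hN, card_map_of_injective φ.injective, hn']

/-- The local structure at every subgroup of order seven of `C(z)`. -/
theorem SevenData.local_structure [Finite G] {z p σ i : G} (D : SevenData z p σ i) (S : Subgroup G)
    (hS : Nat.card ↥S = 7) (hSz : S ≤ centralizer ({z} : Set G)) :
    ¬ 49 ∣ Nat.card G ∧ SevenConcl S := by
  haveI : Fact (Nat.Prime 7) := ⟨by norm_num⟩
  have hbase : SevenConcl (zpowers σ) := by
    rw [SevenConcl, centralizer_zpowers_eq]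
    refine ⟨D.exists_complement, ?_, D.card_norm⟩
    rw [D.card_norm]
    show 2520 = 3 * Nat.card ↥(Cs σ)
    rw [D.card_Cs]
  obtain ⟨⟨τ, hτS⟩, hτ⟩ := exists_prime_orderOf_dvd_card' 7 (dvd_of_eq hS.symm)
  rw [orderOf_mk] at hτ
  have hgen : zpowers τ = S := eq_of_le_of_card_ge (zpowers_le.2 hτS) (by rw [Nat.card_zpowers, hτ, hS])
  obtain ⟨h, -, hh⟩ := D.exists_conj_seven (τ := τ) (by rw [← hτ, pow_orderOf_eq_one])
    (mem_centralizer_singleton_iff.1 (hSz hτS))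
  have hmap : (zpowers σ).map (MulAut.conj h⁻¹).toMonoidHom = S := by
    have h1 : zpowers (h * τ * h⁻¹) = zpowers σ := eq_of_le_of_card_ge (zpowers_le.2 hh) (by
      rw [Nat.card_zpowers, Nat.card_zpowers, D.o7,
        show h * τ * h⁻¹ = (MulAut.conj h) τ from rfl, MulEquiv.orderOf_eq, hτ])
    rw [← h1, MonoidHom.map_zpowers, ← hgen]
    congr 1
    simp [mul_assoc]
  exact ⟨D.not_dvd_card, hmap ▸ hbase.map (MulAut.conj h⁻¹)⟩

end Cfsg.Agent.J4Type
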