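import Cfsg.Agent.J4Type.Hom
import Cfsg.Agent.J4Type.Pair

/-!
# An orthogonal conjugate of `z` and the image of its 2-core
-/

set_option autoImplicit false

open Cfsg Subgroup

namespace Cfsg.Agent.J4Type

open LargeExtra (oc oc_le oc_conj_mem conj_mem_oc Setting)

variable {G : Type*} [Group G] [Finite G] {z : G} {P : Subgroup G} {V : Type*} [AddCommGroup V]
  {π : ↥(oc z) →* Multiplicative V} {ρ : ↥(mSub z P) →* Equiv.Perm V} {q : V → ZMod 2}
  {v₀ f₀ : V} {Q₀ : Subgroup (Equiv.Perm V)}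

/-- An orthogonal conjugate `u` of `z`. -/
structure Conf (z u : G) : Prop where
  mem : u ∈ oc z
  ne : u ≠ z
  conj : ∃ g : G, g * z * g⁻¹ = u

/-- `X = O₂(C(u)) ∩ C(z)`. -/
def xSub (z u : G) : Subgroup G := oc u ⊓ centralizer ({z} : Set G)

/-- `C_E(u)`. -/
def ySub (z u : G) : Subgroup G := oc z ⊓ centralizer ({u} : Set G)

theorem xSub_le (z u : G) : xSub z u ≤ centralizer ({z} : Set G) := inf_le_right

/-- The group of linear parts of `X`. -/
noncomputable def xImage (D : ActData z P π ρ q) (u : G) : Subgroup (Equiv.Perm V) :=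
  ((xSub z u).subgroupOf (centralizer ({z} : Set G))).map (ActData.linHom D)

namespace Conf

variable {u : G} (hc : Conf z u) (D : ActData z P π ρ q)
include hc D

theorem setting : Setting u := by
  obtain ⟨g, rfl⟩ := hc.conj
  exact D.set'.conj g

theorem z_mem : z ∈ oc u := by
  obtain ⟨g, rfl⟩ := hc.conj
  exact D.set'.symm hc.mem

theorem card_oc : Nat.card ↥(oc z) = 2 ^ 13 := D.hJ.2.2.1

theorem card_ocu : Nat.card ↥(oc u) = 2 ^ 13 := by
  obtain ⟨g, rfl⟩ := hc.conj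
  rw [← LargeExtra.oc_map_conj, card_map_of_injective (MulAut.conj g).injective]
  exact hc.card_oc D

theorem ne_one : u ≠ 1 := (hc.setting D).ne_one

theorem sq : u * u = 1 := (hc.setting D).sq_one

theorem mem_H : u ∈ centralizer ({z} : Set G) := oc_le z hc.mem

theorem comm : Commute u z := D.comm_z (hc.mem_H D)

theorem vec_ne : vec π u ≠ 0 := fun h => by
  rcases (D.vec_eq_zero hc.mem).1 h with h | h
  · exact hc.ne_one D h
  · exact hc.ne h

theorem vec_sing : q (vec π u) = 0 := (D.sq_eq_one hc.mem).1 (hc.sq D)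

theorem swap : ∃ s : G, s * z * s⁻¹ = u ∧ s * u * s⁻¹ = z :=
  exists_swap D.set' (hc.setting D) hc.mem (hc.z_mem D) hc.ne

theorem card_ySub : Nat.card ↥(ySub z u) = 2 ^ 12 := by
  have h := card_cent D.set' hc.mem (hc.ne_one D) hc.ne
  rw [hc.card_oc D] at h
  rw [ySub]; omega

theorem card_xSub : Nat.card ↥(xSub z u) = 2 ^ 12 := by
  have h := card_cent (hc.setting D) (hc.z_mem D) D.z_ne (Ne.symm hc.ne)
  rw [hc.card_ocu D] at h
  rw [xSub]; omega

theorem inter_le_xSub : oc z ⊓ oc u ≤ xSub z u := fun _ hk => ⟨hk.2, oc_le z hk.1⟩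

theorem inter_comm {a b : G} (ha : a ∈ oc z ⊓ oc u) (hb : b ∈ oc z ⊓ oc u) : Commute a b := by
  rcases D.set'.commutator_cases ha.1 hb.1 with h | h
  · exact mul_inv_eq_iff_eq_mul.1 (mul_inv_eq_one.1 h)
  · rcases (hc.setting D).commutator_cases ha.2 hb.2 with h' | h'
    · exact mul_inv_eq_iff_eq_mul.1 (mul_inv_eq_one.1 h')
    · exact absurd (h'.symm.trans h) hc.ne

theorem sq_cases_u {a : G} (ha : a ∈ oc u) : a * a = 1 ∨ a * a = u := by
  refine (hc.setting D).center_cases (mul_mem ha ha) fun w hw => ?_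
  rcases (hc.setting D).commutator_cases ha hw with h | h
  · exact (Commute.mul_left (a := a) (mul_inv_eq_iff_eq_mul.1 (mul_inv_eq_one.1 h) : Commute a w)
      (mul_inv_eq_iff_eq_mul.1 (mul_inv_eq_one.1 h) : Commute a w)).symm
  · have h1 : a * w * a⁻¹ = u * w := mul_inv_eq_iff_eq_mul.1 h
    have hau : a * u * a⁻¹ = u := mul_inv_eq_iff_eq_mul.2 ((hc.setting D).comm_z ha).eq
    have h2 : a * a * w * (a * a)⁻¹ = w := by
      rw [show a * a * w * (a * a)⁻¹ = a * (a * w * a⁻¹) * a⁻¹ by group, h1,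
        show a * (u * w) * a⁻¹ = (a * u * a⁻¹) * (a * w * a⁻¹) by group, hau, h1, ← mul_assoc,
        hc.sq D, one_mul]
    exact (mul_inv_eq_iff_eq_mul.1 h2 : Commute (a * a) w).symm

theorem inter_sq {a : G} (ha : a ∈ oc z ⊓ oc u) : a * a = 1 := by
  rcases hc.sq_cases_u D ha.2 with h | h
  · exact h
  · exfalso
    have hcen : ∀ w ∈ oc z, Commute w (a * a) := fun w hw => by
      rcases D.set'.commutator_cases ha.1 hw with e | e
      · exact (Commute.mul_left (a := a) (mul_inv_eq_iff_eq_mul.1 (mul_inv_eq_one.1 e) : Commute a w)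
          (mul_inv_eq_iff_eq_mul.1 (mul_inv_eq_one.1 e) : Commute a w)).symm
      · have h1 : a * w * a⁻¹ = z * w := mul_inv_eq_iff_eq_mul.1 e
        have haz : a * z * a⁻¹ = z := mul_inv_eq_iff_eq_mul.2 (D.comm_z (oc_le z ha.1)).eq
        have h2 : a * a * w * (a * a)⁻¹ = w := by
          rw [show a * a * w * (a * a)⁻¹ = a * (a * w * a⁻¹) * a⁻¹ by group, h1,
            show a * (z * w) * a⁻¹ = (a * z * a⁻¹) * (a * w * a⁻¹) by group, haz, h1, ← mul_assoc,
            D.zz, one_mul]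
        exact (mul_inv_eq_iff_eq_mul.1 h2 : Commute (a * a) w).symm
    rcases D.set'.center_cases (mul_mem ha.1 ha.1) hcen with h' | h'
    · exact hc.ne_one D (h.symm.trans h')
    · exact hc.ne (h.symm.trans h')

theorem card_inter : Nat.card ↥(oc z ⊓ oc u) ≤ 2 ^ 7 := by
  have h := card_elem_le D.set' (K := oc z ⊓ oc u) inf_le_left ⟨D.z_mem, hc.z_mem D⟩
    (fun a ha b hb => hc.inter_comm D ha hb) (fun a ha => hc.inter_sq D ha)
  rw [hc.card_oc D] at h
  by_contra hlt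
  have : (2 ^ 7 + 1) * (2 ^ 7 + 1) ≤ Nat.card ↥(oc z ⊓ oc u) * Nat.card ↥(oc z ⊓ oc u) :=
    Nat.mul_le_mul (by omega) (by omega)
  omega

theorem mem_image {γ : Equiv.Perm V} :
    γ ∈ xImage D u ↔ ∃ x ∈ xSub z u, lin ρ x = γ := by
  constructor
  · rintro ⟨x, hx, rfl⟩; exact ⟨x, hx, rfl⟩
  · rintro ⟨x, hx, rfl⟩; exact ⟨⟨x, hx.2⟩, hx, rfl⟩

theorem image_le : xImage D u ≤ ρ.range := by
  rintro γ hγ
  obtain ⟨x, hx, rfl⟩ := (hc.mem_image D).1 hγ
  exact D.lin_mem hx.2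

theorem image_fix : ∀ a ∈ xImage D u, a (vec π u) = vec π u := by
  intro a ha
  obtain ⟨x, hx, rfl⟩ := (hc.mem_image D).1 ha
  rw [← D.vec_conj_lin hx.2 hc.mem, mul_inv_eq_iff_eq_mul.2 ((hc.setting D).comm_z hx.1).eq]

/-- Elements of `M` fixing the vector of `u` centralise `u`. -/
theorem commute_lift {n : G} (hn : n ∈ mSub z P) (h : act ρ n (vec π u) = vec π u) : Commute n u :=
  D.commute_of_fix hn hc.mem h (Or.inr (hc.sq D))

theorem image_normal : ∀ γ ∈ ρ.range, γ (vec π u) = vec π u → ∀ a ∈ xImage D u,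
    γ * a * γ⁻¹ ∈ xImage D u := by
  rintro _ ⟨⟨n, hn⟩, rfl⟩ hfix a ha
  obtain ⟨x, hx, rfl⟩ := (hc.mem_image D).1 ha
  rw [← act_of_mem hn] at hfix ⊢
  have hnu : n * u * n⁻¹ = u := mul_inv_eq_iff_eq_mul.2 (hc.commute_lift D hn hfix).eq
  have hnz : n ∈ centralizer ({z} : Set G) := hn.1
  refine (hc.mem_image D).2 ⟨n * x * n⁻¹, ⟨?_, (centralizer ({z} : Set G)).mul_mem
    ((centralizer ({z} : Set G)).mul_mem hnz hx.2) ((centralizer ({z} : Set G)).inv_mem hnz)⟩, ?_⟩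
  · have := conj_mem_oc (g := n) hx.1
    rwa [hnu] at this
  · rw [(D.lin_mul (mul_mem hnz hx.2) (inv_mem hnz)).1, (D.lin_mul hnz hx.2).1, D.lin_inv hnz,
      (D.lin_mSub hn).1]

theorem image_sq : ∀ a ∈ xImage D u, a * a = 1 := by
  intro a ha
  obtain ⟨x, hx, rfl⟩ := (hc.mem_image D).1 ha
  rw [← (D.lin_mul hx.2 hx.2).1]
  rcases hc.sq_cases_u D hx.1 with h | h <;> rw [h]
  exacts [(D.lin_oc (one_mem _)).1, (D.lin_oc hc.mem).1]

/-- The kernel of `X → Γ` is `E ∩ X`. -/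
theorem card_image : Nat.card ↥(xImage D u) * Nat.card ↥(oc z ⊓ oc u) = 2 ^ 12 := by
  set f := (ActData.linHom D).comp (inclusion (xSub_le z u)) with hf
  have hr : f.range = xImage D u := by
    ext γ
    rw [hc.mem_image D]
    constructor
    · rintro ⟨x, rfl⟩; exact ⟨x, x.2, rfl⟩
    · rintro ⟨x, hx, rfl⟩; exact ⟨⟨x, hx⟩, rfl⟩
  have hk : f.ker.map (xSub z u).subtype = oc z ⊓ oc u := by
    ext x
    constructor
    · rintro ⟨y, hy, rfl⟩
      exact ⟨(D.lin_eq_one y.2.2).1 hy, y.2.1⟩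
    · intro hx
      exact ⟨⟨x, hc.inter_le_xSub D hx⟩, (D.lin_oc hx.1).1, rfl⟩
  rw [← hc.card_xSub D, ← hr, ← index_ker, ← hk, card_map_of_injective (subtype_injective _),
    mul_comm, card_mul_index]

theorem image_big : 32 ≤ Nat.card ↥(xImage D u) := by
  have h := hc.card_image D
  by_contra hlt
  have : Nat.card ↥(xImage D u) * Nat.card ↥(oc z ⊓ oc u) ≤ 31 * 2 ^ 7 :=
    Nat.mul_le_mul (by omega) (hc.card_inter D)
  omega

end Conf

variable (L : LinFacts ρ.range (gammaZero ρ) q v₀ f₀ Q₀)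
include L

/-- There is an orthogonal conjugate with vector `v₀`; its linear parts form `Q₀`. -/
theorem exists_normal_conf {u : G} (hc : Conf z u) (D : ActData z P π ρ q) :
    ∃ u' : G, Conf z u' ∧ vec π u' = v₀ ∧ xImage D u' = Q₀ := by
  obtain ⟨γ, hγ, hγv, -⟩ := L.stab _ (hc.vec_ne D) (hc.vec_sing D) _ (hc.image_le D)
    (hc.image_fix D) (hc.image_normal D) (hc.image_sq D) (hc.image_big D)
  obtain ⟨⟨n, hn⟩, rfl⟩ := hγ
  rw [← act_of_mem hn] at hγv
  have hnz : n ∈ centralizer ({z} : Set G) := hn.1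
  obtain ⟨g, hg⟩ := hc.conj
  have hc' : Conf z (n * u * n⁻¹) := ⟨oc_conj_mem hnz hc.mem, fun h => hc.ne (by
    have := mul_inv_eq_iff_eq_mul.1 h
    rw [(D.comm_z hnz).eq.symm] at this
    exact mul_left_cancel this), ⟨n * g, by rw [← hg]; group⟩⟩
  have hv : vec π (n * u * n⁻¹) = v₀ := by rw [D.vec_conj hn hc.mem, hγv]
  refine ⟨_, hc', hv, ?_⟩
  obtain ⟨δ, hδ, hδv, hδa⟩ := L.stab _ (hc'.vec_ne D) (hc'.vec_sing D) _ (hc'.image_le D)
    (hc'.image_fix D) (hc'.image_normal D) (hc'.image_sq D) (hc'.image_big D)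
  have : Finite V := Finite.of_surjective _ (Multiplicative.toAdd.surjective.comp D.surj)
  refine eq_of_le_of_card_ge (fun a ha => ?_) (by rw [L.Q_card]; exact hc'.image_big D)
  have hinv : δ⁻¹ (vec π (n * u * n⁻¹)) = vec π (n * u * n⁻¹) := by
    conv_lhs => arg 2; rw [hv, ← hδv]
    rw [Equiv.Perm.inv_def, Equiv.symm_apply_apply]
  have h1 := hδa _ (hc'.image_normal D δ⁻¹ (inv_mem hδ) hinv a ha)
  rwa [inv_inv, show δ * (δ⁻¹ * a * δ) * δ⁻¹ = a by group] at h1

end Cfsg.Agent.J4Type
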